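import Cfsg.Agent.ClassicalMax.Transvection
import Cfsg.Agent.ClassicalMax.Generic

/-!
Overgroups in `GL_F(V)` of the group of maps linear over an extension field `K` and of determinant one over `F`:
elementary operators, transitivity, and invariance of translation groups under multiplication by `K`.
-/

set_option autoImplicit false
set_option linter.unusedSectionVars false
set_option linter.style.haveILetI false

namespace Cfsg.Agent.ClassicalMax.ExtField

open Module

variable {F K V : Type*} [Field F] [Field K] [Algebra F K] [AddCommGroup V] [Module F V] [Module K V]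
  [IsScalarTower F K V]

/-- membership of an endomorphism in a group of automorphisms -/
def InX (X : Subgroup (V ≃ₗ[F] V)) (E : Module.End F V) : Prop :=
  ∃ g ∈ X, g.toLinearMap = E

omit [Field K] [Algebra F K] [Module K V] [IsScalarTower F K V] in
theorem InX.mul {X : Subgroup (V ≃ₗ[F] V)} {A B : Module.End F V} (ha : InX X A) (hb : InX X B) : InX X (A * B) := by
  obtain ⟨g, hg, rfl⟩ := ha
  obtain ⟨h, hh, rfl⟩ := hb
  exact ⟨g * h, mul_mem hg hh, rfl⟩

omit [Field K] [Algebra F K] [Module K V] [IsScalarTower F K V] in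
theorem InX.one (X : Subgroup (V ≃ₗ[F] V)) : InX X 1 := ⟨1, one_mem X, rfl⟩

omit [Field K] [Algebra F K] [Module K V] [IsScalarTower F K V] in
theorem InX.inv {X : Subgroup (V ≃ₗ[F] V)} {A B : Module.End F V} (ha : InX X A) (h : A * B = 1) : InX X B := by
  obtain ⟨g, hg, rfl⟩ := ha
  refine ⟨g⁻¹, inv_mem hg, LinearMap.ext fun x => ?_⟩
  have := LinearMap.congr_fun h x
  simp only [Module.End.mul_apply, Module.End.one_apply, LinearEquiv.coe_coe] at this
  show g⁻¹ x = B x
  conv_lhs => rw [← this]
  exact inv_apply g (B x)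

omit [Field K] [Algebra F K] [Module K V] [IsScalarTower F K V] in
theorem InX.of_mem {X : Subgroup (V ≃ₗ[F] V)} {g : V ≃ₗ[F] V} (hg : g ∈ X) : InX X g.toLinearMap := ⟨g, hg, rfl⟩

omit [Field K] [Algebra F K] [Module K V] [IsScalarTower F K V] in
/-- an endomorphism `x ↦ x + f x • w` in the group is a transvection in it -/
theorem tvec_mem {X : Subgroup (V ≃ₗ[F] V)} {f : Dual F V} {w : V} (hf : f w = 0)
    (h : InX X (1 + f.smulRight w)) : tvec f w ∈ X := by
  obtain ⟨g, hg, e⟩ := h
  have : g = tvec f w := LinearEquiv.ext fun x => by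
    rw [tvec_apply hf]
    exact LinearMap.congr_fun e x
  exact this ▸ hg

omit [Field K] [Algebra F K] [Module K V] [IsScalarTower F K V] in
theorem inX_of_tvec {X : Subgroup (V ≃ₗ[F] V)} {f : Dual F V} {w : V} (hf : f w = 0)
    (h : tvec f w ∈ X) : InX X (1 + f.smulRight w) :=
  ⟨_, h, LinearMap.ext fun x => tvec_apply hf x⟩

/-- the operator `x ↦ h (φ x) • v` -/
def op (φ : Dual K V) (h : K →ₗ[F] K) (v : V) : Module.End F V :=
  ((LinearMap.toSpanSingleton K V v).restrictScalars F).comp (h.comp (φ.restrictScalars F))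

@[simp] theorem op_apply (φ : Dual K V) (h : K →ₗ[F] K) (v : V) (x : V) : op φ h v x = h (φ x) • v := rfl

theorem op_mul_op {φ ψ : Dual K V} {v : V} (hv : φ v = 0) (h h' : K →ₗ[F] K) : op φ h v * op ψ h' v = 0 :=
  LinearMap.ext fun x => by simp [hv]

theorem op_add (φ : Dual K V) (h h' : K →ₗ[F] K) (v : V) : op φ (h + h') v = op φ h v + op φ h' v :=
  LinearMap.ext fun x => by simp [add_smul]

theorem op_smulRight (φ : Dual K V) (f : Dual F K) (c : K) (v : V) :
    op φ (f.smulRight c) v = (f.comp (φ.restrictScalars F)).smulRight (c • v) :=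
  LinearMap.ext fun x => by simp [smul_assoc]

/-- a one-parameter dilation `x ↦ x + (a - 1) χ x • e` -/
def dil (χ : Dual K V) (e : V) (a : K) : Module.End F V :=
  1 + op χ (LinearMap.mulLeft F (a - 1)) e

theorem dil_apply (χ : Dual K V) (e : V) (a : K) (x : V) : (dil χ e a : Module.End F V) x = x + ((a - 1) * χ x) • e := rfl

theorem exists_dual_one' (W : Submodule K V) {x : V} (hx : x ∉ W) : ∃ φ : Dual K V, φ x = 1 ∧ ∀ w ∈ W, φ w = 0 :=
  exists_dual_one W hx

/-- the standing hypotheses -/
structure Over (X : Subgroup (V ≃ₗ[F] V)) (K : Type*) [Field K] [Algebra F K] [Module K V] [IsScalarTower F K V] : Prop where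
  prime : (finrank F K).Prime
  dim : 2 ≤ finrank K V
  le : ∀ D : V ≃ₗ[K] V, LinearMap.det (D.toLinearMap.restrictScalars F) = 1 → InX X (D.toLinearMap.restrictScalars F)

variable [Finite K] [FiniteDimensional F V] {X : Subgroup (V ≃ₗ[F] V)}

theorem Over.finK (hO : Over X K) : FiniteDimensional F K := Module.finite_of_finrank_pos hO.prime.pos

omit [Finite K] in
theorem Over.finV (hO : Over X K) : FiniteDimensional K V := Module.finite_of_finrank_pos (by have := hO.dim; omega)

theorem Over.op_mem (hO : Over X K) {φ : Dual K V} {v : V} (hv : φ v = 0) (c : K) :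
    InX X (1 + op φ (LinearMap.mulLeft F c) v) := by
  haveI := hO.finV
  haveI := hO.finK
  have h0 : (c • φ) v = 0 := by simp [hv]
  have h := hO.le (LinearEquiv.transvection h0) (by
    rw [LinearMap.det_restrictScalars, LinearEquiv.transvection.coe_toLinearMap, LinearMap.transvection.det, h0,
      add_zero, map_one])
  convert h using 1
  exact LinearMap.ext fun x => rfl

theorem dil_mul_dil {χ : Dual K V} {e : V} (he : χ e = 1) {a b : K} (hab : a * b = 1) :
    (dil χ e a : Module.End F V) * dil χ e b = 1 := LinearMap.ext fun x => by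
  rw [Module.End.mul_apply, dil_apply, dil_apply, map_add, map_smul, he, smul_eq_mul, Module.End.one_apply, add_assoc,
    ← add_smul]
  have : (b - 1) * χ x + (a - 1) * (χ x + (b - 1) * χ x * 1) = 0 := by linear_combination χ x * hab
  rw [this, zero_smul, add_zero]

theorem Over.dil_mem (hO : Over X K) {χ : Dual K V} {e : V} (he : χ e = 1) {a : K} (ha : Algebra.norm F a = 1) :
    InX X (dil χ e a) := by
  haveI := hO.finV
  haveI := hO.finK
  have ha0 : a ≠ 0 := by rintro rfl; simp at ha
  let T : V →ₗ[K] V := LinearMap.transvection ((a - 1) • χ) e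
  let T' : V →ₗ[K] V := LinearMap.transvection ((a⁻¹ - 1) • χ) e
  have hT : ∀ x, T x = x + ((a - 1) * χ x) • e := fun x => rfl
  have hT' : ∀ x, T' x = x + ((a⁻¹ - 1) * χ x) • e := fun x => rfl
  have h1 : T.comp T' = LinearMap.id := LinearMap.ext fun x =>
    LinearMap.congr_fun (dil_mul_dil (F := F) he (mul_inv_cancel₀ ha0)) x
  have h2 : T'.comp T = LinearMap.id := LinearMap.ext fun x =>
    LinearMap.congr_fun (dil_mul_dil (F := F) he (inv_mul_cancel₀ ha0)) x
  have h := hO.le (LinearEquiv.ofLinearMap T T' h1 h2) (by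
    rw [LinearMap.det_restrictScalars]
    show Algebra.norm F (LinearMap.det T) = 1
    rw [LinearMap.transvection.det]
    simp [he, ha])
  convert h using 1
  exact LinearMap.ext fun x => rfl

omit [Finite K] in
/-- transitivity on non-zero vectors by maps linear over `K` -/
theorem Over.trans_aux (hO : Over X K) {x y : V} (hx : x ≠ 0) (hy : y ≠ 0) : ∃ D : V ≃ₗ[K] V,
    LinearMap.det D.toLinearMap = 1 ∧ D x = y := by
  haveI := hO.finV
  have step : ∀ x y : V, x ≠ 0 → y ∉ K ∙ x → ∃ D : V ≃ₗ[K] V, LinearMap.det D.toLinearMap = 1 ∧ D x = y := by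
    intro x y hx hy
    have hxy : x ∉ K ∙ (y - x) := by
      rw [Submodule.mem_span_singleton]
      rintro ⟨c, hc⟩
      rcases eq_or_ne c 0 with rfl | h0
      · exact hx (by rw [← hc, zero_smul])
      refine hy (Submodule.mem_span_singleton.2 ⟨c⁻¹ + 1, ?_⟩)
      rw [add_smul, one_smul]
      conv_lhs => arg 1; rw [← hc, smul_smul, inv_mul_cancel₀ h0, one_smul]
      abel
    obtain ⟨φ, hφ, h0⟩ := exists_dual_one' _ hxy
    have hd : φ (y - x) = 0 := h0 _ (Submodule.mem_span_singleton_self _)
    refine ⟨LinearEquiv.transvection hd, ?_, ?_⟩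
    · rw [LinearEquiv.transvection.coe_toLinearMap, LinearMap.transvection.det, hd, add_zero]
    · show x + φ x • (y - x) = y
      rw [hφ, one_smul, add_sub_cancel]
  by_cases h : y ∈ K ∙ x
  · obtain ⟨z, hz⟩ : ∃ z, z ∉ K ∙ x := by
      by_contra hc
      push Not at hc
      have := finrank_span_singleton (K := K) hx
      rw [show K ∙ x = ⊤ from eq_top_iff.2 fun z _ => hc z, finrank_top] at this
      have := hO.dim; omega
    have hz0 : z ≠ 0 := by rintro rfl; exact hz (zero_mem _)
    have hy' : y ∉ K ∙ z := fun h' => hz <| by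
      obtain ⟨c, hc⟩ := Submodule.mem_span_singleton.1 h'
      have hc0 : c ≠ 0 := by rintro rfl; exact hy (by rw [← hc, zero_smul])
      rw [← one_smul K z, ← inv_mul_cancel₀ hc0, mul_smul, hc]
      exact Submodule.smul_mem _ _ h
    obtain ⟨D₁, a₁, b₁⟩ := step x z hx hz
    obtain ⟨D₂, a₂, b₂⟩ := step z y hz0 hy'
    refine ⟨D₁.trans D₂, ?_, by rw [LinearEquiv.trans_apply, b₁, b₂]⟩
    rw [show (D₁.trans D₂).toLinearMap = D₂.toLinearMap.comp D₁.toLinearMap from rfl, LinearMap.det_comp, a₁, a₂, one_mul]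
  · exact step x y hx h

/-- transitivity inside the group, by an element linear over `K` -/
theorem Over.trans (hO : Over X K) {x y : V} (hx : x ≠ 0) (hy : y ≠ 0) :
    ∃ g ∈ X, g x = y ∧ ∀ (c : K) (z : V), g (c • z) = c • g z := by
  haveI := hO.finV
  haveI := hO.finK
  obtain ⟨D, hD, hxy⟩ := hO.trans_aux hx hy
  obtain ⟨g, hg, e⟩ := hO.le D (by rw [LinearMap.det_restrictScalars, hD, map_one])
  have e' : ∀ z, g z = D z := fun z => LinearMap.congr_fun e z
  exact ⟨g, hg, by rw [e', hxy], fun c z => by rw [e', e', map_smul]⟩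

/-- a set of scalars closed under sums and products containing the elements of norm one is everything -/
theorem Over.scalars_all (hO : Over X K) {P : K → Prop} (hadd : ∀ a b, P a → P b → P (a + b))
    (hmul : ∀ a b, P a → P b → P (a * b)) (hz : P 0) (hone : ∀ a, Algebra.norm F a = 1 → P a) : ∀ a, P a := by
  haveI := hO.finK
  haveI := Fintype.ofFinite K
  haveI : Finite F := Finite.of_injective _ (algebraMap F K).injective
  haveI := Fintype.ofFinite F
  have h1 : P 1 := hone 1 (map_one _)
  have hnat : ∀ n : ℕ, P (n : K) := by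
    intro n
    induction n with
    | zero => simpa using hz
    | succ n ih => push_cast; exact hadd _ _ ih h1
  have hneg1 : P (-1) := by
    obtain ⟨p, hp⟩ := CharP.exists K
    have hpp : p.Prime := CharP.char_is_prime K p
    have := hnat (p - 1)
    rwa [Nat.cast_sub hpp.one_le, CharP.cast_eq_zero, zero_sub, Nat.cast_one] at this
  have hneg : ∀ a, P a → P (-a) := fun a ha => by rw [← neg_one_mul]; exact hmul _ _ hneg1 ha
  have hpow : ∀ a, P a → ∀ n : ℕ, P (a ^ n) := fun a ha n => by
    induction n with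
    | zero => simpa using h1
    | succ n ih => rw [pow_succ]; exact hmul _ _ ih ha
  have hinv : ∀ a, P a → P a⁻¹ := fun a ha => by
    rcases eq_or_ne a 0 with rfl | h0
    · simpa using hz
    have : a⁻¹ = a ^ (Fintype.card K - 2) := by
      refine inv_eq_of_mul_eq_one_right ?_
      rw [← pow_succ', show Fintype.card K - 2 + 1 = Fintype.card K - 1 by
        have := Fintype.one_lt_card (α := K); omega, FiniteField.pow_card_sub_one_eq_one a h0]
    rw [this]; exact hpow a ha _
  let S : Subfield K :=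
    { carrier := {a | P a}, mul_mem' := fun ha hb => hmul _ _ ha hb, one_mem' := h1
      add_mem' := fun ha hb => hadd _ _ ha hb, zero_mem' := hz, neg_mem' := fun {a} ha => hneg a ha
      inv_mem' := fun a ha => hinv a ha }
  obtain ⟨θ, hθ⟩ := IsCyclic.exists_ofOrder_eq_natCard (α := Kˣ)
  set q := Fintype.card F with hqd
  have hq : 2 ≤ q := Fintype.one_lt_card
  set r := finrank F K with hrd
  have hr : 2 ≤ r := hO.prime.two_le
  have hK : Fintype.card K = q ^ r := Module.card_eq_pow_finrank
  set a : Kˣ := θ ^ (q - 1) with had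
  have haS : (a : K) ∈ S := hone _ (by
    have hne : Algebra.norm F (θ : K) ≠ 0 := Algebra.norm_ne_zero_iff.2 θ.ne_zero
    rw [had, Units.val_pow_eq_pow_val, map_pow, hqd, FiniteField.pow_card_sub_one_eq_one _ hne])
  have ha0 : (⟨(a : K), haS⟩ : S) ≠ 0 := fun h => a.ne_zero (congrArg Subtype.val h)
  let u : Sˣ := Units.mk0 _ ha0
  have hu : orderOf u = orderOf a := by
    rw [← orderOf_injective (Units.map (S.subtype : S →* K)) (Units.map_injective Subtype.val_injective) u]
    congr 1
    exact Units.ext rfl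
  have hle : orderOf a ≤ Nat.card Sˣ := hu ▸ Nat.le_of_dvd Nat.card_pos (orderOf_dvd_natCard u)
  have hSx : Nat.card Sˣ < Nat.card S := by
    rw [Nat.card_units]; have : 0 < Nat.card S := Nat.card_pos; omega
  have hgeo : q ^ (r - 1) < orderOf a := by
    obtain ⟨k, hk⟩ : q - 1 ∣ q ^ r - 1 := by simpa only [one_pow] using Nat.sub_dvd_pow_sub_pow q 1 r
    have hpos : 0 < q - 1 := by omega
    rw [had, orderOf_pow' _ (by omega : q - 1 ≠ 0), hθ, Nat.card_units, Nat.card_eq_fintype_card, hK, hk,
      Nat.gcd_eq_right (Dvd.intro k rfl), Nat.mul_div_cancel_left _ hpos]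
    by_contra hc
    push Not at hc
    have e1 : q ^ r = q ^ (r - 1) * q := by rw [← pow_succ, Nat.sub_add_cancel (by omega)]
    have h2 : 2 ≤ q ^ (r - 1) := le_trans hq (Nat.le_self_pow (by omega) q)
    have h3 : q ^ (r - 1) * (q - 1) + q ^ (r - 1) = q ^ (r - 1) * q := by
      rw [← Nat.mul_succ]; congr 1; omega
    have h4 : (q - 1) * k ≤ q ^ (r - 1) * (q - 1) := by rw [mul_comm]; exact Nat.mul_le_mul_right _ hc
    omega
  obtain ⟨d, hd⟩ : ∃ d, Nat.card K = Nat.card S ^ d := ⟨_, Module.natCard_eq_pow_finrank (K := S) (V := K)⟩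
  have hbig : Nat.card K < Nat.card S ^ 2 := by
    rw [Nat.card_eq_fintype_card, hK]
    calc q ^ r ≤ q ^ ((r - 1) * 2) := Nat.pow_le_pow_right (by omega) (by omega)
      _ = (q ^ (r - 1)) ^ 2 := by rw [pow_mul]
      _ < Nat.card S ^ 2 := Nat.pow_lt_pow_left (by omega) (by omega : (2 : ℕ) ≠ 0)
  have hS1 : 1 < Nat.card S := Finite.one_lt_card
  have hd1 : d = 1 := by
    have hd2 : d < 2 := (Nat.pow_lt_pow_iff_right hS1).1 (hd ▸ hbig)
    have : 1 < Nat.card K := Finite.one_lt_card
    rcases d with _ | d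
    · rw [pow_zero] at hd; omega
    · omega
  intro x
  have : (S : Set K) = Set.univ := Set.eq_of_subset_of_ncard_le (Set.subset_univ _)
    (by rw [Set.ncard_univ, hd, hd1, pow_one]; exact le_of_eq rfl)
  exact (Set.eq_univ_iff_forall.1 this x : x ∈ S)

/-- translation groups are invariant under multiplication by `K` on both sides -/
theorem Over.bimodule (hO : Over X K) {φ : Dual K V} (hφ : φ ≠ 0) {v : V} (hv0 : v ≠ 0) (hv : φ v = 0) {h : K →ₗ[F] K}
    (h1 : InX X (1 + op φ h v)) (a b : K) :
    InX X (1 + op φ (LinearMap.mulLeft F a ∘ₗ h ∘ₗ LinearMap.mulLeft F b) v) := by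
  have hsum : ∀ h h' : K →ₗ[F] K, (1 + op φ h v) * (1 + op φ h' v) = 1 + op φ (h + h') v := fun h h' => by
    rw [mul_add, mul_one, add_mul, one_mul, op_mul_op hv, add_zero, op_add, add_assoc]
  have hzero : InX X (1 + op φ (0 : K →ₗ[F] K) v) := by
    rw [show op φ (0 : K →ₗ[F] K) v = 0 from LinearMap.ext fun x => by simp, add_zero]
    exact InX.one X
  have hL : ∀ a : K, ∀ h, InX X (1 + op φ h v) → InX X (1 + op φ (LinearMap.mulLeft F a ∘ₗ h) v) := by
    refine hO.scalars_all (fun a b ha hb h hh => ?_) (fun a b ha hb h hh => ?_) (fun h hh => ?_) (fun a ha h hh => ?_)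
    · rw [show LinearMap.mulLeft F (a + b) ∘ₗ h = LinearMap.mulLeft F a ∘ₗ h + LinearMap.mulLeft F b ∘ₗ h from
        LinearMap.ext fun c => by simp [add_mul], ← hsum]
      exact (ha h hh).mul (hb h hh)
    · rw [show LinearMap.mulLeft F (a * b) ∘ₗ h = LinearMap.mulLeft F a ∘ₗ (LinearMap.mulLeft F b ∘ₗ h) from
        LinearMap.ext fun c => by simp [mul_assoc]]
      exact ha _ (hb h hh)
    · rw [show LinearMap.mulLeft F (0 : K) ∘ₗ h = 0 from LinearMap.ext fun c => by simp]; exact hzero
    · obtain ⟨χ, hχ, -⟩ := exists_dual_one' (⊥ : Submodule K V) (by rwa [Submodule.mem_bot])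
      have ha0 : a ≠ 0 := by rintro rfl; haveI := hO.finK; simp at ha
      have hd := hO.dil_mem hχ ha
      have hd' : InX X (dil χ v a⁻¹ : Module.End F V) := hd.inv (dil_mul_dil hχ (mul_inv_cancel₀ ha0))
      convert (hd.mul hh).mul hd' using 1
      refine LinearMap.ext fun x => ?_
      have e := LinearMap.congr_fun (dil_mul_dil (F := F) hχ (mul_inv_cancel₀ ha0) : dil χ v a * dil χ v a⁻¹ = 1) x
      simp only [Module.End.mul_apply, Module.End.one_apply] at e
      simp only [Module.End.mul_apply, LinearMap.add_apply, Module.End.one_apply, map_add, e, op_apply]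
      congr 1
      rw [dil_apply, dil_apply, map_add, map_smul, hv, smul_zero, add_zero, map_smul, hχ, smul_eq_mul, mul_one]
      rw [← add_smul]
      congr 1
      simp; ring
  have hR : ∀ b : K, ∀ h, InX X (1 + op φ h v) → InX X (1 + op φ (h ∘ₗ LinearMap.mulLeft F b) v) := by
    refine hO.scalars_all (fun a b ha hb h hh => ?_) (fun a b ha hb h hh => ?_) (fun h hh => ?_) (fun a ha h hh => ?_)
    · rw [show h ∘ₗ LinearMap.mulLeft F (a + b) = h ∘ₗ LinearMap.mulLeft F a + h ∘ₗ LinearMap.mulLeft F b from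
        LinearMap.ext fun c => by simp [add_mul], ← hsum]
      exact (ha h hh).mul (hb h hh)
    · rw [show h ∘ₗ LinearMap.mulLeft F (a * b) = (h ∘ₗ LinearMap.mulLeft F a) ∘ₗ LinearMap.mulLeft F b from
        LinearMap.ext fun c => by simp [mul_assoc]]
      exact hb _ (ha h hh)
    · rw [show h ∘ₗ LinearMap.mulLeft F (0 : K) = 0 from LinearMap.ext fun c => by simp]; exact hzero
    · obtain ⟨e, he⟩ : ∃ e, φ e = 1 := by
        obtain ⟨x, hx⟩ : ∃ x, φ x ≠ 0 := by by_contra! hc; exact hφ (LinearMap.ext hc)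
        exact ⟨(φ x)⁻¹ • x, by rw [map_smul, smul_eq_mul, inv_mul_cancel₀ hx]⟩
      have ha0 : a ≠ 0 := by rintro rfl; haveI := hO.finK; simp at ha
      have hd := hO.dil_mem he ha
      have hd' : InX X (dil φ e a⁻¹ : Module.End F V) := hd.inv (dil_mul_dil he (mul_inv_cancel₀ ha0))
      convert (hd'.mul hh).mul hd using 1
      refine LinearMap.ext fun x => ?_
      have e' := LinearMap.congr_fun (dil_mul_dil (F := F) he (inv_mul_cancel₀ ha0) : dil φ e a⁻¹ * dil φ e a = 1) x
      simp only [Module.End.mul_apply, Module.End.one_apply] at e'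
      simp only [Module.End.mul_apply, LinearMap.add_apply, Module.End.one_apply, map_add, e', op_apply]
      congr 1
      rw [dil_apply, dil_apply, map_smul, map_add, map_smul, he, hv]
      simp only [smul_eq_mul, mul_one, mul_zero, zero_smul, add_zero]
      rw [show φ x + (a - 1) * φ x = a * φ x by ring]
      rfl
  exact hL a _ (hR b h h1)

end Cfsg.Agent.ClassicalMax.ExtField
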