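import Cfsg.Agent.ClassicalMax.ExtField.Matrix

/-!
Matrices normalising an embedded extension field are exactly the semilinear ones.
-/

set_option autoImplicit false
set_option linter.unusedSectionVars false

namespace Cfsg.Agent.ClassicalMax.ExtField

open Module

section

variable {ι : Type} [Fintype ι] [DecidableEq ι] {F : Type*} [Field F] {L : Type*} [Field L] [Algebra F L]
  [Module L (ι → F)] (j : L →ₐ[F] Matrix ι ι F) (K : Subalgebra F (Matrix ι ι F))

theorem mem_normalizer_of_linear (hsmul : ∀ (k : L) (x : ι → F), k • x = (j k).mulVec x) (hjK : ∀ x, x ∈ K ↔ ∃ k, j k = x)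
    (g : Matrix.GeneralLinearGroup ι F) (hg : ∀ (k : L) (x : ι → F), glEquiv ι F g (k • x) = k • glEquiv ι F g x) :
    g ∈ Cfsg.Geo.subalgebraNormalizer K := by
  let e : Matrix ι ι F ≃ₐ[F] Module.End F (ι → F) := Matrix.toLinAlgEquiv'
  have hc : ∀ k : L, (g : Matrix ι ι F) * j k = j k * g := fun k => by
    refine e.injective (LinearMap.ext fun x => ?_)
    show ((g : Matrix ι ι F) * j k).mulVec x = (j k * g).mulVec x
    rw [← Matrix.mulVec_mulVec, ← Matrix.mulVec_mulVec]
    simpa only [hsmul, glEquiv_apply] using hg k x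
  have hfix : ∀ k ∈ K, (g : Matrix ι ι F) * k * ((g⁻¹ : Matrix.GeneralLinearGroup ι F) : Matrix ι ι F) = k := fun k hk => by
    obtain ⟨l, rfl⟩ := (hjK k).1 hk
    rw [hc l, mul_assoc, ← Units.val_mul, mul_inv_cancel, Units.val_one, mul_one]
  intro k
  refine ⟨fun hk => by rwa [hfix k hk], fun hk => ?_⟩
  have h' := hfix _ hk
  have : (g : Matrix ι ι F) * k * ((g⁻¹ : Matrix.GeneralLinearGroup ι F) : Matrix ι ι F) = k :=
    (Units.mul_right_inj g).1 ((Units.mul_left_inj g⁻¹).1 h')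
  exact this ▸ hk

theorem exists_nonline [Finite L] [Nontrivial (Matrix ι ι F)] (hsmul : ∀ (k : L) (x : ι → F), k • x = (j k).mulVec x)
    (hjK : ∀ x, x ∈ K ↔ ∃ k, j k = x) (hdim : ∀ x : ι → F, ∃ z, z ∉ L ∙ x) (g : Matrix.GeneralLinearGroup ι F)
    (hg : g ∉ Cfsg.Geo.subalgebraNormalizer K) :
    ∃ (k : L) (x : ι → F), glEquiv ι F g (k • x) ∉ L ∙ glEquiv ι F g x := by
  classical
  let e : Matrix ι ι F ≃ₐ[F] Module.End F (ι → F) := Matrix.toLinAlgEquiv'
  have hjinj : Function.Injective j := (j : L →+* Matrix ι ι F).injective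
  set G := glEquiv ι F with hG
  have hconj : ∀ (g : Matrix.GeneralLinearGroup ι F) (k : Matrix ι ι F) (y : ι → F),
      ((g : Matrix ι ι F) * k * ((g⁻¹ : Matrix.GeneralLinearGroup ι F) : Matrix ι ι F)).mulVec (G g y) = G g (k.mulVec y) := by
    intro g k y
    rw [hG, glEquiv_apply, glEquiv_apply, Matrix.mulVec_mulVec, Matrix.mulVec_mulVec, mul_assoc, ← Units.val_mul, inv_mul_cancel,
      Units.val_one, mul_one]
  by_contra hc
  push Not at hc
  apply hg
  have hmem : ∀ k : L, ∃ c : L, (g : Matrix ι ι F) * j k * ((g⁻¹ : Matrix.GeneralLinearGroup ι F) : Matrix ι ι F) = j c := fun k => by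
    set T : Matrix ι ι F := (g : Matrix ι ι F) * j k * ((g⁻¹ : Matrix.GeneralLinearGroup ι F) : Matrix ι ι F) with hT
    obtain ⟨c, hc'⟩ := scalar_of_lines hdim (e T).toAddMonoidHom fun x => by
      have h1 : T.mulVec (G g ((G g)⁻¹ x)) = G g ((j k).mulVec ((G g)⁻¹ x)) := hconj g (j k) _
      rw [apply_inv] at h1
      show T.mulVec x ∈ L ∙ x
      rw [h1]
      have h2 := hc k ((G g)⁻¹ x)
      rw [apply_inv] at h2
      rw [← hsmul]
      exact h2
    exact ⟨c, e.injective (LinearMap.ext fun x => (hc' x).trans (hsmul c x))⟩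
  choose f hf using hmem
  intro k
  refine ⟨fun hk => ?_, fun hk => ?_⟩
  · obtain ⟨l, rfl⟩ := (hjK k).1 hk
    exact (hjK _).2 ⟨f l, (hf l).symm⟩
  · obtain ⟨l, hl⟩ := (hjK _).1 hk
    have hfinj : Function.Injective f := fun a b h => hjinj
      ((Units.mul_right_inj g).1 ((Units.mul_left_inj g⁻¹).1 (by rw [hf a, hf b, h])))
    obtain ⟨l', rfl⟩ := (Finite.injective_iff_surjective.1 hfinj) l
    rw [← hf] at hl
    exact (hjK k).2 ⟨l', (Units.mul_right_inj g).1 ((Units.mul_left_inj g⁻¹).1 hl)⟩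

end

end Cfsg.Agent.ClassicalMax.ExtField
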