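import Cfsg.Agent.ClassicalMax.ExtField.Basic

/-!
An element outside the normaliser of the extension field moves some `K`-line onto a subspace meeting it in a
hyperplane.
-/

set_option autoImplicit false
set_option linter.unusedSectionVars false
set_option linter.style.haveILetI false

namespace Cfsg.Agent.ClassicalMax.ExtField

open Module

variable {F K V : Type*} [Field F] [Field K] [Algebra F K] [AddCommGroup V] [Module F V] [Module K V]
  [IsScalarTower F K V] [Finite K] [FiniteDimensional F V] {X : Subgroup (V ≃ₗ[F] V)}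

/-- the configuration: the image under `g` of the line of `v` is spanned by `b` and the hyperplane `ker ℓ` of that line -/
structure Core (X : Subgroup (V ≃ₗ[F] V)) (g : V ≃ₗ[F] V) (v b : V) (φ : Dual K V) (l : K →ₗ[F] F) : Prop where
  mem : g ∈ X
  ne : v ≠ 0
  map_v : φ v = 0
  map_b : φ b = 1
  one : l 1 = 0
  lne : l ≠ 0
  image : ∀ x, (∃ c : K, g (c • v) = x) ↔ ∃ (c : K) (t : F), l c = 0 ∧ x = c • v + t • b

/-- the line of a vector as a space over `F` -/
def ln (F K : Type*) {V : Type*} [Field F] [Field K] [Algebra F K] [AddCommGroup V] [Module F V] [Module K V]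
    [IsScalarTower F K V] (v : V) : Submodule F V :=
  LinearMap.range ((LinearMap.toSpanSingleton K V v).restrictScalars F)

theorem mem_ln {v x : V} : x ∈ ln F K v ↔ ∃ c : K, c • v = x := LinearMap.mem_range

theorem self_mem_ln (v : V) : v ∈ ln F K v := mem_ln.2 ⟨1, one_smul K v⟩

theorem finrank_ln {v : V} (hv : v ≠ 0) : finrank F (ln F K v) = finrank F K :=
  LinearMap.finrank_range_of_inj fun a b h => smul_left_injective K hv h

theorem ln_eq_of_mem {v w : V} (hw : w ∈ ln F K v) (hw0 : w ≠ 0) : ln F K w = ln F K v := by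
  obtain ⟨c, rfl⟩ := mem_ln.1 hw
  have hc : c ≠ 0 := by rintro rfl; exact hw0 (zero_smul K v)
  ext x
  rw [mem_ln, mem_ln]
  exact ⟨fun ⟨a, e⟩ => ⟨a * c, by rw [mul_smul, e]⟩, fun ⟨a, e⟩ => ⟨a * c⁻¹, by rw [smul_smul, inv_mul_cancel_right₀ hc, e]⟩⟩

theorem exists_core (hO : Over X K) (hsl : ∃ g ∈ X, ∃ (k : K) (x : V), g (k • x) ∉ K ∙ g x) :
    ∃ (g : V ≃ₗ[F] V) (v b : V) (φ : Dual K V) (l : K →ₗ[F] F), Core X g v b φ l := by
  haveI := hO.finK
  haveI := hO.finV
  haveI : Finite V := Module.finite_of_finite K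
  haveI : Finite (V ≃ₗ[F] V) := Finite.of_injective (fun g => (g : V → V)) DFunLike.coe_injective
  -- a pair (element, line) with a proper non-trivial intersection
  obtain ⟨g₀, hg₀, k, x, hkx⟩ := hsl
  have hx : x ≠ 0 := by rintro rfl; simp at hkx
  obtain ⟨D, hD, hDx, hDs⟩ := hO.trans (g₀.map_ne_zero_iff.2 hx) hx
  let img : (V ≃ₗ[F] V) → Submodule F V := fun g => (ln F K x).map g.toLinearMap
  let A := ln F K x
  have hA : finrank F A = finrank F K := finrank_ln hx
  have himg : ∀ g, finrank F (img g) = finrank F K := fun g => (LinearEquiv.finrank_map_eq g A).trans hA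
  let P : Set (V ≃ₗ[F] V) := {g | g ∈ X ∧ img g ≠ A}
  have hg1 : D * g₀ ∈ P := by
    refine ⟨mul_mem hD hg₀, fun h => hkx ?_⟩
    have : (D * g₀) (k • x) ∈ A := h ▸ Submodule.mem_map_of_mem (mem_ln.2 ⟨k, rfl⟩)
    obtain ⟨c, hc⟩ := mem_ln.1 this
    refine Submodule.mem_span_singleton.2 ⟨c, D.injective ?_⟩
    rw [hDs, hDx, hc]
    rfl
  obtain ⟨g, ⟨hgX, hgA⟩, hmax⟩ := Set.exists_max_image P (fun g => finrank F (A ⊓ img g : Submodule F V)) P.toFinite ⟨_, hg1⟩
  set B := img g with hB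
  set U : Submodule F V := A ⊓ B with hU
  have hUne : U ≠ ⊥ := fun h => by
    have hm : x ∈ A ⊓ img (D * g₀) := ⟨self_mem_ln x, ⟨x, self_mem_ln x, hDx⟩⟩
    have h1 : 0 < finrank F (A ⊓ img (D * g₀) : Submodule F V) :=
      Submodule.one_le_finrank_iff.2 (fun h' => hx ((Submodule.mem_bot F).1 (h' ▸ hm)))
    have h2 : finrank F (A ⊓ img (D * g₀) : Submodule F V) ≤ finrank F U := hmax _ hg1
    have h3 : finrank F U = 0 := by rw [h, finrank_bot]
    omega
  obtain ⟨v, hvU, hv0⟩ := Submodule.exists_mem_ne_zero_of_ne_bot hUne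
  have hAv : ln F K v = A := ln_eq_of_mem hvU.1 hv0
  have hAB : ¬ A ≤ B := fun h => hgA (Submodule.eq_of_le_of_finrank_le h (le_of_eq ((himg g).trans hA.symm))).symm
  have hinA : ∀ c : K, c • v ∈ A := fun c => hAv ▸ mem_ln.2 ⟨c, rfl⟩
  let UK : Submodule F K := B.comap ((LinearMap.toSpanSingleton K V v).restrictScalars F)
  have hUK : ∀ c, c ∈ UK ↔ c • v ∈ B := fun c => Iff.rfl
  have hUKtop : UK ≠ ⊤ := fun h => hAB fun y hy => by
    obtain ⟨c, rfl⟩ := mem_ln.1 (hAv.symm ▸ hy : y ∈ ln F K v)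
    exact (hUK c).1 (h ▸ Submodule.mem_top)
  have h1UK : (1 : K) ∈ UK := (hUK 1).2 (by rw [one_smul]; exact hvU.2)
  -- the dichotomy
  have hdich : ∀ (φ : Dual K V), φ v = 0 → ∀ (a : K), (∀ y ∈ B, φ y * a ∈ UK) ∨ (∀ y ∈ B, φ y * a ∈ UK → y ∈ U) := by
    intro φ hφ a
    have hφa : φ (a • v) = 0 := by rw [map_smul, hφ, smul_zero]
    obtain ⟨T, hT, eT⟩ := hO.op_mem hφa 1
    have hTy : ∀ y, T y = y + (φ y * a) • v := fun y => by
      have := LinearMap.congr_fun eT y
      simpa [smul_smul] using this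
    let g' := g⁻¹ * T * g
    have hg' : g' ∈ X := mul_mem (mul_mem (inv_mem hgX) hT) hgX
    have hinter : (A ⊓ img g').map g.toLinearMap = B ⊓ B.map T.toLinearMap := by
      rw [Submodule.map_inf _ g.injective]
      congr 1
      show (A.map g'.toLinearMap).map g.toLinearMap = (A.map g.toLinearMap).map T.toLinearMap
      rw [← Submodule.map_comp, ← Submodule.map_comp]
      congr 1
      exact LinearMap.ext fun y => apply_inv g _
    by_cases hp : g' ∈ P
    · refine Or.inr fun y hy hya => ?_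
      let Q : Submodule F V := B ⊓ UK.comap ((LinearMap.mulRight F a).comp (φ.restrictScalars F))
      have hQ : ∀ z, z ∈ Q ↔ z ∈ B ∧ φ z * a ∈ UK := fun z => Iff.rfl
      have hUQ : U ≤ Q := fun z hz => (hQ z).2 ⟨hz.2, by
        obtain ⟨c, rfl⟩ := mem_ln.1 (hAv.symm ▸ hz.1 : z ∈ ln F K v)
        rw [map_smul, hφ, smul_zero, zero_mul]; exact zero_mem _⟩
      have hQB : Q ≤ B ⊓ B.map T.toLinearMap := fun z hz => by
        obtain ⟨hzB, hza⟩ := (hQ z).1 hz
        refine ⟨hzB, z - (φ z * a) • v, B.sub_mem hzB hza, ?_⟩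
        show T (z - (φ z * a) • v) = z
        rw [map_sub, hTy, hTy ((φ z * a) • v), map_smul, hφ, smul_zero, zero_mul, zero_smul, add_zero, add_sub_cancel_right]
      have hle : finrank F (B ⊓ B.map T.toLinearMap : Submodule F V) ≤ finrank F U := by
        rw [← hinter, LinearEquiv.finrank_map_eq g]
        exact hmax g' hp
      have : U = Q := Submodule.eq_of_le_of_finrank_le hUQ ((Submodule.finrank_mono hQB).trans hle)
      exact this ▸ (hQ y).2 ⟨hy, hya⟩
    · refine Or.inl fun y hy => ?_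
      have he : img g' = A := by
        by_contra hc
        exact hp ⟨hg', hc⟩
      have hTB : T y ∈ B := by
        have hy' : T y ∈ B ⊓ B.map T.toLinearMap → T y ∈ B := fun h => h.1
        apply hy'
        rw [← hinter, he, inf_idem]
        obtain ⟨z, hz, rfl⟩ := hy
        exact ⟨g⁻¹ (T (g z)), he ▸ ⟨z, hz, rfl⟩, apply_inv g _⟩
      rw [hTy] at hTB
      exact (B.add_mem_iff_right hy).1 hTB
  -- the multipliers of `UK` are the scalars
  have hmult : ∀ c : K, (∀ u ∈ UK, u * c ∈ UK) → ∃ t : F, algebraMap F K t = c := by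
    intro c hc
    let Mu : Subalgebra F K :=
      { carrier := {c | ∀ u ∈ UK, u * c ∈ UK}
        mul_mem' := fun {a b} ha hb u hu => by rw [← mul_assoc]; exact hb _ (ha u hu)
        one_mem' := fun u hu => by rwa [mul_one]
        add_mem' := fun {a b} ha hb u hu => by rw [mul_add]; exact add_mem (ha u hu) (hb u hu)
        zero_mem' := fun u _ => by rw [mul_zero]; exact zero_mem _
        algebraMap_mem' := fun t u hu => by rw [mul_comm, ← Algebra.smul_def]; exact UK.smul_mem t hu }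
    haveI := Subalgebra.isSimpleOrder_of_finrank_prime F K hO.prime
    rcases eq_bot_or_eq_top Mu with h | h
    · exact Algebra.mem_bot.1 (h ▸ (hc : c ∈ Mu))
    · refine absurd (eq_top_iff.2 fun z _ => ?_) hUKtop
      have hz : z ∈ Mu := h ▸ Algebra.mem_top
      simpa using hz 1 h1UK
  obtain ⟨b₁, hb₁, hb₁A⟩ : ∃ y ∈ B, y ∉ A := by
    by_contra hc
    push Not at hc
    exact hgA (Submodule.eq_of_le_of_finrank_le hc (le_of_eq (hA.trans (himg g).symm)))
  have hspan : b₁ ∉ K ∙ v := fun h => hb₁A (by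
    obtain ⟨c, rfl⟩ := Submodule.mem_span_singleton.1 h
    exact hinA c)
  obtain ⟨φ, hφb, hφ0⟩ := exists_dual_one' _ hspan
  have hφv : φ v = 0 := hφ0 v (Submodule.mem_span_singleton_self v)
  have hb₁U : b₁ ∉ U := fun h => hb₁A h.1
  have hdec : ∀ y ∈ B, ∃ t : F, y - t • b₁ ∈ U := by
    intro y hy
    obtain ⟨t, ht⟩ : ∃ t : F, algebraMap F K t = φ y := hmult _ fun u hu => by
      rcases hdich φ hφv u with h | h
      · rw [mul_comm]; exact h y hy
      · exact absurd (h b₁ hb₁ (by rwa [hφb, one_mul])) hb₁U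
    refine ⟨t, ?_⟩
    set z := y - t • b₁ with hz
    have hzB : z ∈ B := B.sub_mem hy (B.smul_mem t hb₁)
    have hφz : φ z = 0 := by
      rw [hz, map_sub, ← algebraMap_smul K t b₁, map_smul, hφb, smul_eq_mul, mul_one, ht, sub_self]
    by_contra hzU
    have hzA : z ∉ K ∙ v := fun h => hzU ⟨by
      obtain ⟨c, hc⟩ := Submodule.mem_span_singleton.1 h
      exact hc ▸ hinA c, hzB⟩
    obtain ⟨φ₁, h₁z, h₁0⟩ := exists_dual_one' _ hzA
    have h₁v : φ₁ v = 0 := h₁0 v (Submodule.mem_span_singleton_self v)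
    obtain ⟨θ, hθ⟩ : ∃ θ : K, ∀ t : F, algebraMap F K t ≠ θ := by
      by_contra hc
      push Not at hc
      have h1 := hO.prime.two_le
      have h2 := LinearMap.finrank_range_le (Algebra.linearMap F K)
      rw [show LinearMap.range (Algebra.linearMap F K) = ⊤ from eq_top_iff.2 fun z _ => hc z, finrank_top, finrank_self] at h2
      omega
    let ψ : Dual K V := φ₁ + (θ - φ₁ b₁) • φ
    have hψv : ψ v = 0 := by simp [ψ, h₁v, hφv]
    have hψz : ψ z = 1 := by simp [ψ, h₁z, hφz]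
    have hψb : ψ b₁ = θ := by simp [ψ, hφb]
    obtain ⟨t', ht'⟩ := hmult θ fun u hu => by
      rcases hdich ψ hψv u with h | h
      · have := h b₁ hb₁
        rwa [hψb, mul_comm] at this
      · exact absurd (h z hzB (by rwa [hψz, one_mul])) hzU
    exact hθ t' ht'
  -- dimensions
  have hUmap : U = UK.map ((LinearMap.toSpanSingleton K V v).restrictScalars F) := by
    ext y
    refine ⟨fun hy => ?_, ?_⟩
    · obtain ⟨c, rfl⟩ := mem_ln.1 (hAv.symm ▸ hy.1 : y ∈ ln F K v)
      exact ⟨c, hy.2, rfl⟩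
    · rintro ⟨c, hc, rfl⟩
      exact ⟨hinA c, hc⟩
  have hdimB : finrank F K ≤ finrank F UK + 1 := by
    rw [← himg g]
    have hle : B ≤ U ⊔ F ∙ b₁ := fun y hy => by
      obtain ⟨t, ht⟩ := hdec y hy
      rw [show y = (y - t • b₁) + t • b₁ by abel]
      exact add_mem (Submodule.mem_sup_left ht) (Submodule.mem_sup_right (Submodule.smul_mem _ _ (Submodule.mem_span_singleton_self b₁)))
    refine (Submodule.finrank_mono hle).trans ((Submodule.finrank_add_le_finrank_add_finrank _ _).trans ?_)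
    refine add_le_add ?_ (finrank_span_singleton (show b₁ ≠ 0 from fun h => hb₁A (by rw [h]; exact zero_mem _))).le
    rw [hUmap]
    exact Submodule.finrank_map_le _ _
  obtain ⟨l, hl0, hle⟩ := UK.exists_le_ker_of_lt_top (lt_top_iff_ne_top.2 hUKtop)
  have hker : UK = LinearMap.ker l := by
    refine Submodule.eq_of_le_of_finrank_le hle ?_
    have h1 := Submodule.finrank_lt (s := LinearMap.ker l) (fun h => hl0 (LinearMap.ker_eq_top.1 h))
    omega
  refine ⟨g, v, b₁, φ, l, ⟨hgX, hv0, hφv, hφb, LinearMap.mem_ker.1 (hle h1UK), hl0, fun y => ?_⟩⟩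
  have hBy : (∃ c : K, g (c • v) = y) ↔ y ∈ B := by
    show _ ↔ y ∈ A.map g.toLinearMap
    rw [← hAv, Submodule.mem_map]
    exact ⟨fun ⟨c, e⟩ => ⟨_, mem_ln.2 ⟨c, rfl⟩, e⟩, fun ⟨z, hz, e⟩ => by
      obtain ⟨c, rfl⟩ := mem_ln.1 hz
      exact ⟨c, e⟩⟩
  rw [hBy]
  constructor
  · intro hy
    obtain ⟨t, ht⟩ := hdec y hy
    obtain ⟨c, hc⟩ := mem_ln.1 (hAv.symm ▸ ht.1 : y - t • b₁ ∈ ln F K v)
    refine ⟨c, t, LinearMap.mem_ker.1 (hle ((hUK c).2 (hc.symm ▸ ht.2))), ?_⟩
    rw [hc, sub_add_cancel]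
  · rintro ⟨c, t, hc, rfl⟩
    exact B.add_mem ((hUK c).1 (hker.ge hc)) (B.smul_mem t hb₁)

end Cfsg.Agent.ClassicalMax.ExtField
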