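import Cfsg.Agent.ClassicalMax.ExtField.Core

/-!
A group strictly above the normaliser of an extension field contains a transvection.
-/

set_option autoImplicit false
set_option linter.unusedSectionVars false
set_option linter.style.haveILetI false

namespace Cfsg.Agent.ClassicalMax.ExtField

open Module

variable {F K V : Type*} [Field F] [Field K] [Algebra F K] [AddCommGroup V] [Module F V] [Module K V]
  [IsScalarTower F K V]

/-- the group commutator of two square-zero unipotents -/
theorem comm_expand {R : Type*} [Ring R] {N M : R} (hN : N * N = 0) (hM : M * M = 0) (h : M * N * M = 0) :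
    (1 + N) * (1 + M) * (1 - N) * (1 - M) = 1 + (N * M - M * N - N * M * N) := by
  have h1 : N * (M * M) = 0 := by rw [hM, mul_zero]
  have h2 : N * (M * N * M) = 0 := by rw [h, mul_zero]
  have h3 : (N * N) * M = 0 := by rw [hN, zero_mul]
  simp only [mul_assoc] at *
  simp only [add_mul, mul_add, sub_mul, mul_sub, one_mul, mul_one, mul_assoc, hN, hM, h, h1, h2, h3, mul_zero, zero_mul]
  abel

/-- the group commutator when one side annihilates the other -/
theorem comm_short {R : Type*} [Ring R] {N M : R} (hN : N * N = 0) (hM : M * M = 0) (h : N * M = 0) :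
    (1 + M) * (1 + N) * (1 - M) * (1 - N) = 1 + M * N := by
  have h1 : ∀ x, N * (M * x) = 0 := fun x => by rw [← mul_assoc, h, zero_mul]
  have h2 : ∀ x, M * (M * x) = 0 := fun x => by rw [← mul_assoc, hM, zero_mul]
  simp only [add_mul, mul_add, sub_mul, mul_sub, one_mul, mul_one, mul_assoc, hN, hM, h, h1, h2, mul_zero, zero_mul]
  abel

/-- the data of the translation group of the image line -/
structure Trans (X : Subgroup (V ≃ₗ[F] V)) (v b : V) (φ : Dual K V) (l : K →ₗ[F] F) (M : Module.End F V) : Prop where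
  ne : v ≠ 0
  map_v : φ v = 0
  map_b : φ b = 1
  one : l 1 = 0
  ex : ∃ a, l a = 1
  smem : ∀ t : F, InX X (1 + t • M)
  kill : ∀ (c : K) (t : F), l c = 0 → M (c • v + t • b) = 0
  image : ∀ z, ∃ (c : K) (t : F), l c = 0 ∧ M z = c • v + t • b
  onLine : ∀ c : K, M (c • v) = l c • b

variable [Finite K] [FiniteDimensional F V] {X : Subgroup (V ≃ₗ[F] V)}

theorem Core.exists_trans_of {g : V ≃ₗ[F] V} {v b : V} {φ : Dual K V} {l : K →ₗ[F] F} (hc : Core X g v b φ l) {a : K}
    (ha : l a = 1) {ψ : Dual K V} (hψv : ψ v = 0) (hψ : ψ (g⁻¹ (a • v)) = 1)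
    (hop : ∀ c : K, InX X (1 + op ψ (LinearMap.mulLeft F c) v)) : ∃ M, Trans X v b φ l M := by
  obtain ⟨j, hj⟩ := (hc.image b).2 ⟨0, 1, map_zero l, by rw [zero_smul, one_smul, zero_add]⟩
  let M : Module.End F V := g.toLinearMap * op ψ (LinearMap.mulLeft F j) v * g⁻¹.toLinearMap
  have hM : ∀ z, M z = g ((j * ψ (g⁻¹ z)) • v) := fun z => rfl
  have hkill : ∀ y, (∃ c : K, g (c • v) = y) → M y = 0 := by
    rintro _ ⟨c, rfl⟩
    rw [hM, inv_apply, ψ.map_smul, hψv, smul_zero, mul_zero, zero_smul, map_zero]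
  refine ⟨M, ⟨hc.ne, hc.map_v, hc.map_b, hc.one, ⟨a, ha⟩, fun t => ?_, fun c t h => hkill _ ((hc.image _).2 ⟨c, t, h, rfl⟩),
    fun z => (hc.image _).1 ⟨_, (hM z).symm⟩, fun c => ?_⟩⟩
  · obtain ⟨T, hT, e⟩ := hop (algebraMap F K t * j)
    refine ⟨g * T * g⁻¹, mul_mem (mul_mem hc.mem hT) (inv_mem hc.mem), LinearMap.ext fun z => ?_⟩
    show g (T (g⁻¹ z)) = z + t • M z
    rw [show T (g⁻¹ z) = g⁻¹ z + (algebraMap F K t * j * ψ (g⁻¹ z)) • v from LinearMap.congr_fun e (g⁻¹ z),
      map_add, apply_inv, hM, mul_assoc, mul_smul, algebraMap_smul, map_smul]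
  · have hdec : c • v = (c - l c • a) • v + l c • (a • v) := by rw [← smul_assoc (l c) a v, ← add_smul, sub_add_cancel]
    have h0 : l (c - l c • a) = 0 := by rw [map_sub, map_smul, ha, smul_eq_mul, mul_one, sub_self]
    rw [hdec, map_add, hkill _ ((hc.image _).2 ⟨_, 0, h0, by rw [zero_smul, add_zero]⟩), zero_add, map_smul, hM, hψ, mul_one, hj]

theorem Core.exists_trans {g : V ≃ₗ[F] V} {v b : V} {φ : Dual K V} {l : K →ₗ[F] F} (hO : Over X K)
    (hc : Core X g v b φ l) : ∃ M, Trans X v b φ l M := by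
  obtain ⟨c₀, hc₀⟩ : ∃ c, l c ≠ 0 := by by_contra! h; exact hc.lne (LinearMap.ext h)
  set a := (l c₀)⁻¹ • c₀ with hadef
  have ha : l a = 1 := by rw [hadef, map_smul, smul_eq_mul, inv_mul_cancel₀ hc₀]
  have hnot : g⁻¹ (a • v) ∉ K ∙ v := fun h => by
    obtain ⟨c, hcv⟩ := Submodule.mem_span_singleton.1 h
    obtain ⟨c', t, hc', e⟩ := (hc.image (a • v)).1 ⟨c, by rw [hcv, apply_inv]⟩
    have h0 := congrArg φ e
    rw [map_smul, hc.map_v, smul_zero, map_add, map_smul, hc.map_v, smul_zero, zero_add, ← algebraMap_smul K t b, map_smul,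
      hc.map_b, smul_eq_mul, mul_one] at h0
    have ht : t = 0 := (algebraMap F K).injective (by rw [map_zero]; exact h0.symm)
    rw [ht, zero_smul, add_zero] at e
    rw [smul_left_injective K hc.ne e, hc'] at ha
    exact zero_ne_one ha
  obtain ⟨ψ, hψ, hψ0⟩ := exists_dual_one' _ hnot
  have hψv : ψ v = 0 := hψ0 v (Submodule.mem_span_singleton_self v)
  exact hc.exists_trans_of ha hψv hψ fun c => hO.op_mem hψv c

namespace Trans

variable {v b : V} {φ : Dual K V} {l : K →ₗ[F] F} {M : Module.End F V}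

theorem map_tb (hT : Trans X v b φ l M) (t : F) : φ (t • b) = algebraMap F K t := by
  rw [← algebraMap_smul K t b, map_smul, hT.map_b, smul_eq_mul, mul_one]

theorem sq (hT : Trans X v b φ l M) : M * M = 0 := LinearMap.ext fun z => by
  obtain ⟨c, t, hc, e⟩ := hT.image z
  rw [Module.End.mul_apply, e, hT.kill c t hc]; rfl

theorem sandwich (hT : Trans X v b φ l M) {c : K} (hc : l c = 0) : M * op φ (LinearMap.mulLeft F c) v * M = 0 :=
  LinearMap.ext fun z => by
    obtain ⟨c', t, -, e⟩ := hT.image z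
    rw [Module.End.mul_apply, Module.End.mul_apply, e, op_apply, map_add, φ.map_smul, hT.map_v, smul_zero, zero_add, hT.map_tb,
      hT.onLine, LinearMap.mulLeft_apply, mul_comm, ← Algebra.smul_def, map_smul, hc, smul_zero, zero_smul]
    rfl

/-- three commutators give the symmetrised product -/
theorem quad (hT : Trans X v b φ l M) (hop : ∀ c : K, InX X (1 + op φ (LinearMap.mulLeft F c) v)) {c : K} (hc : l c = 0) :
    InX X (1 + (op φ (LinearMap.mulLeft F c) v * M - M * op φ (LinearMap.mulLeft F c) v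
      - op φ (LinearMap.mulLeft F c) v * M * op φ (LinearMap.mulLeft F c) v)) := by
  set N := op φ (LinearMap.mulLeft F c) v
  have hN : N * N = 0 := op_mul_op hT.map_v _ _
  rw [← comm_expand hN hT.sq (hT.sandwich hc)]
  have h1 : InX X (1 + N) := hop c
  have h2 : InX X (1 + M) := by simpa using hT.smem 1
  refine ((h1.mul h2).mul (h1.inv ?_)).mul (h2.inv ?_)
  · rw [add_mul, one_mul, mul_sub, mul_one, hN, sub_zero, sub_add_cancel]
  · rw [add_mul, one_mul, mul_sub, mul_one, hT.sq, sub_zero, sub_add_cancel]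

end Trans

/-- first case: a scalar different from `0` and `1` -/
theorem exists_tvec_big {v b : V} {φ : Dual K V} {l : K →ₗ[F] F} {M : Module.End F V} (hT : Trans X v b φ l M)
    (hop : ∀ c : K, InX X (1 + op φ (LinearMap.mulLeft F c) v)) {t : F} (ht : t * t ≠ t) :
    ∃ (f : Dual F V) (w : V), f ≠ 0 ∧ w ≠ 0 ∧ f w = 0 ∧ tvec f w ∈ X := by
  let N := op φ (LinearMap.mulLeft F (1 : K)) v
  have hN : N * N = 0 := op_mul_op hT.map_v _ _
  have hMNM : M * N * M = 0 := hT.sandwich hT.one
  have hC : ∀ s u : F, InX X (1 + ((s * u) • (N * M - M * N) - (s * s * u) • (N * M * N))) := by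
    intro s u
    have h1 : InX X (1 + s • N) := by
      convert hop (algebraMap F K s) using 2
      exact LinearMap.ext fun x => by simp [N, mul_smul, algebraMap_smul]
    have h2 : InX X (1 + u • M) := hT.smem u
    have hsN : (s • N) * (s • N) = 0 := by rw [smul_mul_assoc, mul_smul_comm, hN, smul_zero, smul_zero]
    have huM : (u • M) * (u • M) = 0 := by rw [smul_mul_assoc, mul_smul_comm, hT.sq, smul_zero, smul_zero]
    have h3 : (u • M) * (s • N) * (u • M) = 0 := by simp [smul_mul_assoc, mul_smul_comm, hMNM]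
    have h := ((h1.mul h2).mul (h1.inv (B := 1 - s • N) (by rw [add_mul, one_mul, mul_sub, mul_one, hsN, sub_zero, sub_add_cancel]))).mul
      (h2.inv (B := 1 - u • M) (by rw [add_mul, one_mul, mul_sub, mul_one, huM, sub_zero, sub_add_cancel]))
    rw [comm_expand hsN huM h3] at h
    convert h using 2
    simp only [smul_mul_assoc, mul_smul_comm, smul_smul]
    module
  have hprod := (hC 1 t).mul (hC t (-1))
  have hD : (N * M - M * N) * (N * M - M * N) = 0 ∧ (N * M - M * N) * (N * M * N) = 0 ∧ (N * M * N) * (N * M - M * N) = 0 ∧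
      (N * M * N) * (N * M * N) = 0 := by
    have a1 : ∀ x, M * (N * (M * x)) = 0 := fun x => by rw [← mul_assoc, ← mul_assoc, hMNM, zero_mul]
    have a1' : M * (N * M) = 0 := by rw [← mul_assoc, hMNM]
    have a2 : ∀ x, N * (N * x) = 0 := fun x => by rw [← mul_assoc, hN, zero_mul]
    have a3 : ∀ x, M * (M * x) = 0 := fun x => by rw [← mul_assoc, hT.sq, zero_mul]
    refine ⟨?_, ?_, ?_, ?_⟩ <;> simp [sub_mul, mul_sub, mul_assoc, a1, a1', a2, a3]
  obtain ⟨d1, d2, d3, d4⟩ := hD
  have hP : InX X (1 + (t * t - t) • (N * M * N)) := by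
    convert hprod using 1
    generalize N * M - M * N = D at d1 d2 d3
    generalize N * M * N = E at d2 d3 d4
    simp only [mul_add, add_mul, sub_mul, mul_sub, one_mul, mul_one, smul_mul_assoc, mul_smul_comm, d1, d2, d3, d4, smul_zero]
    module
  let f : Dual F V := (t * t - t) • (l.comp (φ.restrictScalars F))
  have hf : f v = 0 := by simp [f, hT.map_v]
  refine ⟨f, v, fun h => ?_, hT.ne, hf, tvec_mem hf ?_⟩
  · obtain ⟨a, ha⟩ := hT.ex
    exact sub_ne_zero.2 ht (by simpa [f, hT.map_b, ha] using LinearMap.congr_fun h (a • b))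
  · convert hP using 2
    refine LinearMap.ext fun x => ?_
    have e : (N * M * N) x = l (φ x) • v := by
      show N (M (N x)) = _
      rw [op_apply, op_apply, LinearMap.mulLeft_apply, one_mul, hT.onLine, hT.map_tb, LinearMap.mulLeft_apply, one_mul, algebraMap_smul]
    show ((t * t - t) * l (φ x)) • v = (t * t - t) • (N * M * N) x
    rw [e, smul_smul]

/-- over a field of two elements three commutators give the symmetrised products -/
theorem Trans.sym_mem {v b : V} {φ : Dual K V} {l : K →ₗ[F] F} {M : Module.End F V} (hT : Trans X v b φ l M)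
    (hop : ∀ c : K, InX X (1 + op φ (LinearMap.mulLeft F c) v)) (h2 : ∀ t : F, t = 0 ∨ t = 1) {i j : K} (hi : l i = 0)
    (hj : l j = 0) : InX X (1 + op φ ((l.comp (LinearMap.mulLeft F j)).smulRight i +
      (l.comp (LinearMap.mulLeft F i)).smulRight j) v) := by
  have hF2 : (1 : F) + 1 = 0 := by
    rcases h2 (1 + 1) with h | h
    · exact h
    · exact absurd (add_eq_left.1 h) one_ne_zero
  have hneg : ∀ E : Module.End F V, E + E = 0 := fun E => by
    rw [← one_smul F E, ← add_smul, hF2, zero_smul]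
  let ten : K → K → (K →ₗ[F] K) := fun p q => (l.comp (LinearMap.mulLeft F q)).smulRight p
  have hten : ∀ p q c, ten p q c = l (q * c) • p := fun _ _ _ => rfl
  show InX X (1 + op φ (ten i j + ten j i) v)
  have hij : l (i + j) = 0 := by rw [map_add, hi, hj, add_zero]
  have hp := ((hT.quad hop hij).mul (hT.quad hop hi)).mul (hT.quad hop hj)
  have eAB : op φ (LinearMap.mulLeft F (i + j)) v = op φ (LinearMap.mulLeft F i) v + op φ (LinearMap.mulLeft F j) v :=
    LinearMap.ext fun x => by simp [add_mul, add_smul]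
  rw [eAB] at hp
  have z : ∀ c d : K, l c = 0 → l d = 0 → ∀ x, M * (op φ (LinearMap.mulLeft F c) v * (M * x)) = 0 := fun c d h _ x => by
    rw [← mul_assoc, ← mul_assoc, hT.sandwich h, zero_mul]
  have zA := z i i hi hi
  have zB := z j j hj hj
  have zA' : M * (op φ (LinearMap.mulLeft F i) v * M) = 0 := by rw [← mul_assoc]; exact hT.sandwich hi
  have zB' : M * (op φ (LinearMap.mulLeft F j) v * M) = 0 := by rw [← mul_assoc]; exact hT.sandwich hj
  have nn : ∀ c d : K, ∀ x, op φ (LinearMap.mulLeft F c) v * (op φ (LinearMap.mulLeft F d) v * x) = 0 := fun c d x => by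
    rw [← mul_assoc, op_mul_op hT.map_v, zero_mul]
  have mm : ∀ x, M * (M * x) = 0 := fun x => by rw [← mul_assoc, hT.sq, zero_mul]
  simp only [mul_add, add_mul, sub_mul, mul_sub, one_mul, mul_one, mul_assoc, zA, zB, zA', zB', nn, mm, mul_zero, zero_mul,
    sub_zero, add_zero, zero_add, zero_sub, neg_zero] at hp
  convert hp using 1
  have e : op φ (ten i j + ten j i) v = op φ (LinearMap.mulLeft F i) v * (M * op φ (LinearMap.mulLeft F j) v) +
      op φ (LinearMap.mulLeft F j) v * (M * op φ (LinearMap.mulLeft F i) v) := LinearMap.ext fun x => by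
    show (ten i j (φ x) + ten j i (φ x)) • v = (i * φ (M ((j * φ x) • v))) • v + (j * φ (M ((i * φ x) • v))) • v
    rw [hT.onLine, hT.onLine, hT.map_tb, hT.map_tb, hten, hten, mul_comm i (algebraMap F K _), mul_comm j (algebraMap F K _),
      ← Algebra.smul_def, ← Algebra.smul_def, add_smul]
  rw [e]
  have n1 : ∀ E : Module.End F V, -E = E := fun E => neg_eq_of_add_eq_zero_left (hneg E)
  simp only [sub_eq_add_neg, n1]
  have r1 : ∀ E G : Module.End F V, E + (E + G) = G := fun E G => by rw [← add_assoc, hneg, zero_add]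
  abel_nf
  simp [two_smul, hneg, r1]

/-- second case: field of two elements and odd prime degree -/
theorem exists_tvec_odd (hO : Over X K) {v b : V} {φ : Dual K V} {l : K →ₗ[F] F} {M : Module.End F V} (hT : Trans X v b φ l M)
    (h2 : ∀ t : F, t = 0 ∨ t = 1) (hr : 3 ≤ finrank F K) :
    ∃ (f : Dual F V) (w : V), f ≠ 0 ∧ w ≠ 0 ∧ f w = 0 ∧ tvec f w ∈ X := by
  haveI := hO.finK
  have hF2 : (1 : F) + 1 = 0 := by
    rcases h2 (1 + 1) with h | h
    · exact h
    · exact absurd (add_eq_left.1 h) one_ne_zero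
  have hneg : ∀ E : Module.End F V, E + E = 0 := fun E => by
    rw [← one_smul F E, ← add_smul, hF2, zero_smul]
  have hnegK : ∀ E : K →ₗ[F] K, E + E = 0 := fun E => by
    rw [← one_smul F E, ← add_smul, hF2, zero_smul]
  obtain ⟨a, ha⟩ := hT.ex
  have hφ : φ ≠ 0 := fun h => by simpa [h] using hT.map_b
  let ten : K → K → (K →ₗ[F] K) := fun p q => (l.comp (LinearMap.mulLeft F q)).smulRight p
  have hten : ∀ p q c, ten p q c = l (q * c) • p := fun _ _ _ => rfl
  have hsum : ∀ h h' : K →ₗ[F] K, InX X (1 + op φ h v) → InX X (1 + op φ h' v) → InX X (1 + op φ (h + h') v) := by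
    intro h h' i i'
    convert i.mul i' using 1
    rw [mul_add, mul_one, add_mul, one_mul, op_mul_op hT.map_v, add_zero, op_add, add_assoc]
  -- the symmetrised products
  have hsym : ∀ i j : K, l i = 0 → l j = 0 → InX X (1 + op φ (ten i j + ten j i) v) := fun i j hi hj =>
    hT.sym_mem (fun c => hO.op_mem hT.map_v c) h2 hi hj
  have hbi : ∀ (p q : K) (h : K →ₗ[F] K), InX X (1 + op φ h v) →
      InX X (1 + op φ (LinearMap.mulLeft F p ∘ₗ h ∘ₗ LinearMap.mulLeft F q) v) := fun p q h hh =>
    hO.bimodule hφ hT.ne hT.map_v hh p q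
  -- moving factors across
  have hmove : ∀ p t : K, InX X (1 + op φ (ten p t + ten (t * p) 1) v) := by
    intro p t
    let k : K →ₗ[F] F × F := l.prod (l.comp (LinearMap.mulLeft F t))
    obtain ⟨i, hi, hi0⟩ : ∃ i ∈ LinearMap.ker k, i ≠ 0 := by
      refine Submodule.exists_mem_ne_zero_of_ne_bot fun h => ?_
      have := LinearMap.finrank_le_finrank_of_injective (LinearMap.ker_eq_bot.1 h)
      rw [finrank_prod, finrank_self] at this
      omega
    obtain ⟨hi1, hi2⟩ := Prod.mk.injEq .. ▸ (LinearMap.mem_ker.1 hi : (l i, l (t * i)) = (0, 0))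
    convert hbi (p * i⁻¹) i⁻¹ _ (hsym i (t * i) hi1 hi2) using 3
    refine LinearMap.ext fun c => ?_
    simp only [LinearMap.add_apply, LinearMap.comp_apply, LinearMap.mulLeft_apply, hten, mul_add, mul_smul_comm]
    rw [inv_mul_cancel_right₀ hi0, show t * i * (i⁻¹ * c) = t * c by field_simp, mul_inv_cancel_left₀ hi0, one_mul,
      show p * i⁻¹ * (t * i) = t * p by field_simp]
  -- a dual basis
  let β : LinearMap.BilinForm F K := (LinearMap.mul F K).compr₂ l
  have hβ : ∀ x y, β x y = l (x * y) := fun _ _ => rfl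
  have hnd : β.Nondegenerate := by
    refine (LinearMap.BilinForm.nondegenerate_iff_ker_eq_bot (B := β)).2 ?_
    refine LinearMap.ker_eq_bot'.2 fun x hx => ?_
    by_contra h0
    have := LinearMap.congr_fun hx (x⁻¹ * a)
    rw [hβ, ← mul_assoc, mul_inv_cancel₀ h0, one_mul, ha] at this
    exact one_ne_zero this
  let e := Module.finBasis F K
  let e' := β.dualBasis hnd e
  have hall : ∀ s : Finset (Fin (finrank F K)),
      InX X (1 + op φ (∑ i ∈ s, (ten (e' i) (e i) + ten (e i * e' i) 1)) v) := by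
    intro s
    induction s using Finset.induction with
    | empty =>
      rw [Finset.sum_empty, show op φ (0 : K →ₗ[F] K) v = 0 from LinearMap.ext fun x => by simp, add_zero]
      exact InX.one X
    | insert i s hi ih => rw [Finset.sum_insert hi]; exact hsum _ _ (hmove _ _) ih
  have hid : ∑ i, ten (e' i) (e i) = LinearMap.id := LinearMap.ext fun c => by
    rw [LinearMap.sum_apply, LinearMap.id_apply]
    conv_rhs => rw [← e'.sum_repr c]
    refine Finset.sum_congr rfl fun i _ => ?_
    rw [hten, LinearMap.BilinForm.dualBasis_repr_apply, hβ, mul_comm c]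
  set κ := ∑ i, e i * e' i with hκ
  have hκ1 : l κ = 1 := by
    have hodd : Odd (finrank F K) := hO.prime.odd_of_ne_two (by omega)
    obtain ⟨k, hk⟩ := hodd
    rw [hκ, map_sum, Finset.sum_congr rfl (fun i _ => by
      rw [mul_comm, ← hβ, LinearMap.BilinForm.apply_dualBasis_left, if_pos rfl]), Finset.sum_const, Finset.card_univ, Fintype.card_fin,
      nsmul_one, hk]
    push_cast
    rw [two_mul, ← two_smul F (k : F)]
    simp [show (2 : F) = 0 by rw [← one_add_one_eq_two, hF2]]
  have hfin := hall Finset.univ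
  rw [Finset.sum_add_distrib, hid] at hfin
  have htκ : ∑ i, ten (e i * e' i) 1 = ten κ 1 := LinearMap.ext fun c => by
    rw [LinearMap.sum_apply]
    simp only [hten, hκ, Finset.smul_sum]
  rw [htκ] at hfin
  have hone : InX X (1 + op φ (LinearMap.id : K →ₗ[F] K) v) := by
    convert hO.op_mem hT.map_v (1 : K) using 3
    exact LinearMap.ext fun c => (one_mul c).symm
  have hres := hsum _ _ hone hfin
  rw [← add_assoc, hnegK, zero_add] at hres
  let f : Dual F V := l.comp (φ.restrictScalars F)
  have hf : f (κ • v) = 0 := by simp [f, hT.map_v]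
  refine ⟨f, κ • v, fun h => ?_, smul_ne_zero (fun h => ?_) hT.ne, hf, tvec_mem hf ?_⟩
  · simpa [f, hT.map_b, ha] using LinearMap.congr_fun h (a • b)
  · simp [h] at hκ1
  · convert hres using 2
    exact LinearMap.ext fun x => by simp [f, hten, smul_assoc]

/-- third case: more room -/
theorem exists_tvec_room (hO : Over X K) {v b : V} {φ : Dual K V} {l : K →ₗ[F] F} {M : Module.End F V} (hT : Trans X v b φ l M)
    (hm : 3 ≤ finrank K V) : ∃ (f : Dual F V) (w : V), f ≠ 0 ∧ w ≠ 0 ∧ f w = 0 ∧ tvec f w ∈ X := by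
  haveI := hO.finV
  obtain ⟨z, hz⟩ : ∃ z, z ∉ Submodule.span K (Set.range ![v, b]) := by
    by_contra hc
    push Not at hc
    have := finrank_range_le_card (R := K) ![v, b]
    rw [Set.finrank, show Submodule.span K (Set.range ![v, b]) = ⊤ from eq_top_iff.2 fun z _ => hc z, finrank_top, Fintype.card_fin] at this
    omega
  obtain ⟨χ, hχ, hχ0⟩ := exists_dual_one' _ hz
  have hχv : χ v = 0 := hχ0 v (Submodule.subset_span ⟨0, rfl⟩)
  have hχb : χ b = 0 := hχ0 b (Submodule.subset_span ⟨1, rfl⟩)
  let N := op χ (LinearMap.mulLeft F (1 : K)) v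
  have hNM : N * M = 0 := LinearMap.ext fun x => by
    obtain ⟨c, t, -, e⟩ := hT.image x
    rw [Module.End.mul_apply, e, op_apply, map_add, map_smul, hχv, smul_zero, zero_add, ← algebraMap_smul K t b, map_smul, hχb,
      smul_zero, LinearMap.mulLeft_apply, mul_zero, zero_smul]
    rfl
  have hN : N * N = 0 := op_mul_op hχv _ _
  have h1 : InX X (1 + N) := hO.op_mem hχv 1
  have h2 : InX X (1 + M) := by simpa using hT.smem 1
  have h := ((h2.mul h1).mul (h2.inv (B := 1 - M) (by rw [add_mul, one_mul, mul_sub, mul_one, hT.sq, sub_zero, sub_add_cancel]))).mul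
    (h1.inv (B := 1 - N) (by rw [add_mul, one_mul, mul_sub, mul_one, hN, sub_zero, sub_add_cancel]))
  rw [comm_short hN hT.sq hNM] at h
  let f : Dual F V := l.comp (χ.restrictScalars F)
  have hf : f b = 0 := by simp [f, hχb]
  refine ⟨f, b, fun e => ?_, fun e => by simpa [e] using hT.map_b, hf, tvec_mem hf ?_⟩
  · obtain ⟨a, ha⟩ := hT.ex
    simpa [f, hχ, ha] using LinearMap.congr_fun e (a • z)
  · convert h using 2
    exact LinearMap.ext fun x => by
      show l (χ x) • b = M (N x)
      rw [op_apply, hT.onLine, LinearMap.mulLeft_apply, one_mul]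

end Cfsg.Agent.ClassicalMax.ExtField
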