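import Cfsg.Agent.ClassicalMax.ExtField.Small

/-!
Overgroups of the maps linear over an extension field of prime degree: a group of linear maps containing them and an
element outside the normaliser of the field contains every transvection.
-/

set_option autoImplicit false
set_option linter.unusedSectionVars false
set_option linter.style.haveILetI false

namespace Cfsg.Agent.ClassicalMax.ExtField

open Module

variable {F K V : Type*} [Field F] [Field K] [Algebra F K] [AddCommGroup V] [Module F V] [Module K V]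
  [IsScalarTower F K V] [Finite K] [FiniteDimensional F V] {X : Subgroup (V ≃ₗ[F] V)}

/-- pulling a transvection back along an element of the group -/
theorem tvec_pull {g : V ≃ₗ[F] V} (hg : g ∈ X) {f : Dual F V} {w : V} (hf : f w = 0) (h : tvec f w ∈ X) :
    tvec (f.comp g.toLinearMap) (g⁻¹ w) ∈ X := by
  have hf' : (f.comp g.toLinearMap) (g⁻¹ w) = 0 := by
    show f (g (g⁻¹ w)) = 0
    rw [apply_inv, hf]
  have := mul_mem (mul_mem (inv_mem hg) h) (inv_mem (inv_mem hg))
  rw [conj_tvec _ hf, inv_inv] at this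
  exact this

theorem exists_tvec (hO : Over X K) (hsl : ∃ g ∈ X, ∃ (k : K) (x : V), g (k • x) ∉ K ∙ g x) :
    ∃ (g : V ≃ₗ[F] V) (v b : V) (φ : Dual K V) (l : K →ₗ[F] F), Core X g v b φ l ∧
      ∃ (f : Dual F V) (w : V), f ≠ 0 ∧ w ≠ 0 ∧ f w = 0 ∧ tvec f w ∈ X := by
  obtain ⟨g, v, b, φ, l, hc⟩ := exists_core hO hsl
  obtain ⟨M, hT⟩ := hc.exists_trans hO
  refine ⟨g, v, b, φ, l, hc, ?_⟩
  by_cases hbig : ∃ t : F, t * t ≠ t
  · obtain ⟨t, ht⟩ := hbig
    exact exists_tvec_big hT (fun c => hO.op_mem hT.map_v c) ht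
  push Not at hbig
  have h2 : ∀ t : F, t = 0 ∨ t = 1 := fun t => by
    rcases eq_or_ne t 0 with h | h
    · exact Or.inl h
    · exact Or.inr (mul_left_cancel₀ h (by rw [hbig, mul_one]))
  have hr := hO.prime.two_le
  by_cases hr3 : 3 ≤ finrank F K
  · exact exists_tvec_odd hO hT h2 hr3
  by_cases hm : 3 ≤ finrank K V
  · exact exists_tvec_room hO hT hm
  exact exists_tvec_small hO hT h2 (by omega) (by have := hO.dim; omega)

/-- every functional on `K` is a multiple of a non-zero one -/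
theorem exists_mul_eq (hO : Over X K) {l : K →ₗ[F] F} (hl : l ≠ 0) (f : K →ₗ[F] F) :
    ∃ κ : K, ∀ c, l (κ * c) = f c := by
  haveI := hO.finK
  let T : K →ₗ[F] Dual F K := (LinearMap.mul F K).compr₂ l
  have hinj : Function.Injective T := (injective_iff_map_eq_zero T).2 fun x hx => by
    by_contra h0
    refine hl (LinearMap.ext fun c => ?_)
    have := LinearMap.congr_fun hx (x⁻¹ * c)
    rw [show T x (x⁻¹ * c) = l (x * (x⁻¹ * c)) from rfl, mul_inv_cancel_left₀ h0] at this
    exact this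
  obtain ⟨κ, hκ⟩ := (LinearMap.injective_iff_surjective_of_finrank_eq_finrank Subspace.dual_finrank_eq.symm).1 hinj f
  exact ⟨κ, fun c => LinearMap.congr_fun hκ c⟩

/-- a functional killing a `K`-line factors through a functional linear over `K` killing it -/
theorem exists_lift (hO : Over X K) {l : K →ₗ[F] F} (hl : l ≠ 0) {v : V} (f : Dual F V) (hf : ∀ c : K, f (c • v) = 0) :
    ∃ ψ : Dual K V, ψ v = 0 ∧ ∀ x, l (ψ x) = f x := by
  haveI := hO.finK
  choose ψ hψ using fun x : V => exists_mul_eq hO hl (f.comp ((LinearMap.toSpanSingleton K V x).restrictScalars F))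
  have huniq : ∀ a b : K, (∀ c, l (a * c) = l (b * c)) → a = b := fun a b h => by
    by_contra hne
    refine hl (LinearMap.ext fun c => ?_)
    have := h ((a - b)⁻¹ * c)
    rw [← sub_eq_zero, ← map_sub, ← sub_mul, mul_inv_cancel_left₀ (sub_ne_zero.2 hne)] at this
    exact this
  have hψ' : ∀ x c, l (ψ x * c) = f (c • x) := hψ
  let ψ' : Dual K V :=
    { toFun := ψ
      map_add' := fun x y => huniq _ _ fun c => by rw [add_mul, map_add, hψ', hψ', hψ', smul_add, map_add]
      map_smul' := fun a x => huniq _ _ fun c => by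
        rw [RingHom.id_apply, smul_eq_mul, mul_assoc, mul_left_comm, hψ', hψ', smul_smul, mul_comm] }
  refine ⟨ψ', huniq _ _ fun c => by show l (ψ v * c) = l (0 * c); rw [hψ', hf, zero_mul, map_zero], fun x => ?_⟩
  show l (ψ x) = f x
  rw [← mul_one (ψ x), hψ', one_smul]

theorem tvec_of_op {l : K →ₗ[F] F} {ψ : Dual K V} {v : V} (hv : ψ v = 0)
    (h : InX X (1 + op ψ (l.smulRight (1 : K)) v)) : tvec (l.comp (ψ.restrictScalars F)) v ∈ X := by
  refine tvec_mem (by simp [hv]) ?_
  rwa [op_smulRight, one_smul] at h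

/-- one transvection gives all those whose hyperplane contains the line of the centre -/
theorem line_full (hO : Over X K) {l : K →ₗ[F] F} (hl : l ≠ 0)
    (hex : ∃ (f : Dual F V) (w : V), f ≠ 0 ∧ w ≠ 0 ∧ f w = 0 ∧ tvec f w ∈ X) :
    ∀ (v : V) (f : Dual F V), v ≠ 0 → (∀ c : K, f (c • v) = 0) → tvec f v ∈ X := by
  intro v f hv hf
  haveI := hO.finK
  haveI := hO.finV
  obtain ⟨ψ, hψv, hψ⟩ := exists_lift hO hl f hf
  have hfψ : f = l.comp (ψ.restrictScalars F) := LinearMap.ext fun x => (hψ x).symm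
  obtain ⟨f₁, w, hf₁, hw, hfw, hmem⟩ := hex
  obtain ⟨D, hD, hDv, -⟩ := hO.trans hv hw
  -- one transvection with centre `v`
  set f₀ : Dual F V := f₁.comp D.toLinearMap with hf₀d
  have hDinv : D⁻¹ w = v := by rw [← hDv, inv_apply]
  have h0 : tvec f₀ v ∈ X := hDinv ▸ tvec_pull hD hfw hmem
  have hf₀v : f₀ v = 0 := by show f₁ (D v) = 0; rw [hDv, hfw]
  have hf₀ : f₀ ≠ 0 := fun h => hf₁ (LinearMap.ext fun x => by
    have := LinearMap.congr_fun h (D⁻¹ x)
    rw [show f₀ (D⁻¹ x) = f₁ (D (D⁻¹ x)) from rfl, apply_inv] at this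
    exact this)
  by_cases hA : ∀ c : K, f₀ (c • v) = 0
  · -- the given transvection kills the line
    obtain ⟨ψ₀, hψ₀v, hψ₀⟩ := exists_lift hO hl f₀ hA
    have hψ₀0 : ψ₀ ≠ 0 := fun h => hf₀ (LinearMap.ext fun x => by rw [← hψ₀, h]; simp)
    have hbase : InX X (1 + op ψ₀ (l.smulRight (1 : K)) v) := by
      rw [op_smulRight, one_smul, show l.comp (ψ₀.restrictScalars F) = f₀ from LinearMap.ext hψ₀]
      exact inX_of_tvec hf₀v h0
    have hq : ∀ q : K, tvec (l.comp ((q • ψ₀).restrictScalars F)) v ∈ X := fun q => by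
      refine tvec_of_op (by simp [hψ₀v]) ?_
      convert hO.bimodule hψ₀0 hv hψ₀v hbase 1 q using 2
      exact LinearMap.ext fun x => by simp
    by_cases hdep : ∃ c : K, ψ = c • ψ₀
    · obtain ⟨c, rfl⟩ := hdep
      exact hfψ ▸ hq c
    · obtain ⟨z₁, hz₁, hz₁'⟩ : ∃ z, ψ₀ z = 0 ∧ ψ z = 1 := by
        by_contra hc
        push Not at hc
        refine hdep ?_
        have hker : ∀ z, ψ₀ z = 0 → ψ z = 0 := fun z hz => by
          by_contra hne
          exact hc ((ψ z)⁻¹ • z) (by rw [map_smul, hz, smul_zero]) (by rw [map_smul, smul_eq_mul, inv_mul_cancel₀ hne])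
        obtain ⟨e, he⟩ : ∃ e, ψ₀ e = 1 := by
          obtain ⟨x, hx⟩ : ∃ x, ψ₀ x ≠ 0 := by by_contra! h; exact hψ₀0 (LinearMap.ext h)
          exact ⟨(ψ₀ x)⁻¹ • x, by rw [map_smul, smul_eq_mul, inv_mul_cancel₀ hx]⟩
        refine ⟨ψ e, LinearMap.ext fun x => ?_⟩
        have := hker (x - ψ₀ x • e) (by rw [map_sub, map_smul, he, smul_eq_mul, mul_one, sub_self])
        rw [map_sub, map_smul, sub_eq_zero] at this
        rw [this, LinearMap.smul_apply, smul_eq_mul, smul_eq_mul, mul_comm]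
      obtain ⟨e, he⟩ : ∃ e, ψ₀ e = 1 := by
        obtain ⟨x, hx⟩ : ∃ x, ψ₀ x ≠ 0 := by by_contra! h; exact hψ₀0 (LinearMap.ext h)
        exact ⟨(ψ₀ x)⁻¹ • x, by rw [map_smul, smul_eq_mul, inv_mul_cancel₀ hx]⟩
      set z := e + (1 - ψ e) • z₁ with hz
      have h1 : ψ₀ z = 1 := by rw [hz, map_add, map_smul, hz₁, smul_zero, add_zero, he]
      have h2 : (ψ - ψ₀) z = 0 := by
        rw [LinearMap.sub_apply, h1, hz, map_add, map_smul, hz₁', smul_eq_mul, mul_one]; ring
      obtain ⟨g, hg, eg⟩ := hO.op_mem h2 1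
      have hgx : ∀ x, g x = x + (ψ x - ψ₀ x) • z := fun x => by
        have := LinearMap.congr_fun eg x
        simpa using this
      have hgv : g⁻¹ v = v := by
        conv_lhs => rw [show v = g v by rw [hgx, hψv, hψ₀v, sub_zero, zero_smul, add_zero]]
        exact inv_apply g v
      have := tvec_pull hg (show (l.comp (((1 : K) • ψ₀).restrictScalars F)) v = 0 by simp [hψ₀v]) (hq 1)
      rw [hgv] at this
      convert this using 2
      rw [hfψ]
      refine LinearMap.ext fun x => ?_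
      show l (ψ x) = l ((1 : K) * ψ₀ (g x))
      rw [one_mul, hgx, map_add, map_smul, h1, smul_eq_mul, mul_one, add_sub_cancel]
  · -- the given transvection does not kill the line
    obtain ⟨κ, hκ⟩ := exists_mul_eq hO hl (f₀.comp ((LinearMap.toSpanSingleton K V v).restrictScalars F))
    have hκ' : ∀ c, l (κ * c) = f₀ (c • v) := hκ
    have hκ0 : κ ≠ 0 := fun h => hA fun c => by rw [← hκ', h, zero_mul, map_zero]
    obtain ⟨g, hg, eg⟩ := hO.op_mem hψv κ⁻¹
    have hgx : ∀ x, g x = x + (κ⁻¹ * ψ x) • v := fun x => LinearMap.congr_fun eg x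
    have hgv : g⁻¹ v = v := by
      conv_lhs => rw [show v = g v by rw [hgx, hψv, mul_zero, zero_smul, add_zero]]
      exact inv_apply g v
    have h1 := tvec_pull hg hf₀v h0
    rw [hgv] at h1
    have h2 := mul_mem h1 (inv_mem h0)
    rw [tvec_inv hf₀v, tvec_mul_left (by show f₀ (g v) = 0; rw [hgx, hψv, mul_zero, zero_smul, add_zero, hf₀v]) (by simp [hf₀v])] at h2
    convert h2 using 2
    refine LinearMap.ext fun x => ?_
    show f x = f₀ (g x) + -f₀ x
    rw [hgx, map_add, ← hκ', mul_inv_cancel_left₀ hκ0, hψ]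
    abel

/-- a group above the maps linear over the field and outside its normaliser contains all transvections -/
theorem all_tvec (hO : Over X K) (hsl : ∃ g ∈ X, ∃ (k : K) (x : V), g (k • x) ∉ K ∙ g x) :
    ∀ (f : Dual F V) (w : V), f w = 0 → tvec f w ∈ X := by
  haveI := hO.finK
  haveI := hO.finV
  obtain ⟨g, v, b, φ, l, hc, hex⟩ := exists_tvec hO hsl
  have hline := line_full hO hc.lne hex
  -- every functional vanishing at `v`
  have hv : ∀ f : Dual F V, f v = 0 → tvec f v ∈ X := by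
    intro f hf
    by_cases hA : ∀ c : K, f (c • v) = 0
    · exact hline v f hc.ne hA
    obtain ⟨a, ha⟩ := exists_mul_eq hO hc.lne (f.comp ((LinearMap.toSpanSingleton K V v).restrictScalars F))
    have ha' : ∀ c, l (a * c) = f (c • v) := ha
    have ha0 : a ≠ 0 := fun h => hA fun c => by rw [← ha', h, zero_mul, map_zero]
    have hla : l a = 0 := by rw [← mul_one a, ha', one_smul, hf]
    obtain ⟨D, hD, hDv, hDs⟩ := hO.trans hc.ne (smul_ne_zero (inv_ne_zero ha0) hc.ne)
    -- `D b` is outside the line, and `D * g` carries some vector of the line to `v`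
    obtain ⟨j, hj⟩ := (hc.image (a • v)).2 ⟨a, 0, hla, by rw [zero_smul, add_zero]⟩
    have hj0 : j ≠ 0 := fun h => by
      rw [h, zero_smul, map_zero] at hj
      exact smul_ne_zero ha0 hc.ne hj.symm
    have hDav : D (g (j • v)) = v := by rw [hj, hDs, hDv, smul_smul, mul_inv_cancel₀ ha0, one_smul]
    obtain ⟨E, hE, hEv, hEs⟩ := hO.trans hc.ne (smul_ne_zero hj0 hc.ne)
    let h := D * g * E
    have hh : h ∈ X := mul_mem (mul_mem hD hc.mem) hE
    have hhv : h v = v := by show D (g (E v)) = v; rw [hEv, hDav]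
    have hDb : ∀ c : K, c • v ≠ D b := fun c h' => by
      have h1 : D ((c * a) • v) = D b := by rw [hDs, hDv, smul_smul, mul_assoc, mul_inv_cancel₀ ha0, mul_one, h']
      have := congrArg φ (D.injective h1)
      rw [map_smul, hc.map_v, smul_zero, hc.map_b] at this
      exact zero_ne_one this
    obtain ⟨f₁, h₁, h₁0⟩ := exists_dual_one (ln F K v) (x := D b) (fun h' => by
      obtain ⟨c, e⟩ := mem_ln.1 h'
      exact hDb c e)
    set g₁ : Dual F V := f (D b) • f₁ with hg₁
    have hg₁A : ∀ c : K, g₁ (c • v) = 0 := fun c => by rw [hg₁, LinearMap.smul_apply, h₁0 _ (mem_ln.2 ⟨c, rfl⟩), smul_zero]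
    set g₂ : Dual F V := f - g₁ with hg₂
    have hg₁v : g₁ v = 0 := by simpa using hg₁A 1
    have hg₂v : g₂ v = 0 := by rw [hg₂, LinearMap.sub_apply, hf, hg₁v, sub_zero]
    have hB : ∀ c : K, g₂ (h (c • v)) = 0 := fun c => by
      obtain ⟨c', t, hc', e⟩ := (hc.image _).1 ⟨c * j, rfl⟩
      have hh' : h (c • v) = (c' * a⁻¹) • v + t • D b := by
        show D (g (E (c • v))) = _
        rw [hEs, hEv, smul_smul, e, map_add, D.map_smul, hDs, hDv, smul_smul]
      rw [hh', map_add, g₂.map_smul, hg₂, LinearMap.sub_apply, LinearMap.sub_apply, hg₁A, sub_zero, ← ha', mul_left_comm,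
        mul_inv_cancel₀ ha0, mul_one, hc', zero_add, hg₁, LinearMap.smul_apply, h₁, smul_eq_mul, smul_eq_mul, mul_one, sub_self, mul_zero]
    have hhinv : h⁻¹ v = v := by
      conv_lhs => rw [← hhv]
      exact inv_apply h v
    have hg₂' : tvec g₂ v ∈ X := by
      have := hline v (g₂.comp h.toLinearMap) hc.ne hB
      have h3 := tvec_pull (inv_mem hh) (show (g₂.comp h.toLinearMap) v = 0 by show g₂ (h v) = 0; rw [hhv, hg₂v]) this
      rw [inv_inv, hhv] at h3
      convert h3 using 2
      exact LinearMap.ext fun x => by show g₂ x = g₂ (h (h⁻¹ x)); rw [apply_inv]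
    have := mul_mem (hline v g₁ hc.ne hg₁A) hg₂'
    rw [tvec_mul_left hg₁v hg₂v, hg₂, add_sub_cancel] at this
    exact this
  intro f w hfw
  rcases eq_or_ne w 0 with rfl | hw
  · rw [tvec_zero_right]; exact one_mem X
  obtain ⟨D, hD, hDv, -⟩ := hO.trans hw hc.ne
  have hD' : (f.comp (D⁻¹).toLinearMap) v = 0 := by
    show f (D⁻¹ v) = 0
    rw [← hDv, inv_apply, hfw]
  have := tvec_pull hD hD' (hv _ hD')
  rw [show D⁻¹ v = w by rw [← hDv, inv_apply]] at this
  convert this using 2
  exact LinearMap.ext fun x => by show f x = f (D⁻¹ (D x)); rw [inv_apply]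

end Cfsg.Agent.ClassicalMax.ExtField
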