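import Cfsg.Agent.ClassicalMax.ExtField.Main
import Cfsg.Agent.S5887

/-!
Maximality of the normaliser of an extension field of prime degree in the general and special linear groups.
-/

set_option autoImplicit false
set_option linter.unusedSectionVars false
set_option linter.style.haveILetI false

namespace Cfsg.Agent.ClassicalMax.ExtField

open Module

/-- an endomorphism preserving every line of a space of dimension at least two is a scalar -/
theorem scalar_of_lines {K V : Type*} [Field K] [AddCommGroup V] [Module K V] (hdim : ∀ x : V, ∃ z, z ∉ K ∙ x)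
    (T : V →+ V) (h : ∀ x, T x ∈ K ∙ x) : ∃ c : K, ∀ x, T x = c • x := by
  obtain ⟨x₀, hx₀⟩ := hdim 0
  have hx0 : x₀ ≠ 0 := by rintro rfl; exact hx₀ (zero_mem _)
  obtain ⟨c, hc⟩ := Submodule.mem_span_singleton.1 (h x₀)
  have key : ∀ (y : V) (d : K), y ≠ 0 → T y = d • y → ∀ z, z ∉ K ∙ y → T z = d • z := by
    intro y d hy0 hy z hz
    obtain ⟨e, he⟩ := Submodule.mem_span_singleton.1 (h z)
    obtain ⟨u, hu⟩ := Submodule.mem_span_singleton.1 (h (y + z))
    rw [map_add, hy, ← he, smul_add] at hu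
    have h1 : (u - e) • z = (d - u) • y := by
      rw [sub_smul, sub_smul, sub_eq_sub_iff_add_eq_add, add_comm (u • z), hu]
    by_cases he' : u = e
    · rw [he', sub_self, zero_smul, eq_comm, smul_eq_zero, sub_eq_zero] at h1
      rw [h1.resolve_right hy0, he]
    · refine absurd (Submodule.mem_span_singleton.2 ⟨(u - e)⁻¹ * (d - u), ?_⟩) hz
      rw [mul_smul, ← h1, smul_smul, inv_mul_cancel₀ (sub_ne_zero.2 he'), one_smul]
  refine ⟨c, fun x => ?_⟩
  by_cases hx : x ∈ K ∙ x₀
  · rcases eq_or_ne x 0 with rfl | hx'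
    · rw [map_zero, smul_zero]
    obtain ⟨z, hz⟩ := hdim x₀
    have hz0 : z ≠ 0 := by rintro rfl; exact hz (zero_mem _)
    refine key z c hz0 (key x₀ c hx0 hc.symm z hz) x fun hxz => hz ?_
    obtain ⟨a, ha⟩ := Submodule.mem_span_singleton.1 hxz
    have ha0 : a ≠ 0 := by rintro rfl; exact hx' (by rw [← ha, zero_smul])
    have e : z = a⁻¹ • x := by rw [← ha, smul_smul, inv_mul_cancel₀ ha0, one_smul]
    exact e ▸ Submodule.smul_mem _ _ hx
  · exact key x₀ c hx0 hc.symm x hx

section

variable {ι : Type} [Fintype ι] [DecidableEq ι] {F : Type*} [Field F] [Finite F]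

theorem isMaximal_aux {L : Type*} [Field L] [Algebra F L] (j : L →ₐ[F] Matrix ι ι F) (hr : (finrank F L).Prime)
    (K : Subalgebra F (Matrix ι ι F)) (hjK : ∀ x, x ∈ K ↔ ∃ k, j k = x) (hlt : finrank F L < Fintype.card ι) :
    IsCoatom (Cfsg.Geo.subalgebraNormalizer K) ∧
      Cfsg.Geo.IsMaximalIn (Cfsg.Geo.specialLinear ι F) (Cfsg.Geo.subalgebraNormalizer K ⊓ Cfsg.Geo.specialLinear ι F) := by
  classical
  haveI : Nonempty ι := Fintype.card_pos_iff.1 (by omega)
  haveI : FiniteDimensional F L := Module.finite_of_finrank_pos hr.pos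
  haveI : Finite L := Module.finite_of_finite F
  let e : Matrix ι ι F ≃ₐ[F] Module.End F (ι → F) := Matrix.toLinAlgEquiv'
  letI : Module L (ι → F) := Module.compHom (ι → F) ((e.toAlgHom.comp j).toRingHom)
  have hsmul : ∀ (k : L) (x : ι → F), k • x = (j k).mulVec x := fun k x => rfl
  haveI : IsScalarTower F L (ι → F) := IsScalarTower.of_algebraMap_smul fun t x => by
    rw [hsmul, AlgHom.commutes, Matrix.algebraMap_eq_diagonal]
    funext i
    simp [Matrix.mulVec_diagonal]
  have hmul : finrank F L * finrank L (ι → F) = Fintype.card ι := by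
    rw [Module.finrank_mul_finrank, Module.finrank_fintype_fun_eq_card]
  haveI : FiniteDimensional L (ι → F) := Module.Finite.right F L (ι → F)
  have hm2 : 2 ≤ finrank L (ι → F) := by
    by_contra hc
    push Not at hc
    interval_cases h : finrank L (ι → F) <;> omega
  have hdim : ∀ x : ι → F, ∃ z, z ∉ L ∙ x := fun x => by
    by_contra hc
    push Not at hc
    rcases eq_or_ne x 0 with rfl | hx
    · have : (⊤ : Submodule L (ι → F)) = ⊥ := by
        rw [← Submodule.span_zero_singleton (R := L) (M := ι → F)]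
        exact (eq_top_iff.2 fun z _ => hc z).symm
      have := congrArg (fun S : Submodule L (ι → F) => finrank L S) this
      simp only [finrank_top, finrank_bot] at this
      omega
    · have h1 := finrank_span_singleton (K := L) hx
      rw [show L ∙ x = ⊤ from eq_top_iff.2 fun z _ => hc z, finrank_top] at h1
      omega
  have hjinj : Function.Injective j := (j : L →+* Matrix ι ι F).injective
  set G := glEquiv ι F with hG
  set N := Cfsg.Geo.subalgebraNormalizer K with hN
  have hconj : ∀ (g : Matrix.GeneralLinearGroup ι F) (k : Matrix ι ι F) (y : ι → F),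
      ((g : Matrix ι ι F) * k * ((g⁻¹ : Matrix.GeneralLinearGroup ι F) : Matrix ι ι F)).mulVec (G g y) = G g (k.mulVec y) := by
    intro g k y
    rw [hG, glEquiv_apply, glEquiv_apply, Matrix.mulVec_mulVec, Matrix.mulVec_mulVec, mul_assoc, ← Units.val_mul, inv_mul_cancel,
      Units.val_one, mul_one]
  -- linear maps over the field lie in the normaliser
  have hlin : ∀ g : Matrix.GeneralLinearGroup ι F, (∀ (k : L) (x : ι → F), G g (k • x) = k • G g x) → g ∈ N := by
    intro g hg
    have hc : ∀ k : L, (g : Matrix ι ι F) * j k = j k * g := fun k => by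
      refine e.injective (LinearMap.ext fun x => ?_)
      show ((g : Matrix ι ι F) * j k).mulVec x = (j k * g).mulVec x
      rw [← Matrix.mulVec_mulVec, ← Matrix.mulVec_mulVec]
      exact hg k x
    have hfix : ∀ k ∈ K, (g : Matrix ι ι F) * k * ((g⁻¹ : Matrix.GeneralLinearGroup ι F) : Matrix ι ι F) = k := fun k hk => by
      obtain ⟨l, rfl⟩ := (hjK k).1 hk
      rw [hc l, mul_assoc, ← Units.val_mul, mul_inv_cancel, Units.val_one, mul_one]
    intro k
    refine ⟨fun hk => by rwa [hfix k hk], fun hk => ?_⟩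
    have h' := hfix _ hk
    have : (g : Matrix ι ι F) * k * ((g⁻¹ : Matrix.GeneralLinearGroup ι F) : Matrix ι ι F) = k :=
      (Units.mul_right_inj g).1 ((Units.mul_left_inj g⁻¹).1 h')
    exact this ▸ hk
  -- outside the normaliser some line is not sent to a line
  have hsl : ∀ g : Matrix.GeneralLinearGroup ι F, g ∉ N → ∃ (k : L) (x : ι → F), G g (k • x) ∉ L ∙ G g x := by
    intro g hg
    by_contra hc
    push Not at hc
    apply hg
    have hmem : ∀ k : L, ∃ c : L, (g : Matrix ι ι F) * j k * ((g⁻¹ : Matrix.GeneralLinearGroup ι F) : Matrix ι ι F) = j c := fun k => by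
      set T : Matrix ι ι F := (g : Matrix ι ι F) * j k * ((g⁻¹ : Matrix.GeneralLinearGroup ι F) : Matrix ι ι F) with hT
      obtain ⟨c, hc'⟩ := scalar_of_lines hdim (e T).toAddMonoidHom fun x => by
        have h1 : T.mulVec (G g ((G g)⁻¹ x)) = G g ((j k).mulVec ((G g)⁻¹ x)) := hconj g (j k) _
        rw [apply_inv] at h1
        show T.mulVec x ∈ L ∙ x
        rw [h1]
        have h2 := hc k ((G g)⁻¹ x)
        rw [apply_inv] at h2
        exact h2
      exact ⟨c, e.injective (LinearMap.ext fun x => hc' x)⟩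
    choose f hf using hmem
    intro k
    refine ⟨fun hk => ?_, fun hk => ?_⟩
    · obtain ⟨l, rfl⟩ := (hjK k).1 hk
      exact (hjK _).2 ⟨f l, (hf l).symm⟩
    · obtain ⟨l, hl⟩ := (hjK _).1 hk
      have hfinj : Function.Injective f := fun a b h => hjinj
        ((Units.mul_right_inj g).1 ((Units.mul_left_inj g⁻¹).1 (by rw [hf a, hf b, h])))
      obtain ⟨l', rfl⟩ := (Finite.injective_iff_surjective.1 hfinj) l
      rw [← hf] at hl
      exact (hjK k).2 ⟨l', (Units.mul_right_inj g).1 ((Units.mul_left_inj g⁻¹).1 hl)⟩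
  -- the main theorem inside a given group
  have hmain : ∀ M : Subgroup ((ι → F) ≃ₗ[F] (ι → F)), (∀ g ∈ N ⊓ Cfsg.Geo.specialLinear ι F, G g ∈ M) →
      (∃ g, g ∉ N ∧ G g ∈ M) → ∀ (φ : Dual F (ι → F)) (v : ι → F), φ v = 0 → tvec φ v ∈ M := by
    intro M hM ⟨g, hg, hgM⟩
    have hO : Over M L := ⟨hr, hm2, fun D hD => by
      refine ⟨G (G.symm (D.restrictScalars F)), hM _ ⟨hlin _ ?_, ?_⟩, by rw [MulEquiv.apply_symm_apply]; rfl⟩
      · intro k x
        rw [MulEquiv.apply_symm_apply]
        exact D.map_smul k x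
      · show _ ∈ Cfsg.Geo.specialLinear ι F
        rw [mem_specialLinear_iff, ← hG, MulEquiv.apply_symm_apply]
        exact hD⟩
    obtain ⟨k, x, hkx⟩ := hsl g hg
    exact all_tvec hO ⟨G g, hgM, k, x, hkx⟩
  -- the normaliser is proper
  have hproper : ∃ (φ : Dual F (ι → F)) (v : ι → F), φ v = 0 ∧ G.symm (tvec φ v) ∉ N := by
    by_contra hc
    push Not at hc
    have hSL : Cfsg.Geo.specialLinear ι F ≤ N := specialLinear_le N hc
    have hKr : finrank F (K.map e.toAlgHom) = finrank F L := by
      rw [← (e.subalgebraMap K).toLinearEquiv.finrank_eq, show K = j.range from SetLike.ext fun x => (hjK x).trans (AlgHom.mem_range j).symm]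
      exact (AlgEquiv.ofInjective j hjinj).toLinearEquiv.finrank_eq.symm
    obtain ⟨T, T', h1, h2, hd, -, k, hk, hkn⟩ := Cfsg.Agent.S5887.exists_sep (⊥ : Subalgebra F (Module.End F (ι → F)))
      (K.map e.toAlgHom)
      (by intro a ha b _; obtain ⟨t, rfl⟩ := Algebra.mem_bot.1 ha; exact Algebra.commutes t b)
      (by
        intro a ha h0
        obtain ⟨t, rfl⟩ := Algebra.mem_bot.1 ha
        exact ⟨algebraMap F _ t⁻¹, Algebra.mem_bot.2 ⟨_, rfl⟩,
          by rw [← map_mul, mul_inv_cancel₀ (fun e' => h0 (by rw [e', map_zero])), map_one]⟩)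
      (by
        rintro _ ⟨a, ha, rfl⟩ h0
        obtain ⟨l, rfl⟩ := (hjK a).1 ha
        have hl : l ≠ 0 := fun e' => h0 (by rw [e', map_zero, map_zero])
        exact ⟨_, ⟨j l⁻¹, (hjK _).2 ⟨_, rfl⟩, rfl⟩, by rw [← map_mul, ← map_mul, inv_mul_cancel₀ hl, map_one, map_one]⟩)
      bot_le
      (fun h => by
        have h1 := Submodule.finrank_mono (show Subalgebra.toSubmodule (K.map e.toAlgHom) ≤ Subalgebra.toSubmodule ⊥ from h)
        rw [Subalgebra.finrank_toSubmodule, Subalgebra.finrank_toSubmodule, Subalgebra.finrank_bot, hKr] at h1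
        have := hr.two_le
        omega)
      (by rw [hKr, Module.finrank_fintype_fun_eq_card]; exact hlt)
    obtain ⟨a, ha, rfl⟩ := hk
    let g : Matrix.GeneralLinearGroup ι F := G.symm (LinearEquiv.ofLinearMap T T' h1 h2)
    have hg : (g : Matrix ι ι F) = e.symm T := e.injective (LinearMap.ext fun x => by
      rw [e.apply_symm_apply]
      exact symm_mulVec _ x)
    have hgi : ((g⁻¹ : Matrix.GeneralLinearGroup ι F) : Matrix ι ι F) = e.symm T' := by
      refine (left_inv_eq_right_inv (a := (g : Matrix ι ι F)) ?_ ?_)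
      · rw [← Units.val_mul, inv_mul_cancel, Units.val_one]
      · rw [hg, ← map_mul, h1, map_one]
    have hgS : g ∈ Cfsg.Geo.specialLinear ι F := by
      rw [mem_specialLinear_iff, ← hG, MulEquiv.apply_symm_apply]
      exact hd
    refine hkn ⟨_, ((hSL hgS) a).1 ha, ?_⟩
    show e (_ * a * _) = _
    rw [hg, hgi, map_mul, map_mul, e.apply_symm_apply, e.apply_symm_apply]
    rfl
  refine ⟨⟨fun h => ?_, fun M hM => ?_⟩, isMaximalIn_specialLinear N hproper fun M hM h => hmain M hM h⟩
  · obtain ⟨φ, v, -, hv⟩ := hproper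
    exact hv (h ▸ Subgroup.mem_top _)
  · obtain ⟨g, hgM, hgN⟩ := SetLike.exists_of_lt hM
    have hall := hmain (M.map G.toMonoidHom) (fun g hg => Subgroup.mem_map_of_mem _ (hM.le hg.1))
      ⟨g, hgN, Subgroup.mem_map_of_mem _ hgM⟩
    have hSL : Cfsg.Geo.specialLinear ι F ≤ M := specialLinear_le M fun φ v hv => by
      obtain ⟨k, hk, hke⟩ := hall φ v hv
      rw [← hke, ← hG]
      simpa using hk
    refine eq_top_iff.2 fun x _ => ?_
    obtain ⟨a, ha⟩ := FiniteField.norm_surjective F L (LinearMap.det (G x).toLinearMap)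
    have ha0 : a ≠ 0 := by
      rintro rfl
      rw [Algebra.norm_zero] at ha
      exact (LinearEquiv.isUnit_det' (G x)).ne_zero ha.symm
    obtain ⟨y₀, hy₀⟩ := hdim 0
    have hy0 : y₀ ≠ 0 := by rintro rfl; exact hy₀ (zero_mem _)
    obtain ⟨χ, hχ, -⟩ := exists_dual_one (F := L) (⊥ : Submodule L (ι → F)) (x := y₀) (by rwa [Submodule.mem_bot])
    have hu : IsUnit (1 + ((a - 1) • χ) y₀) := by
      rw [LinearMap.smul_apply, hχ, smul_eq_mul, mul_one, add_sub_cancel]
      exact isUnit_iff_ne_zero.2 ha0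
    have hbij : Function.Bijective (LinearMap.transvection ((a - 1) • χ) y₀) := by
      have : IsUnit (LinearMap.det (LinearMap.transvection ((a - 1) • χ) y₀)) := by rwa [LinearMap.transvection.det]
      exact (Module.End.isUnit_iff _).1 (LinearMap.isUnit_iff_isUnit_det _ |>.2 this)
    let D := LinearEquiv.ofBijective _ hbij
    let n : Matrix.GeneralLinearGroup ι F := G.symm (D.restrictScalars F)
    have hnN : n ∈ N := hlin n fun k z => by rw [MulEquiv.apply_symm_apply]; exact D.map_smul k z
    have hdet : LinearMap.det (G n).toLinearMap = LinearMap.det (G x).toLinearMap := by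
      rw [MulEquiv.apply_symm_apply, ← ha]
      show LinearMap.det ((LinearMap.transvection ((a - 1) • χ) y₀).restrictScalars F) = _
      rw [LinearMap.det_restrictScalars, LinearMap.transvection.det, LinearMap.smul_apply, hχ, smul_eq_mul, mul_one, add_sub_cancel]
    have hx : n⁻¹ * x ∈ Cfsg.Geo.specialLinear ι F := by
      rw [mem_specialLinear_iff, ← hG]
      have e1 : LinearMap.det (G n).toLinearMap * LinearMap.det (G (n⁻¹ * x)).toLinearMap = LinearMap.det (G x).toLinearMap := by
        rw [← LinearMap.det_comp]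
        congr 1
        refine LinearMap.ext fun z => ?_
        show G n (G (n⁻¹ * x) z) = G x z
        rw [← LinearEquiv.mul_apply, ← map_mul, mul_inv_cancel_left]
      rw [hdet] at e1
      exact (mul_eq_left₀ (LinearEquiv.isUnit_det' (G x)).ne_zero).1 e1
    have := mul_mem (hM.le hnN) (hSL hx)
    rwa [mul_inv_cancel_left] at this

theorem isMaximal_normalizer {r : ℕ} (hr : r.Prime) (K : Subalgebra F (Matrix ι ι F)) (hK : Cfsg.Geo.IsFieldSubalgebra r K)
    (hlt : r < Fintype.card ι) :
    IsCoatom (Cfsg.Geo.subalgebraNormalizer K) ∧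
      Cfsg.Geo.IsMaximalIn (Cfsg.Geo.specialLinear ι F) (Cfsg.Geo.subalgebraNormalizer K ⊓ Cfsg.Geo.specialLinear ι F) := by
  haveI : Nonempty ι := Fintype.card_pos_iff.1 (by omega)
  have hKfield : IsField K :=
    { exists_pair_ne := ⟨0, 1, fun h => zero_ne_one (α := Matrix ι ι F) (congrArg Subtype.val h)⟩
      mul_comm := fun x y => Subtype.ext (hK.comm _ x.2 _ y.2)
      mul_inv_cancel := fun {a} ha => by
        obtain ⟨y, hy, h⟩ := hK.inv _ a.2 (fun e => ha (Subtype.ext e))
        exact ⟨⟨y, hy⟩, Subtype.ext h⟩ }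
  letI : Field K := hKfield.toField
  exact isMaximal_aux K.val (by rw [hK.finrank_eq]; exact hr) K (fun x => ⟨fun h => ⟨⟨x, h⟩, rfl⟩, fun ⟨k, e⟩ => e ▸ k.2⟩)
    (by rw [hK.finrank_eq]; exact hlt)

end

end Cfsg.Agent.ClassicalMax.ExtField
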