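import Cfsg.Agent.ClassicalMax.ExtField.Exists

/-!
The case of the quadratic extension of the field of two elements in dimension four.
-/

set_option autoImplicit false
set_option linter.unusedSectionVars false
set_option linter.style.haveILetI false

namespace Cfsg.Agent.ClassicalMax.ExtField

open Module

variable {F K V : Type*} [Field F] [Field K] [Algebra F K] [AddCommGroup V] [Module F V] [Module K V]
  [IsScalarTower F K V] [Finite K] [FiniteDimensional F V] {X : Subgroup (V ≃ₗ[F] V)}

theorem exists_tvec_small (hO : Over X K) {v b : V} {φ : Dual K V} {l : K →ₗ[F] F} {M : Module.End F V} (hT : Trans X v b φ l M)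
    (h2 : ∀ t : F, t = 0 ∨ t = 1) (hr : finrank F K = 2) (hm : finrank K V = 2) :
    ∃ (f : Dual F V) (w : V), f ≠ 0 ∧ w ≠ 0 ∧ f w = 0 ∧ tvec f w ∈ X := by
  haveI := hO.finK
  haveI := hO.finV
  obtain ⟨θ, hθ⟩ := hT.ex
  have hF2 : (1 : F) + 1 = 0 := by
    rcases h2 (1 + 1) with h | h
    · exact h
    · exact absurd (add_eq_left.1 h) one_ne_zero
  have hVK : ∀ x : V, x + x = 0 := fun x => by rw [← one_smul F x, ← add_smul, hF2, zero_smul]
  have hKK : ∀ x : K, x + x = 0 := fun x => by rw [← one_smul F x, ← add_smul, hF2, zero_smul]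
  -- the scalars
  have hlne : l ≠ 0 := fun h => by simp [h] at hθ
  have hker : ∀ c : K, l c = 0 → ∃ t : F, c = algebraMap F K t := by
    intro c hc
    have hle : F ∙ (1 : K) ≤ LinearMap.ker l := (Submodule.span_singleton_le_iff_mem _ _).2 hT.one
    have h1 := Submodule.finrank_lt (s := LinearMap.ker l) (fun h => hlne (LinearMap.ker_eq_top.1 h))
    have he : F ∙ (1 : K) = LinearMap.ker l :=
      Submodule.eq_of_le_of_finrank_le hle (by rw [finrank_span_singleton one_ne_zero]; omega)
    obtain ⟨t, ht⟩ := Submodule.mem_span_singleton.1 (he.ge hc)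
    exact ⟨t, by rw [← ht, Algebra.smul_def, mul_one]⟩
  have hKdec : ∀ c : K, ∃ t s : F, c = algebraMap F K t + algebraMap F K s * θ := fun c => by
    obtain ⟨t, ht⟩ := hker (c - l c • θ) (by rw [map_sub, map_smul, hθ, smul_eq_mul, mul_one, sub_self])
    exact ⟨t, l c, by rw [← ht, ← Algebra.smul_def, sub_add_cancel]⟩
  have hθ0 : θ ≠ 0 := fun h => by simp [h] at hθ
  have hθθ : θ * θ = 1 + θ := by
    obtain ⟨t, s, e⟩ := hKdec (θ * θ)
    rcases h2 t with rfl | rfl <;> rcases h2 s with rfl | rfl <;> simp at e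
    · exact absurd e hθ0
    · have h1 : θ = 1 := mul_left_cancel₀ hθ0 (by rw [mul_one]; simpa using e)
      rw [h1, hT.one] at hθ; exact absurd hθ zero_ne_one
    · have h0 : (θ + 1) * (θ + 1) = 0 := by linear_combination e + hKK θ + hKK 1
      have h1 : θ = 1 := by
        have := mul_self_eq_zero.1 h0
        linear_combination this - hKK 1
      rw [h1, hT.one] at hθ
      exact absurd hθ zero_ne_one
    · exact e
  have hl1θ : l (1 + θ) = 1 := by rw [map_add, hT.one, hθ, zero_add]
  -- coordinates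
  have hbv : b ∉ K ∙ v := fun h => by
    obtain ⟨c, rfl⟩ := Submodule.mem_span_singleton.1 h
    simpa [hT.map_v] using hT.map_b
  have hvb : v ∉ K ∙ b := fun h => by
    obtain ⟨c, rfl⟩ := Submodule.mem_span_singleton.1 h
    have h0 := hT.map_v
    rw [map_smul, hT.map_b, smul_eq_mul, mul_one] at h0
    exact hT.ne (by rw [h0, zero_smul])
  obtain ⟨χ, hχv, hχ0⟩ := exists_dual_one' _ hvb
  have hχb : χ b = 0 := hχ0 b (Submodule.mem_span_singleton_self b)
  have hb0 : b ≠ 0 := fun h => hbv (h ▸ zero_mem _)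
  have hspan : K ∙ v ⊔ K ∙ b = ⊤ := by
    refine Submodule.eq_top_of_finrank_eq ?_
    have hlt : K ∙ v < K ∙ v ⊔ K ∙ b := lt_of_le_of_ne le_sup_left fun h =>
      hbv (h ▸ Submodule.mem_sup_right (Submodule.mem_span_singleton_self b))
    have h1 := Submodule.finrank_lt_finrank_of_lt hlt
    rw [finrank_span_singleton hT.ne] at h1
    have h3 := Submodule.finrank_le (K ∙ v ⊔ K ∙ b)
    omega
  have hext : ∀ E G : Module.End F V, E v = G v → E (θ • v) = G (θ • v) → E b = G b → E (θ • b) = G (θ • b) → E = G := by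
    intro E G a1 a2 a3 a4
    have line : ∀ w, E w = G w → E (θ • w) = G (θ • w) → ∀ c : K, E (c • w) = G (c • w) := fun w e1 e2 c => by
      obtain ⟨t, s, rfl⟩ := hKdec c
      rw [add_smul, mul_smul, algebraMap_smul, algebraMap_smul, map_add, map_add, E.map_smul, E.map_smul, G.map_smul, G.map_smul, e1, e2]
    refine LinearMap.ext fun x => ?_
    obtain ⟨y, hy, z, hz, rfl⟩ := Submodule.mem_sup.1 (hspan.ge (Submodule.mem_top (x := x)))
    obtain ⟨c, rfl⟩ := Submodule.mem_span_singleton.1 hy
    obtain ⟨d, rfl⟩ := Submodule.mem_span_singleton.1 hz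
    rw [map_add, map_add, line v a1 a2, line b a3 a4]
  have hMv : M v = 0 := by simpa [hT.one] using hT.onLine 1
  have hMθv : M (θ • v) = b := by rw [hT.onLine, hθ, one_smul]
  have hMb : M b = 0 := by simpa using hT.kill 0 1 (map_zero l)
  obtain ⟨c, s, hc, hMθb⟩ := hT.image (θ • b)
  obtain ⟨p, rfl⟩ := hker c hc
  rw [algebraMap_smul] at hMθb
  have h1M : InX X (1 + M) := by simpa using hT.smem 1
  rcases h2 p with rfl | rfl
  · -- the operator is itself of rank one
    rw [zero_smul, zero_add] at hMθb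
    let f : Dual F V := l.comp (χ.restrictScalars F) + s • l.comp (φ.restrictScalars F)
    have hf : f b = 0 := by simp [f, hχb, hT.map_b, hT.one]
    refine ⟨f, b, fun h => ?_, hb0, hf, tvec_mem hf ?_⟩
    · simpa [f, hχv, hT.map_v, hθ] using LinearMap.congr_fun h (θ • v)
    · have e : M = f.smulRight b := hext _ _ (by simp [f, hMv, hχv, hT.map_v, hT.one])
        (by simp [f, hMθv, hχv, hT.map_v, hθ]) (by simp [f, hMb, hχb, hT.map_b, hT.one]) (by simp [f, hMθb, hχb, hT.map_b, hθ])
      rwa [← e]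
  rw [one_smul] at hMθb
  have hnorm : Algebra.norm F θ = 1 := by
    rcases h2 (Algebra.norm F θ) with h | h
    · exact absurd (Algebra.norm_eq_zero_iff.1 h) hθ0
    · exact h
  have hN1 : InX X (1 + op φ (LinearMap.mulLeft F (1 : K)) v) := hO.op_mem hT.map_v 1
  have hLw : InX X (1 + op χ (LinearMap.mulLeft F θ) b) := hO.op_mem hχb θ
  have hE : InX X (dil χ v θ : Module.End F V) := hO.dil_mem hχv hnorm
  have hS : InX X ((dil χ v θ : Module.End F V) * dil φ b θ) := hE.mul (hO.dil_mem hT.map_b hnorm)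
  set N1 : Module.End F V := 1 + op φ (LinearMap.mulLeft F (1 : K)) v with hN1d
  set Lw : Module.End F V := 1 + op χ (LinearMap.mulLeft F θ) b with hLwd
  set E : Module.End F V := dil χ v θ with hEd
  set S : Module.End F V := (dil χ v θ : Module.End F V) * dil φ b θ with hSd
  set M' : Module.End F V := 1 + M with hM'd
  have hsub : θ - 1 = 1 + θ := by linear_combination -hKK 1
  -- the action of the generators on the four basis vectors
  have kv : ∀ w : V, (1 + θ) • w = w + θ • w := fun w => by rw [add_smul, one_smul]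
  have kθ : ∀ w : V, θ • θ • w = w + θ • w := fun w => by rw [smul_smul, hθθ, kv]
  have hd : ∀ w : V, w + (θ - 1) • w = θ • w := fun w => by rw [sub_smul, one_smul, add_sub_cancel]
  have hd2 : ∀ w : V, θ • w + ((θ - 1) * θ) • w = w + θ • w := fun w => by rw [mul_smul, hd, kθ]
  have e1 : E v = θ • v := by rw [hEd, dil_apply, hχv, mul_one, hd]
  have e2 : E (θ • v) = v + θ • v := by rw [hEd, dil_apply, map_smul, hχv, smul_eq_mul, mul_one, hd2]
  have e3 : E b = b := by rw [hEd, dil_apply, hχb, mul_zero, zero_smul, add_zero]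
  have e4 : E (θ • b) = θ • b := by rw [hEd, dil_apply, map_smul, hχb, smul_zero, mul_zero, zero_smul, add_zero]
  have d1 : (dil φ b θ : Module.End F V) v = v := by rw [dil_apply, hT.map_v, mul_zero, zero_smul, add_zero]
  have d2 : (dil φ b θ : Module.End F V) (θ • v) = θ • v := by
    rw [dil_apply, map_smul, hT.map_v, smul_zero, mul_zero, zero_smul, add_zero]
  have d3 : (dil φ b θ : Module.End F V) b = θ • b := by rw [dil_apply, hT.map_b, mul_one, hd]
  have d4 : (dil φ b θ : Module.End F V) (θ • b) = b + θ • b := by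
    rw [dil_apply, map_smul, hT.map_b, smul_eq_mul, mul_one, hd2]
  have s1 : S v = θ • v := by rw [hSd, Module.End.mul_apply, d1, ← hEd, e1]
  have s2 : S (θ • v) = v + θ • v := by rw [hSd, Module.End.mul_apply, d2, ← hEd, e2]
  have s3 : S b = θ • b := by rw [hSd, Module.End.mul_apply, d3, ← hEd, e4]
  have s4 : S (θ • b) = b + θ • b := by rw [hSd, Module.End.mul_apply, d4, ← hEd, map_add, e3, e4]
  have n1 : N1 v = v := by simp [hN1d, hT.map_v]
  have n2 : N1 (θ • v) = θ • v := by simp [hN1d, hT.map_v]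
  have n3 : N1 b = v + b := by simp [hN1d, hT.map_b, add_comm]
  have n4 : N1 (θ • b) = θ • v + θ • b := by simp [hN1d, hT.map_b, add_comm]
  have l1 : Lw v = v + θ • b := by simp [hLwd, hχv]
  have l2 : Lw (θ • v) = θ • v + (b + θ • b) := by simp [hLwd, hχv, hθθ, kv]
  have l3 : Lw b = b := by simp [hLwd, hχb]
  have l4 : Lw (θ • b) = θ • b := by simp [hLwd, hχb]
  have m1 : M' v = v := by simp [hM'd, hMv]
  have m2 : M' (θ • v) = θ • v + b := by simp [hM'd, hMθv]
  have m3 : M' b = b := by simp [hM'd, hMb]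
  have m4 : M' (θ • b) = θ • b + (v + s • b) := by simp [hM'd, hMθb]
  have cancel : ∀ x y : V, x + (x + y) = y := fun x y => by rw [← add_assoc, hVK, zero_add]
  rcases h2 s with rfl | rfl
  · let f : Dual F V := l.comp ((LinearMap.mulLeft F θ).comp (φ.restrictScalars F))
    have hw : (1 + θ) • b ≠ 0 := smul_ne_zero (fun h => by rw [h, map_zero] at hl1θ; exact zero_ne_one hl1θ) hb0
    have hf : f ((1 + θ) • b) = 0 := by
      simp only [f, LinearMap.comp_apply, LinearMap.restrictScalars_apply, map_smul, hT.map_b, smul_eq_mul, mul_one,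
        LinearMap.mulLeft_apply]
      rw [mul_add, mul_one, hθθ, show θ + (1 + θ) = 1 by linear_combination hKK θ, hT.one]
    refine ⟨f, (1 + θ) • b, fun h => ?_, hw, hf, tvec_mem hf ?_⟩
    · simpa [f, hT.map_b, hθ] using LinearMap.congr_fun h b
    · have hW : InX X (S * M' * E * M' * E * M') := ((((hS.mul h1M).mul hE).mul h1M).mul hE).mul h1M
      convert hW using 1
      refine hext _ _ ?_ ?_ ?_ ?_ <;>
        simp [f, hT.map_v, hT.map_b, hθ, hθθ, kv, add_smul, one_smul, hl1θ, hT.one, s1, s2, s3, s4, e1, e2, e3, e4, m1, m2, m3, m4, hVK, cancel,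
          add_comm, add_left_comm, add_assoc]
  · let f : Dual F V := l.comp ((LinearMap.mulLeft F (1 + θ)).comp (φ.restrictScalars F))
    have hf : f (θ • v) = 0 := by simp [f, hT.map_v]
    refine ⟨f, θ • v, fun h => ?_, smul_ne_zero hθ0 hT.ne, hf, tvec_mem hf ?_⟩
    · simpa [f, hT.map_b, hl1θ] using LinearMap.congr_fun h b
    · have hW : InX X (N1 * M' * Lw * S * E * M' * S) := (((((hN1.mul h1M).mul hLw).mul hS).mul hE).mul h1M).mul hS
      have hz : (1 + θ) * θ = 1 := by linear_combination hθθ + hKK θ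
      convert hW using 1
      refine hext _ _ ?_ ?_ ?_ ?_ <;>
        simp [f, hT.map_v, hT.map_b, hθ, hθθ, hz, show (θ + 1) * θ = 1 by linear_combination hz, kv, add_smul, one_smul, hl1θ, hT.one, n1, n2, n3, n4, l1, l2, l3, l4, s1, s2, s3, s4, e1, e2, e3,
          e4, m1, m2, m3, m4, hVK, cancel, add_comm, add_left_comm, add_assoc]

end Cfsg.Agent.ClassicalMax.ExtField
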