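import Cfsg.Agent.ClassicalMax.ExtField.Main
import Cfsg.Agent.ClassicalMax.Symplectic

/-!
Overgroups in a symplectic group of the symplectic group over an extension field of prime degree.
-/

set_option autoImplicit false
set_option linter.unusedSectionVars false
set_option linter.style.haveILetI false

namespace Cfsg.Agent.ClassicalMax.ExtField

open Module Cfsg.Agent.Classical

variable {F K V : Type*} [Field F] [Field K] [Algebra F K] [AddCommGroup V] [Module F V] [Module K V]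
  [IsScalarTower F K V] [Finite K] [FiniteDimensional F V]

/-- the hypotheses: `X` lies between the isometries linear over `K` and all isometries -/
structure SpOver (B : LinearMap.BilinForm F V) (X : Subgroup (V ≃ₗ[F] V)) (K : Type*) [Field K] [Algebra F K] [Module K V]
    [IsScalarTower F K V] : Prop where
  prime : (finrank F K).Prime
  alt : B.IsAlt
  nd : B.Nondegenerate
  sa : ∀ (k : K) (x z : V), B (k • x) z = B x (k • z)
  ha : ∀ (k : K) (x : V), B (k • x) x = 0
  iso : X ≤ Alt.isoGroup B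
  le : ∀ D : V ≃ₗ[K] V, (∀ x z, B (D x) (D z) = B x z) → InX X (D.toLinearMap.restrictScalars F)

/-- an alternating form over `K` with trace `B` under `l` -/
structure KForm (B : LinearMap.BilinForm F V) (l : K →ₗ[F] F) (b : V →ₗ[K] V →ₗ[K] K) : Prop where
  spec : ∀ (c : K) (x z : V), l (c * b x z) = B (c • x) z
  alt : ∀ x, b x x = 0

theorem mul_sep {l : K →ₗ[F] F} (hl : l ≠ 0) {a b : K} (h : ∀ c, l (c * a) = l (c * b)) : a = b := by
  by_contra hne
  refine hl (LinearMap.ext fun c => ?_)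
  have := h (c * (a - b)⁻¹)
  rw [← sub_eq_zero, ← map_sub, ← mul_sub, inv_mul_cancel_right₀ (sub_ne_zero.2 hne)] at this
  exact this

theorem mul_rep [FiniteDimensional F K] {l : K →ₗ[F] F} (hl : l ≠ 0) (f : K →ₗ[F] F) : ∃ κ : K, ∀ c, l (c * κ) = f c := by
  let T : K →ₗ[F] Dual F K := ((LinearMap.mul F K).compr₂ l).flip
  have hinj : Function.Injective T := fun a b h => mul_sep hl fun c => LinearMap.congr_fun h c
  obtain ⟨κ, hκ⟩ := (LinearMap.injective_iff_surjective_of_finrank_eq_finrank Subspace.dual_finrank_eq.symm).1 hinj f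
  exact ⟨κ, fun c => LinearMap.congr_fun hκ c⟩

variable {B : LinearMap.BilinForm F V} {X : Subgroup (V ≃ₗ[F] V)}

theorem SpOver.finK (hO : SpOver B X K) : FiniteDimensional F K := Module.finite_of_finrank_pos hO.prime.pos

theorem SpOver.finV (_hO : SpOver B X K) : FiniteDimensional K V := Module.Finite.right F K V

theorem SpOver.exists_form (hO : SpOver B X K) {l : K →ₗ[F] F} (hl : l ≠ 0) : ∃ b, KForm (K := K) B l b := by
  haveI := hO.finK
  choose p hp using fun x z : V => mul_rep hl ((B.flip z).comp ((LinearMap.toSpanSingleton K V x).restrictScalars F))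
  have hp' : ∀ x z c, l (c * p x z) = B (c • x) z := hp
  let b : V →ₗ[K] V →ₗ[K] K := LinearMap.mk₂ K p
    (fun x x' z => mul_sep hl fun c => by rw [mul_add, map_add, hp', hp', hp', smul_add, map_add, LinearMap.add_apply])
    (fun a x z => mul_sep hl fun c => by rw [smul_eq_mul, ← mul_assoc, hp', hp', smul_smul])
    (fun x z z' => mul_sep hl fun c => by rw [mul_add, map_add, hp', hp', hp', map_add])
    (fun a x z => mul_sep hl fun c => by rw [smul_eq_mul, ← mul_assoc, hp', hp', ← hO.sa a (c • x) z, smul_smul, mul_comm a c])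
  exact ⟨b, fun c x z => hp' x z c, fun x => mul_sep hl fun c => by rw [mul_zero, map_zero]; exact (hp' x x c).trans (hO.ha c x)⟩

namespace KForm

variable {l : K →ₗ[F] F} {b : V →ₗ[K] V →ₗ[K] K}

theorem swap (hb : KForm B l b) (x z : V) : b z x = -b x z := by
  have h := hb.alt (x + z)
  simp only [map_add, LinearMap.add_apply, hb.alt] at h
  linear_combination h

theorem spec1 (hb : KForm B l b) (x z : V) : l (b x z) = B x z := by simpa using hb.spec 1 x z

theorem nd (hb : KForm B l b) (hO : SpOver B X K) {x : V} (hx : ∀ z, b x z = 0) : x = 0 :=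
  hO.nd.1 x fun z => by rw [← hb.spec1, hx, map_zero]

theorem exists_val (hb : KForm B l b) (hO : SpOver B X K) {x : V} (hx : x ≠ 0) (c : K) : ∃ z, b x z = c := by
  obtain ⟨z, hz⟩ : ∃ z, b x z ≠ 0 := by
    by_contra! h
    exact hx (hb.nd hO h)
  exact ⟨(c / b x z) • z, by rw [map_smul, smul_eq_mul, div_mul_cancel₀ _ hz]⟩

/-- a pair of values on two independent vectors -/
theorem exists_val₂ (hb : KForm B l b) (hO : SpOver B X K) {v y : V} (hv : v ≠ 0) (hy : y ∉ K ∙ v) :
    ∃ w, b v w = 0 ∧ b y w = 1 := by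
  by_contra hc
  push Not at hc
  obtain ⟨z, hz⟩ := hb.exists_val hO hv 1
  have hker : ∀ w, b v w = 0 → b y w = 0 := fun w hw => by
    by_contra hne
    exact hc ((b y w)⁻¹ • w) (by rw [map_smul, hw, smul_zero]) (by rw [map_smul, smul_eq_mul, inv_mul_cancel₀ hne])
  refine hy (Submodule.mem_span_singleton.2 ⟨b y z, (sub_eq_zero.1 (hb.nd hO fun w => ?_)).symm⟩)
  have := hker (w - b v w • z) (by rw [map_sub, map_smul, hz, smul_eq_mul, mul_one, sub_self])
  rw [map_sub, map_smul, smul_eq_mul] at this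
  rw [map_sub, map_smul, LinearMap.sub_apply, LinearMap.smul_apply, smul_eq_mul]
  linear_combination this

theorem iso_of_preserves (hb : KForm B l b) (D : V ≃ₗ[K] V) (h : ∀ x z, b (D x) (D z) = b x z) (x z : V) :
    B (D x) (D z) = B x z := by rw [← hb.spec1, h, hb.spec1]

theorem mem_of_square_zero (hb : KForm B l b) (hO : SpOver B X K) (N : V →ₗ[K] V) (hN : N.comp N = 0)
    (h : ∀ x z, b (x + N x) (z + N z) = b x z) : InX X (1 + N.restrictScalars F) := by
  have hNN : ∀ x, N (N x) = 0 := fun x => LinearMap.congr_fun hN x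
  let D : V ≃ₗ[K] V := LinearEquiv.ofLinearMap (LinearMap.id + N) (LinearMap.id - N)
    (LinearMap.ext fun x => by simp [hNN]) (LinearMap.ext fun x => by simp [hNN])
  exact hO.le D (hb.iso_of_preserves D h)

/-- the transvections over `K` -/
theorem op_mem (hb : KForm B l b) (hO : SpOver B X K) (w : V) (k : K) :
    InX X (1 + op (b w) (LinearMap.mulLeft F k) w) := by
  have h := hb.mem_of_square_zero hO ((LinearMap.toSpanSingleton K V w).comp (k • b w))
    (LinearMap.ext fun x => by simp [hb.alt w]) (fun x z => by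
      simp only [LinearMap.comp_apply, LinearMap.toSpanSingleton_apply, LinearMap.smul_apply, smul_eq_mul, map_add, map_smul,
        LinearMap.add_apply, hb.alt, hb.swap w x]
      ring)
  exact h

/-- transitivity on non-zero vectors -/
theorem trans (hb : KForm B l b) (hO : SpOver B X K) {x z : V} (hx : x ≠ 0) (hz : z ≠ 0) :
    ∃ g ∈ X, g x = z ∧ ∀ (c : K) (u : V), g (c • u) = c • g u := by
  have step : ∀ x z, b x z ≠ 0 → ∃ g ∈ X, g x = z ∧ ∀ (c : K) (u : V), g (c • u) = c • g u := by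
    intro x z h
    obtain ⟨g, hg, e⟩ := hb.op_mem hO (z - x) (-(b x z)⁻¹)
    have hgu : ∀ u, g u = u + (-(b x z)⁻¹ * b (z - x) u) • (z - x) := fun u => LinearMap.congr_fun e u
    refine ⟨g, hg, ?_, fun c u => ?_⟩
    · rw [hgu, map_sub, LinearMap.sub_apply, hb.alt, sub_zero, hb.swap x z, neg_mul_neg, inv_mul_cancel₀ h, one_smul,
        add_sub_cancel]
    · rw [hgu, hgu, map_smul, smul_eq_mul, smul_add, smul_smul, mul_left_comm]
  by_cases h : b x z = 0
  · obtain ⟨w₁, h₁⟩ := hb.exists_val hO hx 1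
    obtain ⟨w, hxw, hzw⟩ : ∃ w, b x w ≠ 0 ∧ b z w ≠ 0 := by
      obtain ⟨w₂, h₂⟩ := hb.exists_val hO hz 1
      by_cases h3 : b z w₁ = 0
      · by_cases h4 : b x w₂ = 0
        · exact ⟨w₁ + w₂, by rw [map_add, h₁, h4, add_zero]; exact one_ne_zero, by rw [map_add, h3, h₂, zero_add]; exact one_ne_zero⟩
        · exact ⟨w₂, h4, by rw [h₂]; exact one_ne_zero⟩
      · exact ⟨w₁, by rw [h₁]; exact one_ne_zero, h3⟩
    obtain ⟨g₁, hg₁, e₁, s₁⟩ := step x w hxw
    obtain ⟨g₂, hg₂, e₂, s₂⟩ := step w z (by rw [hb.swap z w]; exact neg_ne_zero.2 hzw)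
    exact ⟨g₂ * g₁, mul_mem hg₂ hg₁, by rw [LinearEquiv.mul_apply, e₁, e₂],
      fun c u => by rw [LinearEquiv.mul_apply, LinearEquiv.mul_apply, s₁, s₂]⟩
  · exact step x z h

end KForm

theorem isotropic (hO : SpOver B X K) {g : V ≃ₗ[F] V} (hg : g ∈ X) (v : V) (c c' : K) : B (g (c • v)) (g (c' • v)) = 0 := by
  rw [hO.iso hg, ← hO.sa c', smul_smul]
  exact hO.ha _ v

/-- an element outside the normaliser gives a configuration -/
theorem exists_sp_core₀ (hO : SpOver B X K) {l : K →ₗ[F] F} {b : V →ₗ[K] V →ₗ[K] K} (hb : KForm B l b) (hdim : 2 ≤ finrank K V)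
    (hsl : ∃ g ∈ X, ∃ (k : K) (x : V), g (k • x) ∉ K ∙ g x) :
    ∃ (g : V ≃ₗ[F] V) (v y : V) (φ : Dual K V) (l' : K →ₗ[F] F), Core X g v y φ l' := by
  haveI := hO.finK
  haveI := hO.finV
  haveI : Finite V := Module.finite_of_finite K
  haveI : Finite (V ≃ₗ[F] V) := Finite.of_injective (fun g => (g : V → V)) DFunLike.coe_injective
  obtain ⟨g₀, hg₀, k, x, hkx⟩ := hsl
  have hx : x ≠ 0 := by rintro rfl; simp at hkx
  obtain ⟨D, hD, hDx, hDs⟩ := hb.trans hO (g₀.map_ne_zero_iff.2 hx) hx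
  let A := ln F K x
  let img : (V ≃ₗ[F] V) → Submodule F V := fun g => A.map g.toLinearMap
  have hA : finrank F A = finrank F K := finrank_ln hx
  have himg : ∀ g, finrank F (img g) = finrank F K := fun g => (LinearEquiv.finrank_map_eq g A).trans hA
  let P : Set (V ≃ₗ[F] V) := {g | g ∈ X ∧ img g ≠ A}
  have hg1 : D * g₀ ∈ P := by
    refine ⟨mul_mem hD hg₀, fun h => hkx ?_⟩
    have : (D * g₀) (k • x) ∈ A := h ▸ Submodule.mem_map_of_mem (mem_ln.2 ⟨k, rfl⟩)
    obtain ⟨c, hc⟩ := mem_ln.1 this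
    refine Submodule.mem_span_singleton.2 ⟨c, D.injective ?_⟩
    rw [hDs, hDx, hc]
    rfl
  obtain ⟨g, ⟨hgX, hgA⟩, hmax⟩ := Set.exists_max_image P (fun g => finrank F (A ⊓ img g : Submodule F V)) P.toFinite ⟨_, hg1⟩
  set C := img g with hC
  set U : Submodule F V := A ⊓ C with hU
  have hUne : U ≠ ⊥ := fun h => by
    have hm : x ∈ A ⊓ img (D * g₀) := ⟨self_mem_ln x, ⟨x, self_mem_ln x, hDx⟩⟩
    have h1 : 0 < finrank F (A ⊓ img (D * g₀) : Submodule F V) :=
      Submodule.one_le_finrank_iff.2 (fun h' => hx ((Submodule.mem_bot F).1 (h' ▸ hm)))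
    have h2 : finrank F (A ⊓ img (D * g₀) : Submodule F V) ≤ finrank F U := hmax _ hg1
    have h3 : finrank F U = 0 := by rw [h, finrank_bot]
    omega
  obtain ⟨v, hvU, hv0⟩ := Submodule.exists_mem_ne_zero_of_ne_bot hUne
  have hAv : ln F K v = A := ln_eq_of_mem hvU.1 hv0
  have hinA : ∀ c : K, c • v ∈ A := fun c => hAv ▸ mem_ln.2 ⟨c, rfl⟩
  have hAmem : ∀ y ∈ A, ∃ c : K, c • v = y := fun y hy => mem_ln.1 (hAv.symm ▸ hy : y ∈ ln F K v)
  have hAC : ¬ A ≤ C := fun h => hgA (Submodule.eq_of_le_of_finrank_le h (le_of_eq ((himg g).trans hA.symm))).symm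
  -- the dichotomy
  have hdich : ∀ N : Module.End F V, InX X (1 + N) → N * N = 0 → (∀ c : K, N (c • v) = 0) →
      (∀ y ∈ C, N y ∈ C) ∨ (∀ y ∈ C, N y ∈ C → y ∈ U) := by
    intro N ⟨T, hT, eT⟩ hNN hNA
    have hTy : ∀ y, T y = y + N y := fun y => LinearMap.congr_fun eT y
    have hN2 : ∀ y, N (N y) = 0 := fun y => LinearMap.congr_fun hNN y
    let g' := g⁻¹ * T * g
    have hg' : g' ∈ X := mul_mem (mul_mem (inv_mem hgX) hT) hgX
    have hinter : (A ⊓ img g').map g.toLinearMap = C ⊓ C.map T.toLinearMap := by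
      rw [Submodule.map_inf _ g.injective]
      congr 1
      show (A.map g'.toLinearMap).map g.toLinearMap = (A.map g.toLinearMap).map T.toLinearMap
      rw [← Submodule.map_comp, ← Submodule.map_comp]
      congr 1
      exact LinearMap.ext fun y => apply_inv g _
    by_cases hp : g' ∈ P
    · refine Or.inr fun y hy hNy => ?_
      let Q : Submodule F V := C ⊓ C.comap N
      have hUQ : U ≤ Q := fun z hz => ⟨hz.2, by
        obtain ⟨c, rfl⟩ := hAmem z hz.1
        show N (c • v) ∈ C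
        rw [hNA]; exact zero_mem _⟩
      have hQC : Q ≤ C ⊓ C.map T.toLinearMap := fun z hz => by
        obtain ⟨hzC, hzN⟩ := hz
        refine ⟨hzC, z - N z, C.sub_mem hzC hzN, ?_⟩
        show T (z - N z) = z
        rw [hTy, map_sub, hN2, sub_zero, sub_add_cancel]
      have hle : finrank F (C ⊓ C.map T.toLinearMap : Submodule F V) ≤ finrank F U := by
        rw [← hinter, LinearEquiv.finrank_map_eq g]
        exact hmax g' hp
      exact (Submodule.eq_of_le_of_finrank_le hUQ ((Submodule.finrank_mono hQC).trans hle)) ▸ (⟨hy, hNy⟩ : y ∈ Q)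
    · refine Or.inl fun y hy => ?_
      have he : img g' = A := by
        by_contra hc
        exact hp ⟨hg', hc⟩
      have hTC : T y ∈ C ⊓ C.map T.toLinearMap := by
        rw [← hinter, he, inf_idem]
        obtain ⟨z, hz, rfl⟩ := hy
        exact ⟨g⁻¹ (T (g z)), he ▸ ⟨z, hz, rfl⟩, apply_inv g _⟩
      have h1 := hTC.1
      rw [hTy] at h1
      exact (C.add_mem_iff_right hy).1 h1
  obtain ⟨y₁, hy₁, hy₁A⟩ : ∃ y ∈ C, y ∉ A := by
    by_contra hc
    push Not at hc
    exact hgA (Submodule.eq_of_le_of_finrank_le hc (le_of_eq (hA.trans (himg g).symm)))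
  have hy₁U : y₁ ∉ U := fun h => hy₁A h.1
  -- the image lies in the plane of the line and one vector
  have horth : ∀ w, b v w = 0 → b y₁ w = 0 → ∀ y ∈ C, b y w = 0 := by
    intro w hw h1 y hy
    have hN : ∀ k : K, (∀ y ∈ C, (k * b w y) • w ∈ C) := by
      intro k
      rcases hdich _ (hb.op_mem hO w k) (op_mul_op (hb.alt w) _ _) (fun c => by
        rw [op_apply, map_smul, hb.swap v w, hw, neg_zero, smul_zero, LinearMap.mulLeft_apply, mul_zero, zero_smul]) with h | h
      · exact h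
      · refine absurd (h y₁ hy₁ ?_) hy₁U
        rw [op_apply, hb.swap y₁ w, h1, neg_zero, LinearMap.mulLeft_apply, mul_zero, zero_smul]
        exact zero_mem _
    by_contra hne
    have hwy : b w y ≠ 0 := by rw [hb.swap y w]; exact neg_ne_zero.2 hne
    have hw0 : w ≠ 0 := by rintro rfl; simp at hne
    have hle : ln F K w ≤ C := fun u hu => by
      obtain ⟨c, rfl⟩ := mem_ln.1 hu
      have := hN (c / b w y) y hy
      rwa [div_mul_cancel₀ _ hwy] at this
    have hCw : ln F K w = C := Submodule.eq_of_le_of_finrank_le hle (le_of_eq ((himg g).trans (finrank_ln hw0).symm))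
    have hv' : v ∈ ln F K w := hCw ▸ hvU.2
    refine hAC ?_
    rw [← hAv, ln_eq_of_mem hv' hv0, hCw]
  have hspan : y₁ ∉ K ∙ v := fun h => hy₁A (by
    obtain ⟨c, rfl⟩ := Submodule.mem_span_singleton.1 h
    exact hinA c)
  obtain ⟨w₀, hw₀v, hw₀y⟩ := hb.exists_val₂ hO hv0 hspan
  let τ : Dual K V := b.flip w₀
  have hτv : τ v = 0 := hw₀v
  have hτy : τ y₁ = 1 := hw₀y
  have hdec : ∀ y ∈ C, ∃ c : K, y = c • v + τ y • y₁ := by
    intro y hy
    have hz : ∀ w, b v w = 0 → b (y - τ y • y₁) w = 0 := fun w hw => by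
      have := horth (w - b y₁ w • w₀) (by rw [map_sub, map_smul, hw, hw₀v, smul_zero, sub_zero])
        (by rw [map_sub, map_smul, hw₀y, smul_eq_mul, mul_one, sub_self]) y hy
      rw [map_sub, map_smul, smul_eq_mul, sub_eq_zero] at this
      rw [map_sub, map_smul, LinearMap.sub_apply, LinearMap.smul_apply, this, smul_eq_mul]
      show b y₁ w * b y w₀ - b y w₀ * b y₁ w = 0
      ring
    obtain ⟨z, hz1⟩ := hb.exists_val hO hv0 1
    refine ⟨b (y - τ y • y₁) z, ?_⟩
    rw [← sub_eq_iff_eq_add]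
    refine sub_eq_zero.1 (hb.nd hO fun w => ?_)
    have h2 := hz (w - b v w • z) (by rw [map_sub, map_smul, hz1, smul_eq_mul, mul_one, sub_self])
    rw [map_sub (b (y - τ y • y₁)), map_smul (b (y - τ y • y₁)), smul_eq_mul, sub_eq_zero] at h2
    rw [map_sub, map_smul b (b (y - τ y • y₁) z) v, LinearMap.sub_apply, LinearMap.smul_apply, h2, smul_eq_mul]
    ring
  let UK : Submodule F K := C.comap ((LinearMap.toSpanSingleton K V v).restrictScalars F)
  have hUK : ∀ c, c ∈ UK ↔ c • v ∈ C := fun c => Iff.rfl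
  have hUKtop : UK ≠ ⊤ := fun h => hAC fun y hy => by
    obtain ⟨c, rfl⟩ := hAmem y hy
    exact (hUK c).1 (h ▸ Submodule.mem_top)
  have h1UK : (1 : K) ∈ UK := (hUK 1).2 (by rw [one_smul]; exact hvU.2)
  have hmult : ∀ c : K, (∀ u ∈ UK, u * c ∈ UK) → ∃ t : F, algebraMap F K t = c := by
    intro c hc
    let Mu : Subalgebra F K :=
      { carrier := {c | ∀ u ∈ UK, u * c ∈ UK}
        mul_mem' := fun {a b} ha hb u hu => by rw [← mul_assoc]; exact hb _ (ha u hu)
        one_mem' := fun u hu => by rwa [mul_one]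
        add_mem' := fun {a b} ha hb u hu => by rw [mul_add]; exact add_mem (ha u hu) (hb u hu)
        zero_mem' := fun u _ => by rw [mul_zero]; exact zero_mem _
        algebraMap_mem' := fun t u hu => by rw [mul_comm, ← Algebra.smul_def]; exact UK.smul_mem t hu }
    haveI := Subalgebra.isSimpleOrder_of_finrank_prime F K hO.prime
    rcases eq_bot_or_eq_top Mu with h | h
    · exact Algebra.mem_bot.1 (h ▸ (hc : c ∈ Mu))
    · refine absurd (eq_top_iff.2 fun z _ => ?_) hUKtop
      have hz : z ∈ Mu := h ▸ Algebra.mem_top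
      simpa using hz 1 h1UK
  -- the vector pushed into the line
  have hpush : ∀ u : K, ∃ N : Module.End F V, InX X (1 + N) ∧ N * N = 0 ∧ (∀ c : K, N (c • v) = 0) ∧
      ∀ y ∈ C, N y = (u * τ y) • v := by
    intro u
    by_cases hI : b y₁ v = 0
    · have hw' : b w₀ v = 0 := by rw [hb.swap v w₀, hw₀v, neg_zero]
      let N : V →ₗ[K] V := (LinearMap.toSpanSingleton K V w₀).comp (u • b.flip v) + (LinearMap.toSpanSingleton K V v).comp (u • τ)
      have hN : ∀ x, N x = (u * b x v) • w₀ + (u * b x w₀) • v := fun x => rfl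
      have hNN : N.comp N = 0 := LinearMap.ext fun x => by
        rw [LinearMap.comp_apply, hN (N x), hN x]
        simp [hb.alt, hw₀v, hw']
      refine ⟨_, hb.mem_of_square_zero hO N hNN (fun x z => ?_),
        LinearMap.ext fun x => LinearMap.congr_fun hNN x, fun c => ?_, fun y hy => ?_⟩
      · simp only [hN, map_add, map_smul, LinearMap.add_apply, LinearMap.smul_apply, hb.alt, hw₀v, hw', smul_eq_mul]
        rw [hb.swap z v, hb.swap z w₀]
        ring
      · show N (c • v) = 0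
        simp [hN, hb.alt, hw₀v]
      · obtain ⟨c, hc⟩ := hdec y hy
        show N y = _
        have h0 : b y v = 0 := by rw [hc]; simp [hb.alt, hI]
        rw [hN, h0, mul_zero, zero_smul, zero_add]
        rfl
    · refine ⟨_, hb.op_mem hO v (-u / b y₁ v), op_mul_op (hb.alt v) _ _, fun c => by simp [hb.alt], fun y hy => ?_⟩
      obtain ⟨c, hc⟩ := hdec y hy
      have h0 : b v y = τ y * b v y₁ := by
        conv_lhs => rw [hc]
        simp [hb.alt]
      rw [op_apply, LinearMap.mulLeft_apply, h0, hb.swap y₁ v]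
      congr 1
      field_simp
  have hτF : ∀ y ∈ C, ∃ t : F, algebraMap F K t = τ y := fun y hy => hmult _ fun u hu => by
    obtain ⟨N, hN, hNN, hNA, hNy⟩ := hpush u
    rcases hdich N hN hNN hNA with h | h
    · exact (hUK _).2 (hNy y hy ▸ h y hy)
    · refine absurd (h y₁ hy₁ ?_) hy₁U
      rw [hNy y₁ hy₁, hτy, mul_one]
      exact hu
  have hdecC : ∀ y ∈ C, ∃ (c : K) (t : F), c ∈ UK ∧ y = c • v + t • y₁ := fun y hy => by
    obtain ⟨c, hc⟩ := hdec y hy
    obtain ⟨t, ht⟩ := hτF y hy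
    rw [← ht, algebraMap_smul] at hc
    exact ⟨c, t, (hUK c).2 (by rw [show c • v = y - t • y₁ by rw [hc]; abel]; exact C.sub_mem hy (C.smul_mem t hy₁)), hc⟩
  have hdimC : finrank F K ≤ finrank F UK + 1 := by
    rw [← himg g]
    have hle : C ≤ UK.map ((LinearMap.toSpanSingleton K V v).restrictScalars F) ⊔ F ∙ y₁ := fun y hy => by
      obtain ⟨c, t, hc, rfl⟩ := hdecC y hy
      exact add_mem (Submodule.mem_sup_left ⟨c, hc, rfl⟩) (Submodule.mem_sup_right (Submodule.smul_mem _ _ (Submodule.mem_span_singleton_self y₁)))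
    refine (Submodule.finrank_mono hle).trans ((Submodule.finrank_add_le_finrank_add_finrank _ _).trans ?_)
    exact add_le_add (Submodule.finrank_map_le _ _) (finrank_span_singleton (show y₁ ≠ 0 from fun h => hy₁A (by rw [h]; exact zero_mem _))).le
  obtain ⟨l', hl0, hle⟩ := UK.exists_le_ker_of_lt_top (lt_top_iff_ne_top.2 hUKtop)
  have hker : UK = LinearMap.ker l' := by
    refine Submodule.eq_of_le_of_finrank_le hle ?_
    have h1 := Submodule.finrank_lt (s := LinearMap.ker l') (fun h => hl0 (LinearMap.ker_eq_top.1 h))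
    omega
  refine ⟨g, v, y₁, τ, l', ⟨hgX, hv0, hτv, hτy, LinearMap.mem_ker.1 (hle h1UK), hl0, fun y => ?_⟩⟩
  have hCy : (∃ c : K, g (c • v) = y) ↔ y ∈ C := by
    show _ ↔ y ∈ A.map g.toLinearMap
    rw [← hAv, Submodule.mem_map]
    exact ⟨fun ⟨c, e⟩ => ⟨_, mem_ln.2 ⟨c, rfl⟩, e⟩, fun ⟨z, hz, e⟩ => by
      obtain ⟨c, rfl⟩ := mem_ln.1 hz
      exact ⟨c, e⟩⟩
  rw [hCy]
  constructor
  · intro hy
    obtain ⟨c, t, hc, e⟩ := hdecC y hy
    exact ⟨c, t, LinearMap.mem_ker.1 (hle hc), e⟩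
  · rintro ⟨c, t, hc, rfl⟩
    exact C.add_mem ((hUK c).1 (hker.ge hc)) (C.smul_mem t hy₁)

/-- the configuration can be taken with the two lines not orthogonal, and normalised -/
theorem exists_sp_core (hO : SpOver B X K) (hdim : 2 ≤ finrank K V) (hsl : ∃ g ∈ X, ∃ (k : K) (x : V), g (k • x) ∉ K ∙ g x) :
    ∃ (g : V ≃ₗ[F] V) (v y : V) (l : K →ₗ[F] F) (b : V →ₗ[K] V →ₗ[K] K), KForm B l b ∧ b v y = 1 ∧ Core X g v y (b v) l := by
  haveI := hO.finK
  haveI := hO.finV
  obtain ⟨l₀, hl₀⟩ : ∃ l : K →ₗ[F] F, l ≠ 0 := by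
    obtain ⟨φ, hφ, -⟩ := exists_dual_one (F := F) (⊥ : Submodule F K) (x := (1 : K)) (by rw [Submodule.mem_bot]; exact one_ne_zero)
    exact ⟨φ, fun h => by simp [h] at hφ⟩
  obtain ⟨b₀, hb⟩ := hO.exists_form hl₀
  obtain ⟨g, v, y, τ, l', hc⟩ := exists_sp_core₀ hO hb hdim hsl
  obtain ⟨c₀, hc₀⟩ : ∃ c, l' c ≠ 0 := by by_contra! h; exact hc.lne (LinearMap.ext h)
  have hnot : ∀ c : K, g (c • v) ≠ c₀ • v := fun c e => by
    obtain ⟨c', t, hc', e'⟩ := (hc.image (c₀ • v)).1 ⟨c, e⟩
    have h0 := congrArg τ e'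
    rw [τ.map_smul, hc.map_v, smul_zero, map_add, τ.map_smul, hc.map_v, smul_zero, zero_add, ← algebraMap_smul K t y, τ.map_smul,
      hc.map_b, smul_eq_mul, mul_one] at h0
    have ht : t = 0 := (algebraMap F K).injective (by rw [map_zero]; exact h0.symm)
    rw [ht, zero_smul, add_zero] at e'
    exact hc₀ (smul_left_injective K hc.ne e' ▸ hc')
  obtain ⟨j₀, hj₀⟩ := (hc.image v).2 ⟨1, 0, hc.one, by rw [one_smul, zero_smul, add_zero]⟩
  set y' := g⁻¹ (c₀ • v) with hy'
  have hy'A : y' ∉ K ∙ v := fun h => by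
    obtain ⟨c, e⟩ := Submodule.mem_span_singleton.1 h
    exact hnot c (by rw [e, apply_inv])
  obtain ⟨z, hzv, hzy⟩ := hb.exists_val₂ hO hc.ne hy'A
  obtain ⟨a, ha⟩ : ∃ a, l₀ a ≠ 0 := by by_contra! h; exact hl₀ (LinearMap.ext h)
  obtain ⟨T, hT, eT⟩ := hb.op_mem hO z a
  have hTx : ∀ x, T x = x + (a * b₀ z x) • z := fun x => LinearMap.congr_fun eT x
  have hTv : ∀ c : K, T (c • v) = c • v := fun c => by
    rw [hTx, map_smul, hb.swap v z, hzv, neg_zero, smul_zero, mul_zero, zero_smul, add_zero]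
  set g' := g * T * g⁻¹ with hg'
  have hg'X : g' ∈ X := mul_mem (mul_mem hc.mem hT) (inv_mem hc.mem)
  have hfix : ∀ c, l' c = 0 → g' (c • v) = c • v := fun c h => by
    obtain ⟨d, hd⟩ := (hc.image (c • v)).2 ⟨c, 0, h, by rw [zero_smul, add_zero]⟩
    show g (T (g⁻¹ (c • v))) = c • v
    rw [← hd, inv_apply, hTv]
  set y₂ := g' (c₀ • v) with hy₂
  have hBy : B (c₀ • v) y₂ = -l₀ a := by
    have e1 : B (c₀ • v) y₂ = B y' (T y') := by
      rw [hy₂]
      show B (c₀ • v) (g (T y')) = _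
      conv_lhs => rw [show c₀ • v = g y' by rw [hy', apply_inv]]
      exact hO.iso hc.mem _ _
    rw [e1, hTx, map_add, hO.alt, zero_add, ← hO.sa, ← hb.spec, hb.swap y' z, hzy]
    simp
  have hv2 : b₀ v y₂ ≠ 0 := fun h => by
    have := hb.spec c₀ v y₂
    rw [h, mul_zero, map_zero, hBy] at this
    exact ha (neg_eq_zero.1 this.symm)
  set y₃ := y₂ with hy₃
  let l : K →ₗ[F] F := (B.flip y₃).comp ((LinearMap.toSpanSingleton K V v).restrictScalars F)
  have hl : ∀ c, l c = B (c • v) y₃ := fun c => rfl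
  have hlc : l c₀ ≠ 0 := by rw [hl, hBy]; exact neg_ne_zero.2 ha
  obtain ⟨b, hb'⟩ := hO.exists_form (fun h => hlc (by rw [h]; rfl) : l ≠ 0)
  have hvy : b v y₃ = 1 := mul_sep (fun h => hlc (by rw [h]; rfl) : l ≠ 0) fun c => by rw [hb'.spec, mul_one, hl]
  have hl' : ∀ c, l' c = 0 → l c = 0 := fun c h => by
    rw [hl]
    conv_lhs => rw [← hfix c h, hy₂]
    exact isotropic hO hg'X v c c₀
  have hker : LinearMap.ker l' = LinearMap.ker l := by
    refine Submodule.eq_of_le_of_finrank_le (fun c h => hl' c h) ?_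
    have h1 := Submodule.finrank_lt (s := LinearMap.ker l) (fun h => hlc (LinearMap.mem_ker.1 (h ▸ Submodule.mem_top)))
    have h2 := LinearMap.finrank_range_add_finrank_ker l'
    have h3 := Submodule.finrank_le (LinearMap.range l')
    rw [finrank_self] at h3
    omega
  refine ⟨g', v, y₃, l, b, hb', hvy, hg'X, hc.ne, hb'.alt v, hvy, hl' 1 hc.one, fun h => hlc (by rw [h]; rfl), fun x => ?_⟩
  constructor
  · rintro ⟨c, rfl⟩
    refine ⟨c - (l' c / l' c₀) • c₀, l' c / l' c₀, hker.le ?_, ?_⟩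
    · rw [LinearMap.mem_ker, map_sub, map_smul, smul_eq_mul, div_mul_cancel₀ _ hc₀, sub_self]
    · rw [hy₂, ← map_smul g', ← smul_assoc, ← hfix (c - (l' c / l' c₀) • c₀)
        (by rw [map_sub, map_smul, smul_eq_mul, div_mul_cancel₀ _ hc₀, sub_self]), ← map_add, ← add_smul, sub_add_cancel]
  · rintro ⟨c, t, h, rfl⟩
    refine ⟨c + t • c₀, ?_⟩
    rw [add_smul, map_add, hfix c (hker.ge h), smul_assoc, map_smul]

end Cfsg.Agent.ClassicalMax.ExtField
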