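import Cfsg.Agent.ClassicalMax.ExtField.Sympl

/-!
A subgroup of the symplectic group strictly above the normaliser of an extension field of prime degree over which
the form is a trace of an alternating form contains every symplectic transvection.
-/

set_option autoImplicit false
set_option linter.unusedSectionVars false
set_option linter.style.haveILetI false

namespace Cfsg.Agent.ClassicalMax.ExtField

open Module Cfsg.Agent.Classical

variable {F K V : Type*} [Field F] [Field K] [Algebra F K] [AddCommGroup V] [Module F V] [Module K V]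
  [IsScalarTower F K V] [Finite K] [FiniteDimensional F V]

theorem sum_symm {α M : Type*} [AddCommMonoid M] [DecidableEq α] (P : M → Prop) (h0 : P 0)
    (hadd : ∀ x y, P x → P y → P (x + y)) (G : α → α → M) (hd : ∀ a, P (G a a)) (hs : ∀ a b, P (G a b + G b a))
    (s : Finset α) : P (∑ i ∈ s, ∑ j ∈ s, G i j) := by
  induction s using Finset.induction with
  | empty => simpa using h0
  | insert a s ha ih =>
    have h1 : P (∑ j ∈ s, (G a j + G j a)) := Finset.sum_induction _ P hadd h0 fun j _ => hs a j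
    have e : ∑ i ∈ insert a s, ∑ j ∈ insert a s, G i j = G a a + ∑ j ∈ s, (G a j + G j a) + ∑ i ∈ s, ∑ j ∈ s, G i j := by
      simp only [Finset.sum_insert ha, Finset.sum_add_distrib]
      abel
    rw [e]
    exact hadd _ _ (hadd _ _ (hd a) h1) ih

variable {B : LinearMap.BilinForm F V} {X : Subgroup (V ≃ₗ[F] V)}

/-- two elements, odd prime degree -/
theorem exists_sp_tvec_odd (hO : SpOver B X K) {v y : V} {l : K →ₗ[F] F} {b : V →ₗ[K] V →ₗ[K] K} (hb : KForm B l b)
    {M : Module.End F V} (hT : Trans X v y (b v) l M) (h2 : ∀ t : F, t = 0 ∨ t = 1) (hr : 3 ≤ finrank F K) :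
    ∃ (f : Dual F V) (w : V), f ≠ 0 ∧ w ≠ 0 ∧ f w = 0 ∧ tvec f w ∈ X := by
  haveI := hO.finK
  have hvy : b v y = 1 := hT.map_b
  have hyv : b y v = -1 := by rw [hb.swap v y, hvy]
  have hop : ∀ c : K, InX X (1 + op (b v) (LinearMap.mulLeft F c) v) := fun c => hb.op_mem hO v c
  have hF2 : (1 : F) + 1 = 0 := by
    rcases h2 (1 + 1) with h | h
    · exact h
    · exact absurd (add_eq_left.1 h) one_ne_zero
  obtain ⟨a, ha⟩ := hT.ex
  let ten : K → K → (K →ₗ[F] K) := fun p q => (l.comp (LinearMap.mulLeft F q)).smulRight p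
  have hten : ∀ p q c, ten p q c = l (q * c) • p := fun _ _ _ => rfl
  let P : (K →ₗ[F] K) → Prop := fun h => InX X (1 + op (b v) h v)
  have hadd : ∀ h h', P h → P h' → P (h + h') := fun h h' i i' => by
    show InX X _
    convert i.mul i' using 1
    rw [mul_add, mul_one, add_mul, one_mul, op_mul_op hT.map_v, add_zero, op_add, add_assoc]
  have h0 : P 0 := by
    show InX X _
    rw [show op (b v) (0 : K →ₗ[F] K) v = 0 from LinearMap.ext fun x => by simp, add_zero]
    exact InX.one X
  -- invariance under the torus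
  have hsq : ∀ c : K, c ≠ 0 → ∀ h, P h → P (LinearMap.mulLeft F c ∘ₗ h ∘ₗ LinearMap.mulLeft F c) := by
    intro c hc h hh
    let N : K → (V →ₗ[K] V) := fun c => LinearMap.id + (LinearMap.toSpanSingleton K V v).comp ((c - 1) • b.flip y) +
      (LinearMap.toSpanSingleton K V y).comp ((c⁻¹ - 1) • b v)
    have hN : ∀ c x, N c x = x + ((c - 1) * b x y) • v + ((c⁻¹ - 1) * b v x) • y := fun c x => rfl
    have hφ : ∀ c x, b v (N c x) = c⁻¹ * b v x := fun c x => by
      rw [hN, map_add, map_add, map_smul, map_smul, hb.alt, hvy, smul_zero, add_zero, smul_eq_mul]; ring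
    have hχ : ∀ c x, b (N c x) y = c * b x y := fun c x => by
      rw [hN, map_add, map_add, map_smul, map_smul, LinearMap.add_apply, LinearMap.add_apply, LinearMap.smul_apply,
        LinearMap.smul_apply, hb.alt, hvy, smul_zero, add_zero, smul_eq_mul]; ring
    have hinv : ∀ c : K, c ≠ 0 → (N c).comp (N c⁻¹) = LinearMap.id := fun c hc => LinearMap.ext fun x => by
      rw [LinearMap.comp_apply, LinearMap.id_apply, hN c, hφ, hχ, inv_inv, hN c⁻¹, inv_inv]
      have e1 : (c - 1) * (c⁻¹ * b x y) = -((c⁻¹ - 1) * b x y) := by field_simp; ring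
      have e2 : (c⁻¹ - 1) * (c * b v x) = -((c - 1) * b v x) := by field_simp; ring
      rw [e1, e2, neg_smul, neg_smul]
      abel
    let D : V ≃ₗ[K] V := LinearEquiv.ofLinearMap (N c) (N c⁻¹) (hinv c hc)
      (by conv_lhs => arg 2; rw [← inv_inv c]
          exact hinv c⁻¹ (inv_ne_zero hc))
    obtain ⟨g, hg, eg⟩ := hO.le D (hb.iso_of_preserves D fun x z => by
      show b (N c x) (N c z) = b x z
      simp only [hN, map_add, map_smul, LinearMap.add_apply, LinearMap.smul_apply, hb.alt, hvy, hyv, hb.swap z y, hb.swap v x,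
        smul_eq_mul]
      field_simp
      ring)
    obtain ⟨T, hTX, eT⟩ := hh
    refine ⟨g * T * g⁻¹, mul_mem (mul_mem hg hTX) (inv_mem hg), LinearMap.ext fun x => ?_⟩
    have egx : ∀ x, g x = N c x := fun x => LinearMap.congr_fun eg x
    have egi : g⁻¹ x = N c⁻¹ x := g.injective (by
      rw [apply_inv, egx]
      exact (LinearMap.congr_fun (hinv c hc) x).symm)
    show g (T (g⁻¹ x)) = x + (c * h (c * b v x)) • v
    rw [show T (g⁻¹ x) = g⁻¹ x + h (b v (g⁻¹ x)) • v from LinearMap.congr_fun eT (g⁻¹ x), map_add, apply_inv, egi, hφ, inv_inv,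
      egx, map_smul, show N c v = c • v by rw [hN, hb.alt, hvy]; simp [sub_smul], smul_smul, mul_comm]
  -- all symmetrised products
  have hsym : ∀ p q : K, P (ten p q + ten q p) := by
    intro p q
    let k : K →ₗ[F] F × F := (l.comp (LinearMap.mulLeft F p)).prod (l.comp (LinearMap.mulLeft F q))
    obtain ⟨u, hu, hu0⟩ : ∃ u ∈ LinearMap.ker k, u ≠ 0 := by
      refine Submodule.exists_mem_ne_zero_of_ne_bot fun h => ?_
      have := LinearMap.finrank_le_finrank_of_injective (LinearMap.ker_eq_bot.1 h)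
      rw [finrank_prod, finrank_self] at this
      omega
    obtain ⟨hu1, hu2⟩ := Prod.mk.injEq .. ▸ (LinearMap.mem_ker.1 hu : (l (p * u), l (q * u)) = (0, 0))
    convert hsq u⁻¹ (inv_ne_zero hu0) _ (hT.sym_mem hop h2 hu1 hu2) using 1
    refine LinearMap.ext fun c => ?_
    simp only [LinearMap.add_apply, LinearMap.comp_apply, LinearMap.mulLeft_apply, hten, LinearMap.smulRight_apply, mul_add,
      mul_smul_comm]
    rw [show q * u * (u⁻¹ * c) = q * c by field_simp, show p * u * (u⁻¹ * c) = p * c by field_simp,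
      show u⁻¹ * (p * u) = p by field_simp, show u⁻¹ * (q * u) = q by field_simp]
  -- coordinates with respect to the form on the field
  let β : LinearMap.BilinForm F K := (LinearMap.mul F K).compr₂ l
  have hβ : ∀ x y, β x y = l (x * y) := fun _ _ => rfl
  have hnd : β.Nondegenerate := by
    refine (LinearMap.BilinForm.nondegenerate_iff_ker_eq_bot (B := β)).2 ?_
    refine LinearMap.ker_eq_bot'.2 fun x hx => ?_
    by_contra h0
    have := LinearMap.congr_fun hx (x⁻¹ * a)
    rw [hβ, ← mul_assoc, mul_inv_cancel₀ h0, one_mul, ha] at this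
    exact one_ne_zero this
  let e := Module.finBasis F K
  let e' := β.dualBasis hnd e
  have hrepr : ∀ x, x = ∑ i, l (e i * x) • e' i := fun x => by
    conv_lhs => rw [← e'.sum_repr x]
    refine Finset.sum_congr rfl fun i _ => ?_
    rw [LinearMap.BilinForm.dualBasis_repr_apply, hβ, mul_comm x]
  have hrepr' : ∀ x, x = ∑ j, l (e' j * x) • e j := fun x => by
    have hc : ∀ j, e.repr x j = l (e' j * x) := fun j => by
      conv_rhs => rw [← e.sum_repr x]
      rw [Finset.mul_sum, map_sum, Finset.sum_eq_single j]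
      · rw [mul_smul_comm, map_smul, ← hβ, LinearMap.BilinForm.apply_dualBasis_left, if_pos rfl, smul_eq_mul, mul_one]
      · intro i _ hi
        rw [mul_smul_comm, map_smul, ← hβ, LinearMap.BilinForm.apply_dualBasis_left, if_neg hi, smul_zero]
      · intro h; exact absurd (Finset.mem_univ j) h
    conv_lhs => rw [← e.sum_repr x]
    exact Finset.sum_congr rfl fun j _ => by rw [hc]
  -- the vector matching the diagonal of the identity
  let δ : K →ₗ[F] F :=
    { toFun := fun x => l (x * x)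
      map_add' := fun x z => by
        show l ((x + z) * (x + z)) = l (x * x) + l (z * z)
        rw [add_mul, mul_add, mul_add, map_add, map_add, map_add, mul_comm z x, add_add_add_comm,
          add_comm (l (x * z)) (l (z * z))]
        linear_combination l (x * z) * hF2
      map_smul' := fun t x => by
        rcases h2 t with rfl | rfl <;> simp }
  obtain ⟨w, hw⟩ := mul_rep (show l ≠ 0 from fun h => by simp [h] at ha) δ
  have hw' : ∀ x, l (w * x) = l (x * x) := fun x => (mul_comm w x ▸ hw x : _)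
  have hw0 : w ≠ 0 := by
    rintro rfl
    obtain ⟨z, hz⟩ : ∃ z, z * z = a := by
      haveI := Fintype.ofFinite K
      obtain ⟨z, hz⟩ := FiniteField.isSquare_of_char_two (F := K) (CharP.ringChar_of_prime_eq_zero Nat.prime_two (by
        rw [Nat.cast_ofNat, ← one_add_one_eq_two, ← map_one (algebraMap F K), ← map_add, hF2, map_zero])) a
      exact ⟨z, hz.symm⟩
    have := hw' z
    rw [zero_mul, map_zero, hz, ha] at this
    exact zero_ne_one this
  let h : K →ₗ[F] K := LinearMap.id + ten w w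
  have hh : P h := by
    let G : Fin (finrank F K) → Fin (finrank F K) → (K →ₗ[F] K) := fun i j => l (e i * h (e j)) • ten (e' i) (e' j)
    have hsum : h = ∑ i, ∑ j, G i j := LinearMap.ext fun c => by
      conv_lhs => rw [hrepr' c, map_sum, Finset.sum_congr rfl fun j _ => by rw [map_smul, hrepr (h (e j))]]
      simp only [Finset.smul_sum, LinearMap.sum_apply]
      rw [Finset.sum_comm]
      refine Finset.sum_congr rfl fun i _ => Finset.sum_congr rfl fun j _ => ?_
      simp only [G, LinearMap.smul_apply, hten, smul_smul, mul_comm]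
    have hsm : ∀ i j, l (e i * h (e j)) = l (e j * h (e i)) := fun i j => by
      simp only [h, LinearMap.add_apply, LinearMap.id_apply, hten, mul_add, map_add, mul_smul_comm, map_smul, smul_eq_mul]
      rw [mul_comm (e i) (e j), mul_comm (e i) w, mul_comm (e j) w]
      ring
    rw [hsum]
    refine sum_symm P h0 hadd G (fun i => ?_) (fun i j => ?_) Finset.univ
    · have : l (e i * h (e i)) = 0 := by
        simp only [h, LinearMap.add_apply, LinearMap.id_apply, hten, mul_add, map_add, mul_smul_comm, map_smul, smul_eq_mul]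
        rw [mul_comm (e i) w, hw']
        rcases h2 (l (e i * e i)) with h | h <;> rw [h]
        · ring
        · linear_combination hF2
      simp only [G, this, zero_smul]
      exact h0
    · show P (l (e i * h (e j)) • ten (e' i) (e' j) + l (e j * h (e i)) • ten (e' j) (e' i))
      rw [hsm j i, ← smul_add]
      rcases h2 (l (e i * h (e j))) with h | h <;> rw [h]
      · rw [zero_smul]; exact h0
      · rw [one_smul]; exact hsym _ _
  have hid : P LinearMap.id := by
    show InX X _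
    convert hop (1 : K) using 3
    exact LinearMap.ext fun c => (one_mul c).symm
  have hres := hadd _ _ hid hh
  have hnegK : ∀ E : K →ₗ[F] K, E + E = 0 := fun E => by rw [← one_smul F E, ← add_smul, hF2, zero_smul]
  rw [show LinearMap.id + h = ten w w by rw [← add_assoc, hnegK, zero_add]] at hres
  let f : Dual F V := (l.comp (LinearMap.mulLeft F w)).comp ((b v).restrictScalars F)
  have hf : f (w • v) = 0 := by simp [f, hT.map_v]
  refine ⟨f, w • v, fun h => ?_, smul_ne_zero hw0 hT.ne, hf, tvec_mem hf ?_⟩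
  · have := LinearMap.congr_fun h ((w⁻¹ * a) • y)
    simp [f, hvy, hw0, ha] at this
  · rwa [← op_smulRight]

/-- two elements, quadratic extension, room for two more vectors -/
theorem exists_sp_tvec_two (hO : SpOver B X K) {g : V ≃ₗ[F] V} {v y : V} {l : K →ₗ[F] F} {b : V →ₗ[K] V →ₗ[K] K}
    (hb : KForm B l b) (hc : Core X g v y (b v) l) (h2 : ∀ t : F, t = 0 ∨ t = 1) (hr : finrank F K = 2)
    (hm : 3 ≤ finrank K V) : ∃ (f : Dual F V) (w : V), f ≠ 0 ∧ w ≠ 0 ∧ f w = 0 ∧ tvec f w ∈ X := by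
  haveI := hO.finK
  haveI := hO.finV
  have hvy : b v y = 1 := hc.map_b
  have hyv : b y v = -1 := by rw [hb.swap v y, hvy]
  have hF2 : (1 : F) + 1 = 0 := by
    rcases h2 (1 + 1) with h | h
    · exact h
    · exact absurd (add_eq_left.1 h) one_ne_zero
  obtain ⟨j₀, hj₀⟩ := (hc.image v).2 ⟨1, 0, hc.one, by rw [one_smul, zero_smul, add_zero]⟩
  obtain ⟨j₁, hj₁⟩ := (hc.image y).2 ⟨0, 1, map_zero l, by rw [zero_smul, one_smul, zero_add]⟩
  have hker : ∀ c : K, l c = 0 → ∃ t : F, c = algebraMap F K t := by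
    intro c hc'
    have hle : F ∙ (1 : K) ≤ LinearMap.ker l := (Submodule.span_singleton_le_iff_mem _ _).2 hc.one
    have h1 := Submodule.finrank_lt (s := LinearMap.ker l) (fun h => hc.lne (LinearMap.ker_eq_top.1 h))
    have he : F ∙ (1 : K) = LinearMap.ker l :=
      Submodule.eq_of_le_of_finrank_le hle (by rw [finrank_span_singleton one_ne_zero]; omega)
    obtain ⟨t, ht⟩ := Submodule.mem_span_singleton.1 (he.ge hc')
    exact ⟨t, by rw [← ht, Algebra.smul_def, mul_one]⟩
  obtain ⟨θ, hθ⟩ : ∃ θ, l θ = 1 := by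
    obtain ⟨c, hc'⟩ : ∃ c, l c ≠ 0 := by by_contra! h; exact hc.lne (LinearMap.ext h)
    exact ⟨(l c)⁻¹ • c, by rw [map_smul, smul_eq_mul, inv_mul_cancel₀ hc']⟩
  -- the basis of the field adapted to the preimages
  let T : (Fin 2 → F) →ₗ[F] K := Fintype.linearCombination F ![j₀, j₁]
  have hTinj : Function.Injective T := (injective_iff_map_eq_zero T).2 fun u hu => by
    have h1 := congrArg (fun c : K => g (c • v)) hu
    simp only [T, Fintype.linearCombination_apply, Fin.sum_univ_two, Matrix.cons_val_zero, Matrix.cons_val_one, add_smul,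
      smul_assoc, map_add, map_smul, hj₀, hj₁, zero_smul, map_zero] at h1
    have h3 := congrArg (b v) h1
    rw [map_add, ← algebraMap_smul K (u 0) v, ← algebraMap_smul K (u 1) y, map_smul, map_smul, hb.alt, hvy, smul_zero, zero_add,
      smul_eq_mul, mul_one, map_zero] at h3
    have hu1 : u 1 = 0 := (algebraMap F K).injective (by rw [h3, map_zero])
    rw [hu1, zero_smul, add_zero, smul_eq_zero] at h1
    funext i
    fin_cases i
    · exact h1.resolve_right hc.ne
    · exact hu1
  have hTbij : Function.Bijective T := ⟨hTinj,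
    (LinearMap.injective_iff_surjective_of_finrank_eq_finrank (by rw [finrank_fin_fun, hr])).1 hTinj⟩
  let C := (LinearEquiv.ofBijective T hTbij).symm
  have hCT : ∀ x, (C x 0) • j₀ + (C x 1) • j₁ = x := fun x => by
    have h1 : T (C x) = x := (LinearEquiv.ofBijective T hTbij).apply_symm_apply x
    conv_rhs => rw [← h1]
    simp [T, Fintype.linearCombination_apply, Fin.sum_univ_two]
  obtain ⟨q₀, hq₀⟩ := mul_rep hc.lne ((LinearMap.proj 0).comp C.toLinearMap)
  obtain ⟨q₁, hq₁⟩ := mul_rep hc.lne ((LinearMap.proj 1).comp C.toLinearMap)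
  have hq₀' : ∀ x, l (x * q₀) = C x 0 := hq₀
  have hq₁' : ∀ x, l (x * q₁) = C x 1 := hq₁
  have hdec : ∀ x, l (x * q₀) • j₀ + l (x * q₁) • j₁ = x := fun x => by rw [hq₀', hq₁', hCT]
  have hCj₀ : C j₀ 0 = 1 ∧ C j₀ 1 = 0 := by
    have : C j₀ = ![1, 0] := hTinj (by
      show T (C j₀) = _
      rw [show T (C j₀) = j₀ from (LinearEquiv.ofBijective T hTbij).apply_symm_apply j₀]
      simp [T, Fintype.linearCombination_apply, Fin.sum_univ_two])
    simp [this]
  have hCj₁ : C j₁ 0 = 0 ∧ C j₁ 1 = 1 := by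
    have : C j₁ = ![0, 1] := hTinj (by
      show T (C j₁) = _
      rw [show T (C j₁) = j₁ from (LinearEquiv.ofBijective T hTbij).apply_symm_apply j₁]
      simp [T, Fintype.linearCombination_apply, Fin.sum_univ_two])
    simp [this]
  -- the coordinate over the field of a pulled back vector
  have hpull : ∀ x, b v (g⁻¹ x) = B v x • q₀ + B y x • q₁ := fun x => by
    refine mul_sep hc.lne fun c => ?_
    rw [hb.spec, mul_add, mul_smul_comm, mul_smul_comm, map_add, l.map_smul, l.map_smul, hq₀', hq₁', smul_eq_mul, smul_eq_mul]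
    have h1 : B (c • v) (g⁻¹ x) = B (g (c • v)) x := by
      rw [← hO.iso hc.mem (c • v) (g⁻¹ x), apply_inv]
    rw [h1]
    conv_lhs => rw [← hCT c]
    rw [add_smul, smul_assoc, smul_assoc, map_add, g.map_smul, g.map_smul, hj₀, hj₁]
    simp only [map_add, map_smul, LinearMap.add_apply, LinearMap.smul_apply, smul_eq_mul]
    ring
  have hq10 : q₁ ≠ 0 := fun h => by
    have := hCj₁.2
    rw [← hq₁', h, mul_zero, map_zero] at this
    exact zero_ne_one this
  set k := (q₁ * q₁)⁻¹ with hk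
  have hk1 : l (k * q₁ * q₁) = 0 := by
    rw [mul_assoc, hk, inv_mul_cancel₀ (mul_ne_zero hq10 hq10), hc.one]
  have hk01 : l (k * q₀ * q₁) = 1 := by
    rcases h2 (l (k * q₀ * q₁)) with h | h
    · exfalso
      have e : k * q₀ * q₁ = q₀ / q₁ := by rw [hk]; field_simp
      obtain ⟨t, ht⟩ := hker _ (e ▸ h)
      have hq : q₀ = t • q₁ := by rw [Algebra.smul_def, ← ht]; field_simp
      have h1 := hCj₀.1
      rw [← hq₀', hq, mul_smul_comm, map_smul, hq₁', hCj₀.2, smul_zero] at h1
      exact zero_ne_one h1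
    · exact h
  set ε := l (k * q₀ * q₀) with hε
  let S : F → V → Module.End F V := fun s p => (s • B v + B p).smulRight v + (B v).smulRight p
  have hS : ∀ s p x, S s p x = (s * B v x + B p x) • v + B v x • p := fun s p x => rfl
  have hM : InX X (1 + S ε y) := by
    obtain ⟨T', hT', eT'⟩ := hb.op_mem hO v k
    refine ⟨g * T' * g⁻¹, mul_mem (mul_mem hc.mem hT') (inv_mem hc.mem), LinearMap.ext fun x => ?_⟩
    show g (T' (g⁻¹ x)) = x + S ε y x
    rw [show T' (g⁻¹ x) = g⁻¹ x + (k * b v (g⁻¹ x)) • v from LinearMap.congr_fun eT' (g⁻¹ x), map_add, apply_inv, hpull]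
    congr 1
    conv_lhs => rw [← hdec (k * (B v x • q₀ + B y x • q₁))]
    simp only [mul_add, add_mul, mul_smul_comm, smul_mul_assoc, map_add, map_smul, smul_eq_mul]
    rw [show k * q₁ * q₀ = k * q₀ * q₁ by ring, hk01, hk1, ← hε, add_smul, smul_assoc, smul_assoc, map_add, g.map_smul, g.map_smul,
      hj₀, hj₁, hS]
    ring_nf
  -- two more vectors
  obtain ⟨x₁, hx₁⟩ : ∃ x, x ∉ Submodule.span K (Set.range ![v, y]) := by
    by_contra hc'
    push Not at hc'
    have := finrank_range_le_card (R := K) ![v, y]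
    rw [Set.finrank, show Submodule.span K (Set.range ![v, y]) = ⊤ from eq_top_iff.2 fun z _ => hc' z, finrank_top, Fintype.card_fin] at this
    omega
  let proj : V → V := fun x => x - b x y • v + b x v • y
  have hpv : ∀ x, b (proj x) v = 0 := fun x => by
    simp only [proj, map_add, map_sub, map_smul, LinearMap.add_apply, LinearMap.sub_apply, LinearMap.smul_apply, hb.alt, hyv, smul_eq_mul]
    ring
  have hpy : ∀ x, b (proj x) y = 0 := fun x => by
    simp only [proj, map_add, map_sub, map_smul, LinearMap.add_apply, LinearMap.sub_apply, LinearMap.smul_apply, hb.alt, hvy, smul_eq_mul]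
    ring
  have hp0 : proj x₁ ≠ 0 := fun h => hx₁ (by
    have : x₁ = b x₁ y • v - b x₁ v • y := by rw [← sub_eq_zero, ← h]; simp only [proj]; abel
    rw [this]
    exact sub_mem (Submodule.smul_mem _ _ (Submodule.subset_span ⟨0, rfl⟩)) (Submodule.smul_mem _ _ (Submodule.subset_span ⟨1, rfl⟩)))
  obtain ⟨x₂, hx₂⟩ := hb.exists_val hO hp0 θ
  have hz12 : b (proj x₁) (proj x₂) = θ := by
    show b (proj x₁) (x₂ - b x₂ y • v + b x₂ v • y) = θ
    rw [map_add, map_sub, map_smul, map_smul, hpv, hpy, smul_zero, smul_zero, sub_zero, add_zero, hx₂]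
  have hl1θ : l (1 + θ) = 1 := by rw [map_add, hc.one, hθ, zero_add]
  set w₁ := proj x₁ + v with hw₁
  set w₂ := proj x₂ + θ • v with hw₂
  have hvw₁ : b v w₁ = 0 := by rw [hw₁, map_add, hb.alt, add_zero, hb.swap (proj x₁) v, hpv, neg_zero]
  have hvw₂ : b v w₂ = 0 := by rw [hw₂, map_add, map_smul, hb.alt, smul_zero, add_zero, hb.swap (proj x₂) v, hpv, neg_zero]
  have hyw₁ : b y w₁ = -1 := by rw [hw₁, map_add, hyv, hb.swap (proj x₁) y, hpy, neg_zero, zero_add]
  have hyw₂ : b y w₂ = -θ := by rw [hw₂, map_add, map_smul, hyv, hb.swap (proj x₂) y, hpy, neg_zero, zero_add, smul_eq_mul, mul_neg_one]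
  have hw12 : B w₁ w₂ = 1 := by
    rw [← hb.spec1, hw₁, hw₂]
    simp only [map_add, map_smul, LinearMap.add_apply, hz12, hb.alt, hpv, hb.swap (proj x₂) v, smul_eq_mul, mul_zero, neg_zero,
      add_zero, zero_add, hθ]
  have hBvy : B v y = 0 := by rw [← hb.spec1, hvy, hc.one]
  have hBw : ∀ w, b v w = 0 → B v w = 0 := fun w h => by rw [← hb.spec1, h, map_zero]
  -- conjugates
  have hconj : ∀ w, b v w = 0 → b y w ≠ 0 → InX X (1 + S ε (y + w)) := by
    intro w hwv hwy
    obtain ⟨T', hT', eT'⟩ := hb.op_mem hO w (-(b y w)⁻¹)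
    have hT'x : ∀ x, T' x = x + (-(b y w)⁻¹ * b w x) • w := fun x => LinearMap.congr_fun eT' x
    have hT'y : T' y = y + w := by rw [hT'x, hb.swap y w, neg_mul_neg, inv_mul_cancel₀ hwy, one_smul]
    have hT'v : T' v = v := by rw [hT'x, hb.swap v w, hwv, neg_zero, mul_zero, zero_smul, add_zero]
    obtain ⟨R, hR, eR⟩ := hM
    refine ⟨T' * R * T'⁻¹, mul_mem (mul_mem hT' hR) (inv_mem hT'), LinearMap.ext fun x => ?_⟩
    have hiso := hO.iso hT'
    have e1 : B v (T'⁻¹ x) = B v x := by rw [← hiso v (T'⁻¹ x), hT'v, apply_inv]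
    have e2 : B y (T'⁻¹ x) = B (y + w) x := by rw [← hiso y (T'⁻¹ x), hT'y, apply_inv]
    show T' (R (T'⁻¹ x)) = x + S ε (y + w) x
    rw [show R (T'⁻¹ x) = T'⁻¹ x + S ε y (T'⁻¹ x) from LinearMap.congr_fun eR _, map_add, apply_inv, hS, hS, map_add, map_smul,
      map_smul, hT'v, hT'y, e1, e2]
  have hmulS : ∀ s s' p q, B v p = 0 → B v q = 0 → (1 + S s p) * (1 + S s' q) = 1 + S (s + s' + B p q) (p + q) := by
    intro s s' p q hp hq
    refine LinearMap.ext fun x => ?_
    have hpv' : B p v = 0 := by rw [Alt.neg' hO.alt v p, hp, neg_zero]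
    simp only [Module.End.mul_apply, LinearMap.add_apply, Module.End.one_apply, map_add, hS, map_smul, hq, hO.alt v, hpv',
      mul_zero, zero_mul, smul_eq_mul, add_zero, zero_add, zero_smul]
    module
  have hB₁ : B v w₁ = 0 := hBw _ hvw₁
  have hB₂ : B v w₂ = 0 := hBw _ hvw₂
  have i₁ := hconj w₁ hvw₁ (by rw [hyw₁]; exact neg_ne_zero.2 one_ne_zero)
  have i₂ := hconj w₂ hvw₂ (by rw [hyw₂]; exact neg_ne_zero.2 fun h => by rw [h, map_zero] at hθ; exact zero_ne_one hθ)
  have i₃ := hconj (w₁ + w₂) (by rw [map_add, hvw₁, hvw₂, add_zero]) (by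
    rw [map_add, hyw₁, hyw₂, ← neg_add]
    exact neg_ne_zero.2 fun h => by rw [h, map_zero] at hl1θ; exact zero_ne_one hl1θ)
  have hres := ((hM.mul i₁).mul i₂).mul i₃
  have hVK : ∀ x : V, x + x = 0 := fun x => by rw [← one_smul F x, ← add_smul, hF2, zero_smul]
  have hFF : ∀ x : F, x + x = 0 := fun x => by rw [← mul_one x, ← mul_add, hF2, mul_zero]
  rw [hmulS _ _ _ _ hBvy (by simp [hBvy, hB₁]), hmulS _ _ _ _ (by simp [hBvy, hB₁]) (by simp [hBvy, hB₂]),
    hmulS _ _ _ _ (by simp [hBvy, hB₁, hB₂]) (by simp [hBvy, hB₁, hB₂])] at hres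
  have hp : y + (y + w₁) + (y + w₂) + (y + (w₁ + w₂)) = 0 := by
    have : y + (y + w₁) + (y + w₂) + (y + (w₁ + w₂)) = (y + y) + (y + y) + (w₁ + w₁) + (w₂ + w₂) := by abel
    rw [this]; simp [hVK]
  have hs : ε + ε + B y (y + w₁) + ε + B (y + (y + w₁)) (y + w₂) + ε + B (y + (y + w₁) + (y + w₂)) (y + (w₁ + w₂)) = 1 := by
    simp only [map_add, LinearMap.add_apply, hO.alt y, hO.alt w₁, hO.alt w₂, Alt.neg' hO.alt y w₁, Alt.neg' hO.alt y w₂,
      Alt.neg' hO.alt w₁ w₂, hw12]
    linear_combination 2 * hFF ε + hFF (B y w₂) + (B y w₁ + B y w₂) * hF2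
  rw [hp, hs] at hres
  refine ⟨B v, v, fun h => ?_, hc.ne, hO.alt v, tvec_mem (hO.alt v) ?_⟩
  · have := LinearMap.congr_fun h (θ • y)
    rw [← hb.spec1, map_smul, hvy, smul_eq_mul, mul_one, hθ] at this
    exact one_ne_zero this
  · convert hres using 2
    refine LinearMap.ext fun x => ?_
    rw [hS]
    simp

/-- a configuration gives a transvection -/
theorem exists_sp_tvec (hO : SpOver B X K) (hm : 2 ≤ finrank K V) (hsize : 3 ≤ finrank F K ∨ 3 ≤ finrank K V)
    (hsl : ∃ g ∈ X, ∃ (k : K) (x : V), g (k • x) ∉ K ∙ g x) :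
    ∃ (f : Dual F V) (w : V), f ≠ 0 ∧ w ≠ 0 ∧ f w = 0 ∧ tvec f w ∈ X := by
  haveI := hO.finK
  haveI := hO.finV
  obtain ⟨g, v, y, l, b, hb, hvy, hc⟩ := exists_sp_core hO hm hsl
  obtain ⟨a, ha⟩ : ∃ a, l a = 1 := by
    obtain ⟨c, hc'⟩ : ∃ c, l c ≠ 0 := by by_contra! h; exact hc.lne (LinearMap.ext h)
    exact ⟨(l c)⁻¹ • c, by rw [map_smul, smul_eq_mul, inv_mul_cancel₀ hc']⟩
  obtain ⟨j, hj⟩ := (hc.image y).2 ⟨0, 1, map_zero l, by rw [zero_smul, one_smul, zero_add]⟩
  set γ := b v (g⁻¹ (a • v)) with hγd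
  have hγ : γ ≠ 0 := fun h => by
    have := hb.spec j v (g⁻¹ (a • v))
    rw [← hγd, h, mul_zero, map_zero, ← hO.iso hc.mem (j • v) (g⁻¹ (a • v)), apply_inv, hj, Alt.neg' hO.alt (a • v) y,
      ← hb.spec, hvy, mul_one, ha] at this
    exact neg_ne_zero.2 one_ne_zero this.symm
  obtain ⟨M, hT⟩ := hc.exists_trans_of ha (ψ := γ⁻¹ • b v) (by simp [hb.alt])
    (by rw [LinearMap.smul_apply, ← hγd, smul_eq_mul, inv_mul_cancel₀ hγ])
    (fun c => by
      convert hb.op_mem hO v (c * γ⁻¹) using 2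
      exact LinearMap.ext fun x => by simp [mul_assoc])
  by_cases hbig : ∃ t : F, t * t ≠ t
  · obtain ⟨t, ht⟩ := hbig
    exact exists_tvec_big hT (fun c => hb.op_mem hO v c) ht
  push Not at hbig
  have h2 : ∀ t : F, t = 0 ∨ t = 1 := fun t => by
    rcases eq_or_ne t 0 with h | h
    · exact Or.inl h
    · exact Or.inr (mul_left_cancel₀ h (by rw [hbig, mul_one]))
  have := hO.prime.two_le
  by_cases hr : 3 ≤ finrank F K
  · exact exists_sp_tvec_odd hO hb hT h2 hr
  · exact exists_sp_tvec_two hO hb hc h2 (by omega) (hsize.resolve_left hr)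

/-- every vector is a centre -/
theorem all_centres (hO : SpOver B X K) (hm : 2 ≤ finrank K V) (hsize : 3 ≤ finrank F K ∨ 3 ≤ finrank K V)
    (hsl : ∃ g ∈ X, ∃ (k : K) (x : V), g (k • x) ∉ K ∙ g x) : ∀ v, v ∈ centres hO.alt X := by
  haveI := hO.finK
  haveI := hO.finV
  haveI : Finite F := Finite.of_injective _ (algebraMap F K).injective
  obtain ⟨f, w, hf, hw, hfw, hmem⟩ := exists_sp_tvec hO hm hsize hsl
  have hBf : ∀ x z, f x * B w z + f z * B x w = 0 := fun x z => by
    have := hO.iso hmem x z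
    rw [tvec_apply hfw, tvec_apply hfw] at this
    simp only [map_add, map_smul, LinearMap.add_apply, LinearMap.smul_apply, smul_eq_mul, hO.alt w] at this
    linear_combination this
  obtain ⟨z, hz⟩ : ∃ z, B w z ≠ 0 := by by_contra! h; exact hw (hO.nd.1 w h)
  set c₀ := f z / B w z with hc₀
  have hfc : ∀ x, f x = c₀ * B w x := fun x => by
    rw [hc₀, div_mul_eq_mul_div, eq_div_iff hz]
    linear_combination hBf x z - f z * Alt.neg' hO.alt w x
  have hc0 : c₀ ≠ 0 := fun h => hf (LinearMap.ext fun x => by rw [hfc, h, zero_mul]; rfl)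
  have htv : tvec f w = Alt.tv hO.alt w (-c₀) := LinearEquiv.ext fun x => by
    rw [tvec_apply hfw, Alt.tv_apply, hfc, Alt.neg' hO.alt w x, neg_mul_neg]
  rw [htv] at hmem
  obtain ⟨l₀, hl₀⟩ : ∃ l : K →ₗ[F] F, l ≠ 0 := by
    obtain ⟨φ, hφ, -⟩ := exists_dual_one (F := F) (⊥ : Submodule F K) (x := (1 : K)) (by rw [Submodule.mem_bot]; exact one_ne_zero)
    exact ⟨φ, fun h => by simp [h] at hφ⟩
  obtain ⟨b₀, hb⟩ := hO.exists_form hl₀
  intro v
  rcases eq_or_ne v 0 with rfl | hv
  · exact zero_mem_centres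
  obtain ⟨D, hD, hDw, hDs⟩ := hb.trans hO hw hv
  have hv1 : Alt.tv hO.alt v (-c₀) ∈ X := by
    rw [← hDw, ← Alt.conj_tv hO.alt (hO.iso hD)]
    exact mul_mem (mul_mem hD hmem) (inv_mem hD)
  have hsq : ∀ t : F, Alt.tv hO.alt v (t ^ 2 * -c₀) ∈ X := fun t => by
    rcases eq_or_ne t 0 with rfl | ht
    · have : Alt.tv hO.alt v ((0 : F) ^ 2 * -c₀) = 1 := LinearEquiv.ext fun x => by simp [Alt.tv_apply]
      rw [this]; exact one_mem X
    obtain ⟨E, hE, hEv, -⟩ := hb.trans hO hv (smul_ne_zero ht hv)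
    rw [← Alt.tv_smul, ← hEv, ← Alt.conj_tv hO.alt (hO.iso hE)]
    exact mul_mem (mul_mem hE hv1) (inv_mem hE)
  intro c
  haveI := Fintype.ofFinite F
  obtain ⟨p, q, hpq⟩ : ∃ p q : F, p ^ 2 + q ^ 2 = c / -c₀ := by
    rcases Nat.mod_two_eq_zero_or_one (Fintype.card F) with h | h
    · obtain ⟨z, hz⟩ := FiniteField.isSquare_of_char_two (F := F) (FiniteField.even_card_iff_char_two.2 h) (c / -c₀)
      exact ⟨z, 0, by rw [hz]; ring⟩
    · obtain ⟨p, q, e⟩ := FiniteField.exists_root_sum_quadratic (f := (Polynomial.X ^ 2 : Polynomial F))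
        (g := Polynomial.X ^ 2 - Polynomial.C (c / -c₀)) (Polynomial.degree_X_pow 2) (Polynomial.degree_X_pow_sub_C two_pos _) h
      simp only [Polynomial.eval_pow, Polynomial.eval_X, Polynomial.eval_sub, Polynomial.eval_C] at e
      exact ⟨p, q, by linear_combination e⟩
  have := mul_mem (hsq p) (hsq q)
  rwa [Alt.tv_add, ← add_mul, hpq, div_mul_cancel₀ _ (neg_ne_zero.2 hc0)] at this

end Cfsg.Agent.ClassicalMax.ExtField
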