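import Cfsg.Agent.Classical.HermForm
import Mathlib.FieldTheory.Finite.Basic
import Mathlib.FieldTheory.Finite.Trace

/-!
An extension of odd prime degree of a finite field with an automorphism of order two: subrings containing the
products `a * φ a`, the Frobenius powers on the fixed field, and suitable multipliers.
-/

set_option autoImplicit false
set_option linter.unusedSectionVars false
set_option linter.style.haveILetI false

namespace Cfsg.Agent.ClassicalMax.ExtField.Unit

open Module Cfsg.Agent.Classical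

section

variable {K : Type*} [Field K] {τ : K →+* K}

/-- an endomorphism fixing the fixed field is the identity or the involution -/
theorem triv_or_tau (hτ : Herm.IsInvol τ) (θ : K →+* K) (h : ∀ a, τ a = a → θ a = a) :
    (∀ a, θ a = a) ∨ ∀ a, θ a = τ a := by
  have key : ∀ x, θ x = x ∨ θ x = τ x := fun x => by
    have h1 : θ (x + τ x) = x + τ x := h _ (by rw [map_add, hτ.invol, add_comm])
    have h2 : θ (x * τ x) = x * τ x := h _ (by rw [map_mul, hτ.invol, mul_comm])
    rw [map_add] at h1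
    rw [map_mul] at h2
    have : (θ x - x) * (θ x - τ x) = 0 := by linear_combination θ x * h1 - h2
    rcases mul_eq_zero.1 this with e | e
    · exact Or.inl (sub_eq_zero.1 e)
    · exact Or.inr (sub_eq_zero.1 e)
  by_contra! hc
  obtain ⟨⟨x, hx⟩, ⟨y, hy⟩⟩ := hc
  have ex := (key x).resolve_left hx
  have ey := (key y).resolve_right hy
  rcases key (x + y) with e | e
  · exact hx (by rw [map_add, ey] at e; exact add_right_cancel e)
  · exact hy (by rw [map_add, map_add, ex] at e; exact add_left_cancel e)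

/-- two equal products of pairs of homomorphisms -/
theorem prod_pair_eq {L : Type*} [Field L] {α β γ δ : L →+* K} (h : ∀ a, α a * β a = γ a * δ a) :
    ((∀ a, γ a = α a) ∧ ∀ a, δ a = β a) ∨ ((∀ a, γ a = β a) ∧ ∀ a, δ a = α a) := by
  have hsum : ∀ a, α a + β a = γ a + δ a := fun a => by
    have h1 := h (1 + a)
    simp only [map_add, map_one] at h1
    linear_combination h1 - h a
  have key : ∀ a, γ a = α a ∨ γ a = β a := fun a => by
    have : (γ a - α a) * (γ a - β a) = 0 := by linear_combination h a - γ a * hsum a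
    rcases mul_eq_zero.1 this with e | e
    · exact Or.inl (sub_eq_zero.1 e)
    · exact Or.inr (sub_eq_zero.1 e)
  by_cases h1 : ∀ a, γ a = α a
  · exact Or.inl ⟨h1, fun a => by linear_combination h1 a * (-1 : K) - hsum a⟩
  push Not at h1
  obtain ⟨x, hx⟩ := h1
  have h2 : ∀ a, γ a = β a := fun y => by
    by_contra hy
    have ex := (key x).resolve_left hx
    have ey := (key y).resolve_right hy
    rcases key (x + y) with e | e
    · exact hx (by rw [map_add, map_add, ey] at e; exact add_right_cancel e)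
    · exact hy (by rw [map_add, map_add, ex] at e; exact add_left_cancel e)
  exact Or.inr ⟨h2, fun a => by linear_combination h2 a * (-1 : K) - hsum a⟩

variable [Finite K]

/-- a subring containing the products `a * φ a` of fixed elements and a moved element is everything -/
theorem subring_top (hτ : Herm.IsInvol τ) (φ : K →+* K) (hτφ : ∀ a, τ (φ a) = φ (τ a))
    (hφ2 : ∃ a, τ a = a ∧ φ (φ a) ≠ a) (S : Subring K) (h0 : ∀ a, τ a = a → a * φ a ∈ S) (h1 : ∃ x ∈ S, τ x ≠ x) :
    ∀ x, x ∈ S := by
  haveI := Fintype.ofFinite K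
  let S' : Subfield K :=
    { S with
      inv_mem' := fun x hx => by
        rcases eq_or_ne x 0 with rfl | h
        · rw [inv_zero]; exact S.zero_mem
        have h2 : 2 ≤ Fintype.card K := Fintype.one_lt_card
        have e : x ^ (Fintype.card K - 2) = x⁻¹ := by
          refine eq_inv_of_mul_eq_one_left ?_
          rw [← pow_succ, show Fintype.card K - 2 + 1 = Fintype.card K - 1 by omega]
          exact FiniteField.pow_card_sub_one_eq_one x h
        exact e ▸ S.pow_mem hx _ }
  intro x
  letI : Algebra S' K := S'.toAlgebra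
  haveI : Fintype S' := Fintype.ofFinite S'
  obtain ⟨c, hc⟩ := (IsGalois.mem_range_algebraMap_iff_fixed x).2 fun θ : Gal(K/S') => by
    have hfix : ∀ s ∈ S, θ s = s := fun s hs => θ.commutes ⟨s, hs⟩
    let T := (Herm.fixField τ).subtype
    rcases prod_pair_eq (α := T) (β := φ.comp T)
      (γ := (θ : K →+* K).comp T) (δ := (θ : K →+* K).comp (φ.comp T)) (fun a => by
        show (a : K) * φ a = θ (a : K) * θ (φ a)
        rw [← map_mul, hfix _ (h0 _ a.2)]) with ⟨hc, -⟩ | ⟨hc, hd⟩
    · rcases triv_or_tau hτ (θ : K →+* K) (fun a ha => hc ⟨a, ha⟩) with e | e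
      · exact e x
      · obtain ⟨s, hs, hne⟩ := h1
        exact absurd ((e s).symm.trans (hfix s hs)) hne
    · obtain ⟨a, ha, hne⟩ := hφ2
      have e1 : θ (φ a) = φ (φ a) := hc ⟨φ a, by rw [Herm.mem_fixField, hτφ, ha]⟩
      have e2 : θ (φ a) = a := hd ⟨a, ha⟩
      exact absurd (e1.symm.trans e2) hne
  exact hc ▸ c.2

/-- no field automorphism relates the products for `φ` and for its square -/
theorem no_graph (φ : K →+* K) (hτφ : ∀ a, τ (φ a) = φ (τ a))
    (hφ1 : ∃ a, τ a = a ∧ φ a ≠ a) (hφ3 : ∃ a, τ a = a ∧ φ (φ (φ a)) ≠ a) (θ : K →+* K) :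
    ∃ a, τ a = a ∧ θ (a * φ a) ≠ a * φ (φ a) := by
  by_contra! h
  let T := (Herm.fixField τ).subtype
  rcases prod_pair_eq (α := T) (β := φ.comp (φ.comp T))
    (γ := θ.comp T) (δ := θ.comp (φ.comp T)) (fun a => by
      show (a : K) * φ (φ a) = θ (a : K) * θ (φ a)
      rw [← map_mul, h _ a.2]) with ⟨hc, hd⟩ | ⟨hc, hd⟩
  · obtain ⟨a, ha, hne⟩ := hφ1
    have e1 : θ (φ a) = φ a := hc ⟨φ a, by rw [Herm.mem_fixField, hτφ, ha]⟩
    have e2 : θ (φ a) = φ (φ a) := hd ⟨a, ha⟩
    exact hne (φ.injective (e2.symm.trans e1))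
  · obtain ⟨a, ha, hne⟩ := hφ3
    have e1 : θ (φ a) = φ (φ (φ a)) := hc ⟨φ a, by rw [Herm.mem_fixField, hτφ, ha]⟩
    have e2 : θ (φ a) = a := hd ⟨a, ha⟩
    exact hne (e1.symm.trans e2)

end

section

variable {F K : Type*} [Field F] [Fintype F] [Field K] [Finite K] [Algebra F K] {σ : F →+* F} {τ : K →+* K}

/-- the Frobenius over the base field -/
noncomputable def fr (F K : Type*) [Field F] [Fintype F] [Field K] [Finite K] [Algebra F K] : Gal(K/F) :=
  FiniteField.frobeniusAlgEquivOfAlgebraic F K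

theorem fr_apply (a : K) : fr F K a = a ^ Fintype.card F := rfl

theorem fr_pow_apply (i : ℕ) (a : K) : (fr F K ^ i) a = a ^ (Fintype.card F ^ i) := by
  induction i generalizing a with
  | zero => rw [pow_zero, pow_zero, pow_one]; rfl
  | succ i ih => rw [pow_succ, AlgEquiv.mul_apply, fr_apply, ih, ← pow_mul, pow_succ']

theorem tau_fr_pow (τ : K →+* K) (i : ℕ) (a : K) : τ ((fr F K ^ i) a) = (fr F K ^ i) (τ a) := by
  rw [fr_pow_apply, fr_pow_apply, map_pow]

theorem fr_pow_finrank : fr F K ^ finrank F K = 1 := by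
  rw [fr, ← FiniteField.orderOf_frobeniusAlgEquivOfAlgebraic (K := F) (L := K)]
  exact pow_orderOf_eq_one _

/-- a power of the Frobenius fixing the fixed field is trivial -/
theorem fr_moves (hσ : Herm.IsInvol σ) (hτ : Herm.IsInvol τ) (hext : ∀ t, τ (algebraMap F K t) = algebraMap F K (σ t))
    (i : ℕ) (hi : ¬ finrank F K ∣ i) : ∃ a, τ a = a ∧ (fr F K ^ i) a ≠ a := by
  by_contra! h
  rcases triv_or_tau hτ ((fr F K ^ i : Gal(K/F)) : K →+* K) h with e | e
  · refine hi ?_
    rw [← FiniteField.orderOf_frobeniusAlgEquivOfAlgebraic (K := F) (L := K)]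
    exact orderOf_dvd_of_pow_eq_one (AlgEquiv.ext e)
  · obtain ⟨b, hb⟩ := Herm.exists_moved hσ
    refine hb ((algebraMap F K).injective ?_)
    rw [← hext, ← e]
    exact (fr F K ^ i).commutes b

/-- a multiplier outside the fixed field, all multipliers allowed -/
theorem exists_mult_any (hσ : Herm.IsInvol σ) (hτ : Herm.IsInvol τ)
    (hext : ∀ t, τ (algebraMap F K t) = algebraMap F K (σ t)) (hr : 1 < finrank F K) :
    ∃ a : K, a ≠ 0 ∧ τ (a * fr F K (τ a)) ≠ a * fr F K (τ a) := by
  set φ := fr F K with hφd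
  have hc : ∀ a, τ (φ a) = φ (τ a) := fun a => by
    have := tau_fr_pow (F := F) τ 1 a
    simpa [hφd] using this
  by_contra! h
  have key : ∀ a, τ a * φ a = a * φ (τ a) := fun a => by
    rcases eq_or_ne a 0 with rfl | ha
    · simp
    have := h a ha
    rwa [map_mul, hc, hτ.invol] at this
  have hskew : ∀ a, φ (τ a - a) = τ a - a := fun a => by
    have h1 := key (1 + a)
    simp only [map_add, map_one] at h1
    rw [map_sub]
    linear_combination key a - h1
  obtain ⟨k, hk0, hk⟩ := Herm.exists_skew hτ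
  obtain ⟨a, ha, hne⟩ := fr_moves hσ hτ hext 1 (fun hd => by have := Nat.le_of_dvd one_pos hd; omega)
  rw [pow_one] at hne
  refine hne ?_
  obtain ⟨μ, hμ⟩ := Herm.exists_antitrace hτ hk
  have e1 : φ k = k := by rw [← hμ]; exact hskew μ
  obtain ⟨ν, hν⟩ := Herm.exists_antitrace hτ (k := k * a) (by rw [map_mul, hk, ha]; ring)
  have e2 : φ (k * a) = k * a := by rw [← hν]; exact hskew ν
  rw [map_mul, e1] at e2
  exact mul_left_cancel₀ hk0 e2

/-- a multiplier of norm one outside the fixed field, degree at least five -/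
theorem exists_mult_norm_one (hσ : Herm.IsInvol σ) (hτ : Herm.IsInvol τ)
    (hext : ∀ t, τ (algebraMap F K t) = algebraMap F K (σ t)) (hr : 5 ≤ finrank F K) :
    ∃ b : K, b ≠ 0 ∧ τ (fr F K b / b * fr F K (τ (fr F K b / b))) ≠ fr F K b / b * fr F K (τ (fr F K b / b)) := by
  set φ := fr F K with hφd
  have hcm : ∀ a, τ (φ a) = φ (τ a) := fun a => by
    have := tau_fr_pow (F := F) τ 1 a
    simpa [hφd] using this
  haveI := Fintype.ofFinite K
  by_contra! h
  set Q := Fintype.card F with hQ
  -- every norm one element is killed by the exponent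
  have key : ∀ c : K, c * τ c = 1 → φ (φ c) * c = φ c * φ c := fun c hc => by
    obtain ⟨z, hz, rfl⟩ := Herm.exists_conj_quot hτ hc
    have h1 := h z hz
    simp only [map_mul, map_div₀, hcm, hτ.invol] at h1
    have hz1 : φ z ≠ 0 := (map_ne_zero φ).2 hz
    have hz2 : φ (φ z) ≠ 0 := (map_ne_zero φ).2 hz1
    have ht : τ z ≠ 0 := (map_ne_zero τ).2 hz
    have ht1 : φ (τ z) ≠ 0 := (map_ne_zero φ).2 ht
    have ht2 : φ (φ (τ z)) ≠ 0 := (map_ne_zero φ).2 ht1
    simp only [map_div₀]
    field_simp at h1 ⊢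
    linear_combination h1
  have hQ2 : 2 ≤ Q := Fintype.one_lt_card
  have hroot : ∀ c : K, c * τ c = 1 → c ^ ((Q - 1) * (Q - 1)) = 1 := fun c hc => by
    have hc0 : c ≠ 0 := fun e => by simp [e] at hc
    have hk := key c hc
    rw [hφd, fr_apply, fr_apply, ← hQ] at hk
    have e1 : c ^ Q = c ^ (Q - 1) * c := by rw [← pow_succ, Nat.sub_add_cancel (by omega)]
    have e2 : (c ^ (Q - 1)) ^ Q = c ^ (Q - 1) := by
      refine mul_right_cancel₀ (mul_ne_zero (pow_ne_zero Q hc0) hc0) ?_
      rw [← mul_assoc, ← mul_pow, ← e1, hk]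
      rw [e1]; ring
    rw [pow_mul]
    refine mul_right_cancel₀ (pow_ne_zero (Q - 1) hc0) ?_
    rw [one_mul, ← pow_succ, Nat.sub_add_cancel (by omega)]
    exact e2
  -- too many roots
  set N := (Q - 1) * (Q - 1)
  have hN : 0 < N := Nat.mul_pos (by omega) (by omega)
  have hsub : Nat.card (Herm.normHom τ).ker ≤ N := by
    classical
    let f : (Herm.normHom τ).ker → {x // x ∈ (Polynomial.nthRoots N (1 : K)).toFinset} := fun u => ⟨(u.1 : K), by
      rw [Multiset.mem_toFinset, Polynomial.mem_nthRoots hN]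
      exact hroot _ (congrArg Units.val u.2)⟩
    refine (Nat.card_le_card_of_injective f fun u v e => Subtype.ext (Units.ext (congrArg Subtype.val e))).trans ?_
    rw [Nat.card_eq_finsetCard]
    exact (Multiset.toFinset_card_le _).trans (Polynomial.card_nthRoots N 1)
  rw [Herm.card_ker_normHom hτ] at hsub
  have h1 : Nat.card (Herm.fixField τ) ^ 2 = Q ^ finrank F K := by
    rw [← Herm.card_eq_fix_sq hτ, Nat.card_eq_fintype_card]
    exact Module.card_eq_pow_finrank
  have h2 : N ≤ Q ^ 2 := by rw [sq]; exact Nat.mul_le_mul (Nat.sub_le _ _) (Nat.sub_le _ _)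
  have h3 : (Q ^ 2) ^ 2 < Q ^ finrank F K := by
    rw [← pow_mul]; exact Nat.pow_lt_pow_right hQ2 (by omega)
  have h4 : Nat.card (Herm.fixField τ) < Q ^ 2 := by omega
  have h5 := Nat.pow_le_pow_left h4.le 2
  omega


/-- a norm one element of relative norm one outside the base field -/
def HasRefl (F : Type*) {K : Type*} [Field F] [Field K] [Algebra F K] (τ : K →+* K) : Prop :=
  ∃ a : K, a * τ a = 1 ∧ Algebra.norm F a = 1 ∧ ∀ t : F, a ≠ algebraMap F K t

/-- such an element exists in degree at least five -/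
theorem hasRefl_five [FiniteDimensional F K] (hσ : Herm.IsInvol σ) (hτ : Herm.IsInvol τ)
    (hext : ∀ t, τ (algebraMap F K t) = algebraMap F K (σ t)) (h5 : 5 ≤ finrank F K) : HasRefl F τ := by
  obtain ⟨z, hz, hχ⟩ := exists_mult_norm_one hσ hτ hext h5
  set φ := fr F K
  have hcm : ∀ a, τ (φ a) = φ (τ a) := fun a => by simpa using tau_fr_pow (F := F) τ 1 a
  set p := φ z / z
  have hp0 : p ≠ 0 := div_ne_zero ((map_ne_zero φ).2 hz) hz
  have hNp : Algebra.norm F p = 1 := by
    have hN : Algebra.norm F (φ z) = Algebra.norm F z := by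
      rw [fr_apply, map_pow, FiniteField.pow_card]
    refine mul_right_cancel₀ (Algebra.norm_ne_zero_iff.2 hz : Algebra.norm F z ≠ 0) ?_
    rw [one_mul, ← map_mul, div_mul_cancel₀ _ hz, hN]
  clear_value p
  have hNτ : ∀ y : K, Algebra.norm F (τ y) = σ (Algebra.norm F y) := fun y => by
    refine (algebraMap F K).injective ?_
    rw [← hext, FiniteField.algebraMap_norm_eq_prod_pow, FiniteField.algebraMap_norm_eq_prod_pow, map_prod]
    exact Finset.prod_congr rfl fun i _ => (map_pow τ y _).symm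
  set a₀ := p / τ p with ha₀
  have ha₀n : a₀ * τ a₀ = 1 := by
    rw [ha₀, map_div₀, hτ.invol, div_mul_div_comm, mul_comm p, div_self (mul_ne_zero ((map_ne_zero τ).2 hp0) hp0)]
  have ha₀N : Algebra.norm F a₀ = 1 := by
    refine mul_right_cancel₀ (Algebra.norm_ne_zero_iff.2 ((map_ne_zero τ).2 hp0) : Algebra.norm F (τ p) ≠ 0) ?_
    rw [one_mul, ← map_mul, ha₀, div_mul_cancel₀ _ ((map_ne_zero τ).2 hp0), hNτ, hNp, map_one]
  have ha₀F : ∀ t : F, a₀ ≠ algebraMap F K t := by
    intro t ht
    refine hχ ?_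
    have h1 : φ a₀ = a₀ := by rw [ht]; exact φ.commutes t
    rw [ha₀, map_div₀, div_eq_div_iff ((map_ne_zero φ).2 ((map_ne_zero τ).2 hp0)) ((map_ne_zero τ).2 hp0)] at h1
    rw [map_mul, hcm, hτ.invol]
    linear_combination h1
  exact ⟨a₀, ha₀n, ha₀N, ha₀F⟩

/-- such an element exists in degree three over at least nine elements -/
theorem hasRefl_three [FiniteDimensional F K] (hτ : Herm.IsInvol τ) (hr : finrank F K = 3) (h9 : 9 ≤ Fintype.card F) :
    HasRefl F τ := by
  classical
  haveI := Fintype.ofFinite K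
  set φ := fr F K
  have hcm : ∀ a, τ (φ a) = φ (τ a) := fun a => by simpa using tau_fr_pow (F := F) τ 1 a
  set Q := Fintype.card F with hQ
  by_contra hno
  have hroot : ∀ z : K, z * τ z = 1 → z ^ (3 * (Q - 1)) = 1 := fun z hz => by
    have hz0 : z ≠ 0 := fun e => by simp [e] at hz
    have hN : Algebra.norm F (φ z / z) = 1 := by
      refine mul_right_cancel₀ (Algebra.norm_ne_zero_iff.2 hz0 : Algebra.norm F z ≠ 0) ?_
      rw [one_mul, ← map_mul, div_mul_cancel₀ _ hz0, fr_apply, map_pow, FiniteField.pow_card]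
    have hn : φ z / z * τ (φ z / z) = 1 := by
      rw [map_div₀, hcm, div_mul_div_comm, ← map_mul, hz, map_one, div_one]
    obtain ⟨t, ht⟩ : ∃ t : F, φ z / z = algebraMap F K t := by
      by_contra h
      push Not at h
      exact hno ⟨_, hn, hN, h⟩
    have h3 : (φ z / z) ^ 3 = 1 := by
      rw [ht, Algebra.norm_algebraMap, hr] at hN
      rw [ht, ← map_pow, hN, map_one]
    rw [mul_comm 3, pow_mul]
    convert h3 using 2
    rw [fr_apply, eq_div_iff hz0, ← hQ, ← pow_succ, Nat.sub_add_cancel (by omega)]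
  set N := 3 * (Q - 1)
  have hN : 0 < N := by omega
  have hsub : Nat.card (Herm.normHom τ).ker ≤ N := by
    let f : (Herm.normHom τ).ker → {x // x ∈ (Polynomial.nthRoots N (1 : K)).toFinset} := fun u => ⟨(u.1 : K), by
      rw [Multiset.mem_toFinset, Polynomial.mem_nthRoots hN]
      exact hroot _ (congrArg Units.val u.2)⟩
    refine (Nat.card_le_card_of_injective f fun u v e => Subtype.ext (Units.ext (congrArg Subtype.val e))).trans ?_
    rw [Nat.card_eq_finsetCard]
    exact (Multiset.toFinset_card_le _).trans (Polynomial.card_nthRoots N 1)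
  rw [Herm.card_ker_normHom hτ] at hsub
  have h1 : Nat.card (Herm.fixField τ) ^ 2 = Q ^ 3 := by
    rw [← Herm.card_eq_fix_sq hτ, Nat.card_eq_fintype_card, ← hr]
    exact Module.card_eq_pow_finrank
  have h2 : Nat.card (Herm.fixField τ) < 3 * Q := by omega
  have h3 := Nat.pow_le_pow_left h2.le 2
  rw [h1] at h3
  have h5 : Q ^ 3 = Q * Q ^ 2 := by ring
  have h6 : (3 * Q) ^ 2 = 9 * Q ^ 2 := by ring
  rw [h5, h6] at h3
  have h7 : Q ≤ 9 := Nat.le_of_mul_le_mul_right h3 (by positivity)
  have h8 : Q = 9 := by omega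
  have h10 : 27 ≤ Nat.card (Herm.fixField τ) := by
    by_contra h
    have := Nat.pow_le_pow_left (show Nat.card (Herm.fixField τ) ≤ 26 by omega) 2
    rw [h1, h8] at this
    omega
  omega

end

end Cfsg.Agent.ClassicalMax.ExtField.Unit
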