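import Cfsg.Agent.ClassicalMax.ExtField.Main
import Cfsg.Agent.ClassicalMax.ExtField.UnitField
import Cfsg.Agent.ClassicalMax.Unitary
import Cfsg.Agent.ClassicalMax.UnTensor.Space

/-!
A unitary space over an extension field of odd degree seen over the base field: the standing hypotheses and an
overgroup element moving a totally isotropic image against itself.
-/

set_option autoImplicit false
set_option linter.unusedSectionVars false
set_option linter.style.haveILetI false

namespace Cfsg.Agent.ClassicalMax.ExtField.Unit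

open Module Cfsg.Agent.Classical Cfsg.Agent.ClassicalMax

variable {F K V : Type*} [Field F] [Fintype F] [Field K] [Finite K] [Algebra F K] [AddCommGroup V] [Module F V]
  [Module K V] [IsScalarTower F K V] [FiniteDimensional F V] {σ : F →+* F} {τ : K →+* K}
  {B : V →ₛₗ[σ] V →ₗ[F] F} {b : V →ₛₗ[τ] V →ₗ[K] K} {X : Subgroup (V ≃ₗ[F] V)}

/-- the hypotheses: `X` lies between the determinant-one isometries linear over `K` and all isometries -/
structure UnOver (B : V →ₛₗ[σ] V →ₗ[F] F) (b : V →ₛₗ[τ] V →ₗ[K] K) (X : Subgroup (V ≃ₗ[F] V)) : Prop where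
  prime : (finrank F K).Prime
  three : 3 ≤ finrank F K
  dim : 2 ≤ finrank K V
  wide : 3 ≤ finrank K V ∨ HasRefl F τ
  herm : Herm.IsHerm B
  kherm : Herm.IsHerm b
  ext : ∀ t, τ (algebraMap F K t) = algebraMap F K (σ t)
  spec : ∀ (c : K) (x z : V), Algebra.trace F K (c * b x z) = B x (c • z)
  iso : ∀ g ∈ X, ∀ x z, B (g x) (g z) = B x z
  le : ∀ D : V ≃ₗ[K] V, (∀ x z, b (D x) (D z) = b x z) → Algebra.norm F (LinearMap.det D.toLinearMap) = 1 →
    InX X (D.toLinearMap.restrictScalars F)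

variable (hO : UnOver B b X)
include hO

theorem UnOver.finK : FiniteDimensional F K := Module.finite_of_finrank_pos hO.prime.pos

theorem UnOver.finV : FiniteDimensional K V := Module.Finite.right F K V

theorem UnOver.finiteV : Finite V := by
  haveI := hO.finV
  exact Module.finite_of_finite K

theorem UnOver.trace_tau (k : K) : Algebra.trace F K (τ k) = σ (Algebra.trace F K k) := by
  haveI := hO.finK
  refine (algebraMap F K).injective ?_
  rw [← hO.ext, FiniteField.algebraMap_trace_eq_sum_pow, FiniteField.algebraMap_trace_eq_sum_pow, map_sum]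
  exact Finset.sum_congr rfl fun i _ => (map_pow τ k _).symm

theorem UnOver.spec1 (x z : V) : B x z = Algebra.trace F K (b x z) := by
  rw [← one_mul (b x z), hO.spec, one_smul]

theorem UnOver.spec_left (c : K) (x z : V) : B (c • x) z = Algebra.trace F K (τ c * b x z) := by
  rw [hO.spec1, map_smulₛₗ, LinearMap.smul_apply, smul_eq_mul]

theorem UnOver.sep {e : K} (h : ∀ c : K, Algebra.trace F K (c * e) = 0) : e = 0 := by
  haveI := hO.finK
  exact (traceForm_nondegenerate F K).2 e fun c => by rw [Algebra.traceForm_apply]; exact h c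

theorem UnOver.skew_span (c : K) : ∃ k₁ k₂ : K, ∃ t : F, τ k₁ = -k₁ ∧ τ k₂ = -k₂ ∧ c = k₁ + t • k₂ := by
  obtain ⟨l, hl⟩ := Herm.exists_moved hO.herm.toIsInvol
  set L := algebraMap F K l with hLd
  have hne : L - τ L ≠ 0 := by
    rw [sub_ne_zero, hLd, hO.ext]
    exact fun h => hl ((algebraMap F K).injective h).symm
  set k₂ := (c + τ c) / (L - τ L) with hk
  have hk₂ : τ k₂ = -k₂ := by
    rw [hk, map_div₀, map_add, map_sub, hO.kherm.invol, hO.kherm.invol, ← neg_sub L (τ L), div_neg, add_comm (τ c)]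
  refine ⟨c - L * k₂, k₂, l, ?_, hk₂, by rw [Algebra.smul_def, ← hLd]; ring⟩
  have e : (L - τ L) * k₂ = c + τ c := by rw [hk, mul_div_cancel₀ _ hne]
  rw [map_sub, map_mul, hk₂]
  linear_combination (-1 : K) * e

theorem UnOver.skew_sep {e : K} (h : ∀ k, τ k = -k → Algebra.trace F K (k * e) = 0) : e = 0 := by
  refine hO.sep fun c => ?_
  obtain ⟨k₁, k₂, t, h₁, h₂, rfl⟩ := hO.skew_span c
  rw [add_mul, map_add, h _ h₁, smul_mul_assoc, map_smul, h _ h₂, smul_zero, add_zero]

theorem UnOver.isotropic {v : V} (hv : b v v = 0) (c c' : K) : B (c • v) (c' • v) = 0 := by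
  simp [hO.spec1, map_smulₛₗ, hv]

omit hO in
theorem tv_apply {v : V} (hv : b v v = 0) (k : K) (x : V) :
    (op (F := F) (b v) (LinearMap.mulLeft F k) v) x = (k * b v x) • v := rfl

/-- the transvections over `K` -/
theorem UnOver.tvK_mem {v : V} (hv : b v v = 0) {k : K} (hk : τ k = -k) :
    InX X (1 + op (F := F) (b v) (LinearMap.mulLeft F k) v) := by
  haveI := hO.finV
  have hc : k + τ k = 0 := by rw [hk, add_neg_cancel]
  have hmem := Herm.tvU_mem hO.kherm hv hc
  have h := hO.le (Herm.tvU hv k) hmem.1 (by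
    rw [show LinearMap.det (Herm.tvU hv k).toLinearMap = 1 by simpa [Units.ext_iff] using hmem.2, map_one])
  exact h

/-- an isotropic decomposition with prescribed product -/
theorem UnOver.split {x : V} (hx : b x x ≠ 0) {z : K} (hz : z + τ z = b x x) :
    ∃ a, b a a = 0 ∧ b a x = z ∧ b (x - a) (x - a) = 0 ∧ b a (x - a) = z := by
  haveI := hO.finV
  have hB := hO.kherm
  obtain ⟨y, hy, hy0⟩ : ∃ y ∈ LinearMap.ker (b x), y ≠ 0 := Submodule.exists_mem_ne_zero_of_ne_bot fun h => by
    have h1 := LinearMap.finrank_range_add_finrank_ker (b x)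
    rw [h, finrank_bot] at h1
    have h2 := Submodule.finrank_le (LinearMap.range (b x))
    rw [finrank_self] at h2
    have := hO.dim
    omega
  obtain ⟨y', hy'⟩ : ∃ y', b y y' ≠ 0 := by
    by_contra! h
    exact hy0 (hB.nondeg y h)
  have hxy : b x y = 0 := hy
  have hyx : b y x = 0 := (Herm.eq_zero_comm hB).1 hxy
  obtain ⟨w, hw, hww⟩ := Herm.exists_anisotropic hB (LinearMap.ker (b x)) ⟨y, hy, y' - (b x y' / b x x) • x, by
    rw [LinearMap.mem_ker, map_sub, map_smul, smul_eq_mul, div_mul_cancel₀ _ hx, sub_self], by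
    rw [map_sub, map_smul, hyx, smul_zero, sub_zero]; exact hy'⟩
  have hxw : b x w = 0 := hw
  have hwx : b w x = 0 := (Herm.eq_zero_comm hB).1 hxw
  set δ := b x x with hδd
  have hδτ : τ δ = δ := Herm.fix_self hB x
  set α := τ z / δ with hα
  obtain ⟨s, hs⟩ := Herm.exists_norm hB.toIsInvol (a := -(α * τ α * δ) / b w w) (by
    rw [map_div₀, map_neg, map_mul, map_mul, hB.invol, hδτ, Herm.fix_self hB, mul_comm (τ α)])
  have ew : b (s • w) (s • w) = -(α * τ α * δ) := by rw [Herm.smul_self hB, hs, div_mul_cancel₀ _ hww]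
  set a := α • x + s • w with had
  have haa : b a a = 0 := by
    rw [had]
    simp only [map_add, map_smulₛₗ, LinearMap.add_apply, LinearMap.smul_apply, smul_eq_mul, RingHom.id_apply, hxw, hwx, ← hδd,
      mul_zero, add_zero, zero_add] at ew ⊢
    linear_combination ew
  have hax : b a x = z := by
    rw [had, map_add, LinearMap.add_apply, map_smulₛₗ, map_smulₛₗ, LinearMap.smul_apply, LinearMap.smul_apply, hwx, smul_zero,
      add_zero, smul_eq_mul, ← hδd, hα, map_div₀, hB.invol, hδτ, div_mul_cancel₀ _ hx]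
  have hxa : b x a = τ z := by rw [← hB.symm a x, hax]
  refine ⟨a, haa, hax, ?_, by rw [map_sub, hax, haa, sub_zero]⟩
  simp only [map_sub, LinearMap.sub_apply, haa, hax, hxa, ← hδd]
  linear_combination (-1 : K) * hz

/-- outside the normaliser some isotropic line is not sent into a line -/
theorem UnOver.exists_line_moved {g : V ≃ₗ[F] V} (hsl : ∃ (k : K) (x : V), g (k • x) ∉ K ∙ g x) :
    ∃ v, b v v = 0 ∧ v ≠ 0 ∧ ∃ c : K, g (c • v) ∉ K ∙ g v := by
  haveI := hO.finK
  haveI := hO.finV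
  have hB := hO.kherm
  by_contra! hline
  obtain ⟨k, x, hkx⟩ := hsl
  -- conjugated scalars preserve isotropic lines
  let S : K → V →ₗ[F] V := fun k =>
    g.symm.toLinearMap ∘ₗ ((LinearMap.lsmul K V k).restrictScalars F) ∘ₗ g.toLinearMap
  have hS : ∀ k y, S k y = g.symm (k • g y) := fun k y => rfl
  have hmem : ∀ v, b v v = 0 → ∀ c k : K, ∃ e : K, S k (c • v) = e • v := by
    intro v hv c k
    rcases eq_or_ne v 0 with rfl | hv0
    · exact ⟨0, by simp⟩
    have hle : (ln F K v).map g.toLinearMap ≤ ln F K (g v) := by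
      rintro _ ⟨y, hy, rfl⟩
      obtain ⟨c', rfl⟩ := mem_ln.1 hy
      obtain ⟨e, he⟩ := Submodule.mem_span_singleton.1 (hline v hv hv0 c')
      exact mem_ln.2 ⟨e, he⟩
    have heq := Submodule.eq_of_le_of_finrank_le hle (by
      rw [finrank_ln (g.map_ne_zero_iff.2 hv0), LinearEquiv.finrank_map_eq, finrank_ln hv0])
    obtain ⟨e₀, he₀⟩ := Submodule.mem_span_singleton.1 (hline v hv hv0 c)
    have : (k * e₀) • g v ∈ (ln F K v).map g.toLinearMap := heq ▸ mem_ln.2 ⟨_, rfl⟩
    obtain ⟨y, hy, hye⟩ := this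
    obtain ⟨e, rfl⟩ := mem_ln.1 hy
    refine ⟨e, ?_⟩
    rw [hS, LinearEquiv.symm_apply_eq, ← he₀, smul_smul]
    exact hye.symm
  -- they are scalar on hyperbolic planes
  have hpair : ∀ k, ∀ v f, b v v = 0 → b f f = 0 → b v f = 1 →
      ∃ a : K, ∀ t : K, S k (t • v) = (t * a) • v ∧ S k (t • f) = (t * a) • f := by
    intro k v f hv hf hvf
    have hv0 : v ≠ 0 := fun h => by simp [h] at hvf
    have hfv : b f v = 1 := by rw [← hB.symm, hvf, map_one]
    choose h hh using fun t => hmem v hv t k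
    choose h' hh' using fun t => hmem f hf t k
    have hcoef : ∀ p q p' q' : K, p • v + q • f = p' • v + q' • f → p = p' ∧ q = q' := fun p q p' q' e => by
      have e1 := congrArg (b v) e
      have e2 := congrArg (b f) e
      simp only [map_add, map_smul, hv, hf, hvf, hfv, smul_eq_mul, mul_zero, mul_one, zero_add, add_zero] at e1 e2
      exact ⟨e2, e1⟩
    have key : ∀ t s, τ s = -s → h' (t * s) = h t * s := fun t s hs => by
      have hiso : b (v + s • f) (v + s • f) = 0 := by
        simp only [map_add, map_smulₛₗ, LinearMap.add_apply, LinearMap.smul_apply, smul_eq_mul, RingHom.id_apply, hv, hf,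
          hvf, hfv, hs]
        ring
      obtain ⟨e, he⟩ := hmem _ hiso t k
      rw [smul_add, smul_smul, map_add, hh, hh', smul_add, smul_smul] at he
      obtain ⟨e1, e2⟩ := hcoef _ _ _ _ he
      rw [e2, e1]
    obtain ⟨s, hs0, hs⟩ := Herm.exists_skew hB.toIsInvol
    have hlin : ∀ κ t, τ κ = κ → h (t * κ) = h t * κ := fun κ t hκ => by
      refine mul_right_cancel₀ hs0 ?_
      rw [← key _ s hs, mul_assoc, key t (κ * s) (by rw [map_mul, hκ, hs]; ring), mul_assoc]
    have hF : ∀ (r : F) t, h (r • t) = r • h t := fun r t => by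
      refine smul_left_injective K hv0 ?_
      show h (r • t) • v = (r • h t) • v
      rw [← hh, smul_assoc, map_smul, hh, smul_assoc]
    have hadd : ∀ t t', h (t + t') = h t + h t' := fun t t' => by
      refine smul_left_injective K hv0 ?_
      show h (t + t') • v = (h t + h t') • v
      rw [← hh, add_smul, map_add, hh, hh, add_smul]
    have hs2 : s * s⁻¹ = 1 := mul_inv_cancel₀ hs0
    have hall : ∀ t, h t = t * h 1 := fun t => by
      obtain ⟨k₁, k₂, r, h₁, h₂, e⟩ := hO.skew_span (t * s)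
      have f₁ : τ (k₁ / s) = k₁ / s := by rw [map_div₀, h₁, hs, neg_div_neg_eq]
      have f₂ : τ (k₂ / s) = k₂ / s := by rw [map_div₀, h₂, hs, neg_div_neg_eq]
      have et : t = k₁ / s + r • (k₂ / s) := by
        rw [← mul_inv_cancel_right₀ hs0 t, e, Algebra.smul_def, Algebra.smul_def]; ring
      have e₁ := hlin _ 1 f₁
      have e₂ := hlin _ 1 f₂
      rw [one_mul] at e₁ e₂
      rw [et, hadd, hF, e₁, e₂, Algebra.smul_def, Algebra.smul_def]
      ring
    refine ⟨h 1, fun t => ⟨by rw [hh, hall], ?_⟩⟩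
    rw [hh', show t = t * s⁻¹ * s by rw [mul_assoc, inv_mul_cancel₀ hs0, mul_one], key _ s hs, hall]
    congr 1
    ring
  obtain ⟨y₀, hy₀⟩ : ∃ y, b y y ≠ 0 := by
    obtain ⟨e, he⟩ := Herm.exists_orthonormal hB
    have := hO.dim
    exact ⟨e ⟨0, by omega⟩, by rw [he, if_pos rfl]; exact one_ne_zero⟩
  obtain ⟨z₀, hz₀⟩ := Herm.exists_trace hB.toIsInvol (Herm.fix_self hB y₀)
  obtain ⟨v, hv, hvy, hv', hvv'⟩ := hO.split hy₀ hz₀
  have hz0 : z₀ ≠ 0 := fun h => hy₀ (by rw [← hz₀, h, map_zero, add_zero])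
  set f := z₀⁻¹ • (y₀ - v)
  have hf : b f f = 0 := by rw [Herm.smul_self hB, hv', mul_zero]
  have hvf : b v f = 1 := by rw [map_smul, hvv', smul_eq_mul, inv_mul_cancel₀ hz0]
  have hv0 : v ≠ 0 := fun h => by simp [h] at hvf
  have hf0 : f ≠ 0 := fun h => by simp [h] at hvf
  -- the same scalar on every isotropic vector
  have hglobal : ∀ k, ∃ a : K, ∀ x, S k x = a • x := by
    intro k
    obtain ⟨a, ha⟩ := hpair k v f hv hf hvf
    have hav : S k v = a • v := by simpa using (ha 1).1
    have hiso : ∀ u, b u u = 0 → S k u = a • u := by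
      have near : ∀ w, w ≠ 0 → b w w = 0 → S k w = a • w → ∀ u, b u u = 0 → b w u ≠ 0 → S k u = a • u := by
        intro w hw0 hw hwa u hu hwu
        obtain ⟨a', ha'⟩ := hpair k w ((b w u)⁻¹ • u) hw (by rw [Herm.smul_self hB, hu, mul_zero])
          (by rw [map_smul, smul_eq_mul, inv_mul_cancel₀ hwu])
        have e : a' = a := by
          have e1 := (ha' 1).1
          rw [one_smul, one_mul, hwa] at e1
          exact (smul_left_injective K hw0 e1).symm
        have e2 := (ha' (b w u)).2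
        rwa [smul_smul, mul_inv_cancel₀ hwu, one_smul, smul_smul, e, mul_comm (b w u) a, mul_assoc, mul_inv_cancel₀ hwu,
          mul_one] at e2
      have haf : S k f = a • f := by simpa using (ha 1).2
      intro u hu
      by_cases h1 : b v u = 0
      · by_cases h2 : b f u = 0
        · have e := near f hf0 hf haf (u + v) (by
            simp only [map_add, LinearMap.add_apply, hu, hv, h1, (Herm.eq_zero_comm hB).1 h1, add_zero]) (by
            rw [map_add, h2, zero_add, ← hB.symm v f, hvf, map_one]; exact one_ne_zero)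
          rw [map_add, hav, smul_add] at e
          exact add_right_cancel e
        · exact near f hf0 hf haf u hu h2
      · exact near v hv0 hv hav u hu h1
    refine ⟨a, fun x => ?_⟩
    by_cases hx : b x x = 0
    · exact hiso x hx
    obtain ⟨z, hz⟩ := Herm.exists_trace hB.toIsInvol (Herm.fix_self hB x)
    obtain ⟨p, hp, -, hp', -⟩ := hO.split hx hz
    rw [← add_sub_cancel p x, map_add, hiso _ hp, hiso _ hp', smul_add]
  choose a ha using hglobal
  have hga : ∀ k x, k • g x = g (a k • x) := fun k x => by rw [← ha, hS, LinearEquiv.apply_symm_apply]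
  have hinj : Function.Injective a := fun k₁ k₂ e => by
    have h := (hga k₁ v).trans ((congrArg (fun t => g (t • v)) e).trans (hga k₂ v).symm)
    exact smul_left_injective K (g.map_ne_zero_iff.2 hv0) h
  obtain ⟨k', hk'⟩ := (Finite.injective_iff_surjective.1 hinj) k
  exact hkx (Submodule.mem_span_singleton.2 ⟨k', by rw [hga, hk']⟩)

/-- a reflection scalar with non-vanishing trace product -/
theorem UnOver.exists_refl (hR : HasRefl F τ) {q : K} (hq : q ≠ 0) :
    ∃ a : K, a * τ a = 1 ∧ Algebra.norm F a = 1 ∧ Algebra.trace F K ((a - 1) * q) ≠ 0 := by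
  haveI := hO.finK
  obtain ⟨a₀, ha₀n, ha₀N, ha₀F⟩ := hR
  by_contra! hall
  refine hq (hO.sep fun c => ?_)
  set G := {a : K | a * τ a = 1 ∧ Algebra.norm F a = 1} with hG
  set S := Submodule.span F ((fun a => a - 1) '' G) with hS
  have hker : S ≤ LinearMap.ker ((Algebra.trace F K).comp (LinearMap.mulRight F q)) := by
    rw [hS, Submodule.span_le]
    rintro _ ⟨a, ha, rfl⟩
    exact hall a ha.1 ha.2
  suffices S = ⊤ from hker (this ▸ Submodule.mem_top : c ∈ S)
  let Mu : Subalgebra F K :=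
    { carrier := {y | ∀ u ∈ S, u * y ∈ S}
      mul_mem' := fun {y y'} hy hy' u hu => by rw [← mul_assoc]; exact hy' _ (hy u hu)
      one_mem' := fun u hu => by rwa [mul_one]
      add_mem' := fun {y y'} hy hy' u hu => by rw [mul_add]; exact add_mem (hy u hu) (hy' u hu)
      zero_mem' := fun u _ => by rw [mul_zero]; exact zero_mem _
      algebraMap_mem' := fun t u hu => by rw [mul_comm, ← Algebra.smul_def]; exact S.smul_mem t hu }
  have ha₀G : a₀ ∈ G := ⟨ha₀n, ha₀N⟩
  have hmem : a₀ ∈ Mu := by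
    intro u hu
    induction hu using Submodule.span_induction with
    | mem y hy =>
      obtain ⟨a, ha, rfl⟩ := hy
      rw [show (a - 1) * a₀ = (a * a₀ - 1) - (a₀ - 1) by ring]
      refine sub_mem (Submodule.subset_span ⟨a * a₀, ⟨?_, ?_⟩, rfl⟩) (Submodule.subset_span ⟨a₀, ha₀G, rfl⟩)
      · rw [map_mul, mul_mul_mul_comm, ha.1, ha₀n, one_mul]
      · rw [map_mul, ha.2, ha₀N, one_mul]
    | zero => rw [zero_mul]; exact zero_mem _
    | add y y' _ _ hy hy' => rw [add_mul]; exact add_mem hy hy'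
    | smul t y _ hy => rw [smul_mul_assoc]; exact S.smul_mem t hy
  haveI := Subalgebra.isSimpleOrder_of_finrank_prime F K hO.prime
  rcases eq_bot_or_eq_top Mu with h | h
  · obtain ⟨t, ht⟩ := Algebra.mem_bot.1 (h ▸ hmem : a₀ ∈ (⊥ : Subalgebra F K))
    exact absurd ht.symm (ha₀F t)
  · refine eq_top_iff.2 fun y _ => ?_
    have h1 : a₀ - 1 ≠ 0 := sub_ne_zero.2 fun e => ha₀F 1 (by rw [e, map_one])
    have hy : (a₀ - 1)⁻¹ * y ∈ Mu := h ▸ Algebra.mem_top
    have := hy (a₀ - 1) (Submodule.subset_span ⟨a₀, ha₀G, rfl⟩)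
    rwa [← mul_assoc, mul_inv_cancel₀ h1, one_mul] at this

/-- a member fixing a vector of a moved image and pairing the image with itself -/
theorem UnOver.exists_move_fix {g : V ≃ₗ[F] V} (hg : g ∈ X) {v : V} (hv : b v v = 0) (hv0 : v ≠ 0) {c : K}
    (hc : g (c • v) ∉ K ∙ g v) :
    ∃ g' ∈ X, (∃ y ∈ ln F K v, y ≠ 0 ∧ g' y ∈ ln F K v) ∧ ∃ y ∈ ln F K v, ∃ z ∈ ln F K v, B y (g' z) ≠ 0 := by
  haveI := hO.finK
  haveI := hO.finV
  have hB := hO.kherm
  set A := ln F K v with hA
  set C := A.map g.toLinearMap with hC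
  have hCB : ∀ p ∈ C, ∀ p' ∈ C, B p p' = 0 := by
    rintro _ ⟨p, hp, rfl⟩ _ ⟨p', hp', rfl⟩
    obtain ⟨t, rfl⟩ := mem_ln.1 hp
    obtain ⟨t', rfl⟩ := mem_ln.1 hp'
    exact (hO.iso g hg _ _).trans (hO.isotropic hv t t')
  have hnl : ∀ y ∈ C, y ≠ 0 → ∃ z ∈ C, z ∉ K ∙ y := by
    intro y hy hy0
    by_contra! h
    refine hc ?_
    have hle : C ≤ ln F K y := fun p hp => by
      obtain ⟨e, he⟩ := Submodule.mem_span_singleton.1 (h p hp)
      exact mem_ln.2 ⟨e, he⟩
    have h1 : g v ∈ ln F K y := hle ⟨v, self_mem_ln v, rfl⟩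
    have h2 : g (c • v) ∈ ln F K y := hle ⟨_, mem_ln.2 ⟨c, rfl⟩, rfl⟩
    rw [← ln_eq_of_mem h1 (g.map_ne_zero_iff.2 hv0)] at h2
    obtain ⟨e, he⟩ := mem_ln.1 h2
    exact Submodule.mem_span_singleton.2 ⟨e, he⟩
  -- a fixing member with non-zero pairing suffices
  suffices h : ∃ d ∈ X, ∃ y ∈ C, y ≠ 0 ∧ d y = y ∧ ∃ p ∈ C, ∃ p' ∈ C, B p (d p') ≠ 0 by
    obtain ⟨d, hd, y, hy, hy0, hdy, p, hp, p', hp', hpp⟩ := h
    obtain ⟨y₁, hy₁, rfl⟩ := hy
    obtain ⟨p₁, hp₁, rfl⟩ := hp
    obtain ⟨p₂, hp₂, rfl⟩ := hp'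
    refine ⟨g⁻¹ * d * g, mul_mem (mul_mem (inv_mem hg) hd) hg, ⟨y₁, hy₁, fun h => hy0 (by simp [h]), ?_⟩,
      p₁, hp₁, p₂, hp₂, ?_⟩
    · rw [LinearEquiv.mul_apply, LinearEquiv.mul_apply, show d (g y₁) = g y₁ from hdy, inv_apply]; exact hy₁
    · rw [← hO.iso g hg, LinearEquiv.mul_apply, LinearEquiv.mul_apply, apply_inv]; exact hpp
  have hcomm : ∀ p q : V, b q p = τ (b p q) := fun p q => (hB.symm p q).symm
  -- the transvection route
  have viaT : ∀ w, b w w = 0 → ∀ y ∈ C, y ≠ 0 → b w y = 0 → ∀ z ∈ C, b w z ≠ 0 →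
      ∃ d ∈ X, ∃ y ∈ C, y ≠ 0 ∧ d y = y ∧ ∃ p ∈ C, ∃ p' ∈ C, B p (d p') ≠ 0 := by
    intro w hw y hy hy0 hwy z hz hwz
    obtain ⟨k, hk, hkne⟩ : ∃ k, τ k = -k ∧ Algebra.trace F K (k * (b w z * b z w)) ≠ 0 := by
      by_contra! h
      exact mul_ne_zero hwz (fun h' => hwz ((Herm.eq_zero_comm hB).1 h')) (hO.skew_sep h)
    obtain ⟨d, hd, e⟩ := hO.tvK_mem hw hk
    have hdx : ∀ x, d x = x + (k * b w x) • w := fun x => LinearMap.congr_fun e x
    refine ⟨d, hd, y, hy, hy0, by rw [hdx, hwy, mul_zero, zero_smul, add_zero], z, hz, z, hz, ?_⟩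
    rw [hdx, map_add, hCB z hz z hz, zero_add, ← hO.spec, mul_assoc]
    exact hkne
  by_cases hδ : ∃ y ∈ C, b y y ≠ 0
  · obtain ⟨y, hy, hyy⟩ := hδ
    have hy0 : y ≠ 0 := fun h => hyy (by simp [h])
    obtain ⟨z, hz, hzy⟩ := hnl y hy hy0
    set z' := z - (b y z / b y y) • y with hz'
    have hz'0 : z' ≠ 0 := fun h => hzy (Submodule.mem_span_singleton.2 ⟨_, (sub_eq_zero.1 h).symm⟩)
    have hyz' : b y z' = 0 := by rw [hz', map_sub, map_smul, smul_eq_mul, div_mul_cancel₀ _ hyy, sub_self]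
    have hz'y : b z' y = 0 := (Herm.eq_zero_comm hB).1 hyz'
    have hbz : ∀ e, b e y = 0 → b e z = b e z' := fun e he => by rw [hz', map_sub, map_smul, he, smul_zero, sub_zero]
    obtain ⟨p, hp⟩ : ∃ p, b z' p ≠ 0 := by
      by_contra! h
      exact hz'0 (hB.nondeg _ h)
    set f := p - (b y p / b y y) • y with hfd
    have hyf : b y f = 0 := by rw [hfd, map_sub, map_smul, smul_eq_mul, div_mul_cancel₀ _ hyy, sub_self]
    have hz'f : b z' f ≠ 0 := by rwa [hfd, map_sub, map_smul, hz'y, smul_zero, sub_zero]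
    -- anisotropic vector pairing with z'
    obtain ⟨e, hey, hee, hez⟩ : ∃ e, b e y = 0 ∧ b e e ≠ 0 ∧ b e z' ≠ 0 := by
      by_cases h1 : b z' z' = 0
      · by_cases h2 : b f f = 0
        · obtain ⟨l, hl⟩ := Herm.exists_trace hB.toIsInvol (map_one τ)
          refine ⟨f + (l / b f z') • z', ?_, ?_, ?_⟩
          · simp [(Herm.eq_zero_comm hB).1 hyf, hz'y]
          · have hfz : b f z' ≠ 0 := fun h => hz'f ((Herm.eq_zero_comm hB).1 h)
            have : b (f + (l / b f z') • z') (f + (l / b f z') • z') = l + τ l := by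
              simp only [map_add, map_smulₛₗ, LinearMap.add_apply, LinearMap.smul_apply, smul_eq_mul, RingHom.id_apply, h1,
                h2, map_div₀, ← hcomm f z', hB.symm, hz'f, hfz]
              field_simp
              ring
            rw [this, hl]; exact one_ne_zero
          · simp only [map_add, LinearMap.add_apply, map_smulₛₗ, LinearMap.smul_apply, h1, smul_zero, add_zero]
            exact fun h => hz'f ((Herm.eq_zero_comm hB).1 h)
        · exact ⟨f, (Herm.eq_zero_comm hB).1 hyf, h2, fun h => hz'f ((Herm.eq_zero_comm hB).1 h)⟩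
      · exact ⟨z', hz'y, h1, h1⟩
    rcases hO.wide with h3 | hR
    · -- an isotropic vector in the orthogonal of y pairing with z'
      obtain ⟨u, hu, hu0⟩ : ∃ u ∈ LinearMap.ker (b y) ⊓ LinearMap.ker (b e), u ≠ 0 :=
        Submodule.exists_mem_ne_zero_of_ne_bot fun h => by
          have e1 := Unitary.finrank_ker_inf (LinearMap.ker (b y)) (b e)
          have e2 := LinearMap.finrank_range_add_finrank_ker (b y)
          have e3 := Submodule.finrank_le (LinearMap.range (b y))
          rw [finrank_self] at e3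
          rw [h, finrank_bot] at e1
          omega
      obtain ⟨u', hu'⟩ : ∃ u', b u u' ≠ 0 := by
        by_contra! h
        exact hu0 (hB.nondeg u h)
      have huy : b u y = 0 := (Herm.eq_zero_comm hB).1 hu.1
      have hue : b u e = 0 := (Herm.eq_zero_comm hB).1 hu.2
      obtain ⟨r, hr, hrr⟩ := Herm.exists_anisotropic hB (LinearMap.ker (b y) ⊓ LinearMap.ker (b e))
        ⟨u, hu, u' - (b y u' / b y y) • y - (b e u' / b e e) • e, by
          refine ⟨?_, ?_⟩ <;> rw [SetLike.mem_coe, LinearMap.mem_ker]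
          · simp [(Herm.eq_zero_comm hB).1 hey, hyy]
          · simp [hey, hee], by simpa [huy, hue] using hu'⟩
      have hyr : b y r = 0 := hr.1
      have her : b e r = 0 := hr.2
      obtain ⟨α, hα⟩ := Herm.exists_norm hB.toIsInvol (a := -b e e / b r r)
        (by rw [map_div₀, map_neg, Herm.fix_self hB, Herm.fix_self hB])
      have hq : b (α • r) (α • r) = -b e e := by rw [Herm.smul_self hB, hα, div_mul_cancel₀ _ hrr]
      have key : ∀ s : K, s * τ s = 1 → b (e + (s * α) • r) z ≠ 0 →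
          ∃ d ∈ X, ∃ y ∈ C, y ≠ 0 ∧ d y = y ∧ ∃ p ∈ C, ∃ p' ∈ C, B p (d p') ≠ 0 := fun s hs hne => by
        refine viaT (e + (s * α) • r) ?_ y hy hy0 (by simp [hey, (Herm.eq_zero_comm hB).1 hyr]) z hz hne
        rw [Herm.smul_self hB] at hq
        simp only [map_add, map_smulₛₗ, LinearMap.add_apply, LinearMap.smul_apply, smul_eq_mul, RingHom.id_apply, map_mul,
          her, (Herm.eq_zero_comm hB).1 her, mul_zero, add_zero, zero_add]
        linear_combination (τ s * s) * hq - (b e e) * hs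
      obtain ⟨s, hs0, hs1⟩ : ∃ s : K, s * τ s = 1 ∧ s ≠ 1 := by
        obtain ⟨k, hk0, hk⟩ := Herm.exists_skew hB.toIsInvol
        by_contra! h
        obtain ⟨l, hl⟩ := Herm.exists_moved hB.toIsInvol
        have hl0 : τ l ≠ 0 := fun h0 => hl (by rw [h0]; exact ((map_eq_zero τ).1 h0).symm)
        have := h (l / τ l) (by
          rw [map_div₀, hB.invol, div_mul_div_comm, mul_comm (τ l), div_self]
          exact mul_ne_zero ((map_ne_zero τ).1 hl0) hl0)
        rw [div_eq_one_iff_eq hl0] at this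
        exact hl this.symm
      by_cases hne : b (e + (1 * α) • r) z = 0
      · refine key s hs0 fun h => hez ?_
        have hs' : τ s ≠ 1 := fun e => hs1 (by rw [← hB.invol s, e, map_one])
        rw [← hbz e hey]
        simp only [map_add, map_smulₛₗ, LinearMap.add_apply, LinearMap.smul_apply, smul_eq_mul, map_mul, map_one, one_mul] at hne h
        have : (τ s - 1) * b e z = 0 := by linear_combination τ s * hne - h
        exact (mul_eq_zero.1 this).resolve_left (sub_ne_zero.2 hs')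
      · exact key 1 (by simp) hne
    · have hbe : b e z ≠ 0 := by rwa [hbz e hey]
      obtain ⟨a, ha, haN, hatr⟩ := hO.exists_refl hR (q := b e z * b z e / b e e)
        (div_ne_zero (mul_ne_zero hbe fun h => hbe ((Herm.eq_zero_comm hB).1 h)) hee)
      obtain ⟨D, hDi, hDd, hD⟩ := Unitary.exists_preflection hB hee ha
      obtain ⟨d, hd, ed⟩ := hO.le D hDi (by rw [hDd, haN])
      have hdx : ∀ x, d x = x + ((a - 1) * (b e x / b e e)) • e := fun x => (LinearMap.congr_fun ed x).trans (hD x)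
      refine ⟨d, hd, y, hy, hy0, by rw [hdx, hey, zero_div, mul_zero, zero_smul, add_zero], z, hz, z, hz, ?_⟩
      rw [hdx, map_add, hCB z hz z hz, zero_add, ← hO.spec]
      rwa [show (a - 1) * (b e z / b e e) * b z e = (a - 1) * (b e z * b z e / b e e) by ring]
  · push Not at hδ
    obtain ⟨y, hy, hy0⟩ : ∃ y ∈ C, y ≠ 0 := ⟨g v, ⟨v, self_mem_ln v, rfl⟩, g.map_ne_zero_iff.2 hv0⟩
    obtain ⟨z, hz, hzy⟩ := hnl y hy hy0
    have hzero : ∀ p ∈ C, ∀ q ∈ C, b p q = 0 := by
      intro p hp q hq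
      obtain ⟨l, hl⟩ := Herm.exists_moved hO.herm.toIsInvol
      have e1 := hδ _ (C.add_mem hp hq)
      have e2 := hδ _ (C.add_mem hp (C.smul_mem l hq))
      rw [← algebraMap_smul K l q] at e2
      simp only [map_add, map_smulₛₗ, LinearMap.add_apply, LinearMap.smul_apply, smul_eq_mul, RingHom.id_apply, hδ p hp,
        hδ q hq, hO.ext, mul_zero, add_zero, zero_add] at e1 e2
      refine (mul_eq_zero.1 (show (algebraMap F K l - algebraMap F K (σ l)) * b p q = 0 by
        linear_combination e2 - algebraMap F K (σ l) * e1)).resolve_left (sub_ne_zero.2 fun h => hl ?_)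
      exact ((algebraMap F K).injective h).symm
    obtain ⟨w, hw, hzw⟩ := Unitary.exists_perp hB hzy
    have hyw : b y w = 0 := hw y (Submodule.mem_span_singleton_self y)
    obtain ⟨s, hs⟩ := Herm.exists_trace hB.toIsInvol (a := -b w w) (by rw [map_neg, Herm.fix_self hB])
    refine viaT (w + s • z) ?_ y hy hy0 ?_ z hz ?_
    · have hwz : b w z = 1 := by rw [← hB.symm, hzw, map_one]
      simp only [map_add, map_smulₛₗ, LinearMap.add_apply, LinearMap.smul_apply, smul_eq_mul, RingHom.id_apply, hzw, hwz,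
        hδ z hz, mul_zero, mul_one]
      linear_combination hs
    · simp [(Herm.eq_zero_comm hB).1 hyw, hzero z hz y hy]
    · simp only [map_add, map_smulₛₗ, LinearMap.add_apply, LinearMap.smul_apply, hδ z hz, smul_zero, add_zero]
      rw [← hB.symm, hzw, map_one]
      exact one_ne_zero

end Cfsg.Agent.ClassicalMax.ExtField.Unit
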