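import Cfsg.Agent.Classical.HermForm
import Mathlib.FieldTheory.ChevalleyWarning

/-!
A pencil of Hermitian matrices of more members than their size contains a non-trivial singular member.
-/

set_option autoImplicit false
set_option linter.unusedSectionVars false
set_option linter.style.haveILetI false

namespace Cfsg.Agent.ClassicalMax.ExtField.Unit

open Cfsg.Agent.Classical MvPolynomial

variable {F : Type*} [Field F] [Finite F] {σ : F →+* F}

theorem exists_det_zero {w d : ℕ} (hw : 0 < w) (hlt : w < d) (H : Fin d → Matrix (Fin w) (Fin w) F)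
    (hH : ∀ l i j, σ (H l i j) = H l j i) :
    ∃ x : Fin d → F, x ≠ 0 ∧ (∀ l, σ (x l) = x l) ∧ (∑ l, x l • H l).det = 0 := by
  classical
  let F₀ := Herm.fixField σ
  haveI : Fintype F₀ := Fintype.ofFinite F₀
  let M : Matrix (Fin w) (Fin w) (MvPolynomial (Fin d) F) := Matrix.of fun i j => ∑ l, C (H l i j) * X l
  have hM : M.map (MvPolynomial.map σ) = M.transpose := by
    ext i j : 1
    simp [M, map_sum, hH]
  have hfix : MvPolynomial.map σ M.det = M.det := by
    rw [RingHom.map_det, RingHom.mapMatrix_apply, hM, Matrix.det_transpose]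
  obtain ⟨f₀, hf₀⟩ : M.det ∈ Set.range (MvPolynomial.map F₀.subtype) := by
    rw [mem_range_map_iff_coeffs_subset]
    intro a ha
    obtain ⟨s, -, rfl⟩ := mem_coeffs_iff.1 ha
    refine ⟨⟨M.det.coeff s, ?_⟩, rfl⟩
    rw [Herm.mem_fixField, ← coeff_map, hfix]
  have hdeg : f₀.totalDegree ≤ w := by
    have h1 : f₀.totalDegree = M.det.totalDegree := by
      rw [← hf₀, totalDegree, totalDegree, MvPolynomial.support_map_of_injective _ (f := F₀.subtype) F₀.subtype.injective]
    rw [h1, Matrix.det_apply]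
    refine (totalDegree_finsetSum _ _).trans (Finset.sup_le fun s _ => ?_)
    refine (totalDegree_smul_le _ _).trans ((totalDegree_finset_prod _ _).trans ?_)
    refine (Finset.sum_le_sum (g := fun _ => (1 : ℕ)) fun i _ => ?_).trans (by simp)
    show (∑ l, C (H l (s i) i) * X l : MvPolynomial (Fin d) F).totalDegree ≤ 1
    refine (totalDegree_finsetSum _ _).trans (Finset.sup_le fun l _ => ?_)
    refine (totalDegree_mul _ _).trans ?_
    rw [totalDegree_C, totalDegree_X]
  obtain ⟨p, hp⟩ := CharP.exists F₀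
  haveI := Fact.mk (CharP.char_is_prime F₀ p)
  have hdvd := char_dvd_card_solutions p (f := f₀) (by rw [Fintype.card_fin]; omega)
  have heval : ∀ x : Fin d → F₀, ((eval x f₀ : F₀) : F) = (∑ l, (x l : F) • H l).det := fun x => by
    have e1 : ((eval x f₀ : F₀) : F) = eval (fun l => (x l : F)) M.det := by
      rw [← hf₀, eval_map]
      exact eval₂_comp F₀.subtype x f₀
    rw [e1, RingHom.map_det, RingHom.mapMatrix_apply]
    congr 1
    ext i j
    simp [M, map_sum, Matrix.sum_apply, mul_comm]
  have h0 : eval (0 : Fin d → F₀) f₀ = 0 := Subtype.ext (by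
    rw [heval]
    haveI : Nonempty (Fin w) := ⟨⟨0, hw⟩⟩
    simp)
  have hne : 1 < Fintype.card {x : Fin d → F₀ // eval x f₀ = 0} := by
    have h1 : 0 < Fintype.card {x : Fin d → F₀ // eval x f₀ = 0} := Fintype.card_pos_iff.2 ⟨⟨0, h0⟩⟩
    have := (CharP.char_is_prime F₀ p).two_le
    have := Nat.le_of_dvd h1 hdvd
    omega
  obtain ⟨⟨x, hx⟩, hx0⟩ := Fintype.exists_ne_of_one_lt_card hne ⟨0, h0⟩
  refine ⟨fun l => (x l : F), fun h => hx0 (Subtype.ext (funext fun l => Subtype.ext (congrFun h l))), fun l => (x l).2, ?_⟩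
  rw [← heval, hx]; rfl

end Cfsg.Agent.ClassicalMax.ExtField.Unit
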