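import Cfsg.Agent.ClassicalMax.ExtField.UnitBase
import Cfsg.Agent.ClassicalMax.ExtField.UnitDet

/-!
An overgroup of an extension field unitary group outside its normaliser contains an element of rank at most two
in the root group of an isotropic line.
-/

set_option autoImplicit false
set_option linter.unusedSectionVars false
set_option linter.style.haveILetI false

namespace Cfsg.Agent.ClassicalMax.ExtField.Unit

open Module Cfsg.Agent.Classical Cfsg.Agent.ClassicalMax

variable {F K V : Type*} [Field F] [Fintype F] [Field K] [Finite K] [Algebra F K] [AddCommGroup V] [Module F V]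
  [Module K V] [IsScalarTower F K V] [FiniteDimensional F V] {σ : F →+* F} {τ : K →+* K}
  {B : V →ₛₗ[σ] V →ₗ[F] F} {b : V →ₛₗ[τ] V →ₗ[K] K} {X : Subgroup (V ≃ₗ[F] V)}

variable (hO : UnOver B b X)
include hO

/-- a maximal image meeting the line in a hyperplane, and a stabilising transvection acting on it -/
theorem UnOver.exists_core (hsl : ∃ g ∈ X, ∃ (k : K) (x : V), g (k • x) ∉ K ∙ g x) :
    ∃ g ∈ X, ∃ v : V, b v v = 0 ∧ v ≠ 0 ∧ ∃ k : K, τ k = -k ∧
      let C := (ln F K v).map g.toLinearMap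
      let U := ln F K v ⊓ C
      U ≠ ⊥ ∧ finrank F U + 1 = finrank F K ∧ (∀ y ∈ C, (k * b v y) • v ∈ U) ∧ (∃ y ∈ C, k * b v y ≠ 0) ∧
        (∀ y ∈ C, b v y = 0 → y ∈ U) := by
  classical
  haveI := hO.finK
  haveI := hO.finV
  haveI := hO.finiteV
  haveI : Finite (V ≃ₗ[F] V) := Finite.of_injective (fun g => (g : V → V)) DFunLike.coe_injective
  obtain ⟨g₀, hg₀, hne⟩ := hsl
  obtain ⟨v, hv, hv0, c₀, hc₀⟩ := hO.exists_line_moved hne
  obtain ⟨g₁, hg₁, hmeet, hpair⟩ := hO.exists_move_fix hg₀ hv hv0 hc₀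
  set A := ln F K v with hAdef
  let img : (V ≃ₗ[F] V) → Submodule F V := fun g => A.map g.toLinearMap
  have hA : finrank F A = finrank F K := finrank_ln hv0
  let P : Set (V ≃ₗ[F] V) := {g | g ∈ X ∧ A ⊓ img g ≠ ⊥ ∧ ∃ y ∈ A, ∃ z ∈ A, B y (g z) ≠ 0}
  have hg1 : g₁ ∈ P := by
    obtain ⟨y, hy, hy0, hgy⟩ := hmeet
    refine ⟨hg₁, fun h => hy0 (g₁.map_eq_zero_iff.1 ((Submodule.mem_bot F).1 (h ▸ (⟨hgy, y, hy, rfl⟩ : g₁ y ∈ A ⊓ img g₁)))), hpair⟩
  obtain ⟨g, ⟨hgX, hgU, hgB⟩, hmax⟩ := Set.exists_max_image P (fun g => finrank F (A ⊓ img g : Submodule F V)) P.toFinite ⟨_, hg1⟩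
  set C := img g with hCdef
  set U : Submodule F V := A ⊓ C with hUdef
  have hCC : finrank F C = finrank F K := (LinearEquiv.finrank_map_eq g A).trans hA
  have hAA : ∀ p ∈ A, ∀ q ∈ A, B p q = 0 := fun p hp q hq => by
    obtain ⟨c, rfl⟩ := mem_ln.1 hp
    obtain ⟨c', rfl⟩ := mem_ln.1 hq
    exact hO.isotropic hv c c'
  have hCts : ∀ p ∈ C, ∀ q ∈ C, B p q = 0 := by
    rintro _ ⟨p, hp, rfl⟩ _ ⟨q, hq, rfl⟩
    exact (hO.iso g hgX p q).trans (hAA p hp q hq)
  let βF : V →ₗ[F] K := (b v).restrictScalars F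
  have hBv : ∀ (c : K) (y : V), B y (c • v) = Algebra.trace F K (c * τ (b v y)) := fun c y => by
    rw [← hO.spec, ← hO.kherm.symm v y]
  -- the vectors of the line orthogonal to the image
  have hβU : ∀ y ∈ U, b v y = 0 := fun y hy => by
    obtain ⟨c, rfl⟩ := mem_ln.1 hy.1
    rw [map_smul, hv, smul_zero]
  -- the dichotomy
  have hdich : ∀ k, τ k = -k → (∃ p ∈ C, ∃ q ∈ C, B p ((k * b v q) • v) ≠ 0) →
      ∀ y ∈ C, (k * b v y) • v ∈ C → y ∈ U := by
    intro k hk ⟨p, hp, q, hq, hpq⟩ y hy hNy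
    obtain ⟨n, hn, en⟩ := hO.tvK_mem hv hk
    have hnx : ∀ x, n x = x + (k * b v x) • v := fun x => LinearMap.congr_fun en x
    have hnA : ∀ a ∈ A, n a = a := fun a ha => by
      obtain ⟨c, rfl⟩ := mem_ln.1 ha
      rw [hnx, map_smul, hv, smul_zero, mul_zero, zero_smul, add_zero]
    set g' := g⁻¹ * n * g
    have hg' : g' ∈ X := mul_mem (mul_mem (inv_mem hgX) hn) hgX
    have hgg' : ∀ z, g (g' z) = n (g z) := fun z => by
      simp only [g', LinearEquiv.mul_apply, apply_inv]
    have hP : g' ∈ P := by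
      refine ⟨hg', fun h => hgU ((Submodule.eq_bot_iff _).2 fun u hu => ?_), ?_⟩
      · obtain ⟨u₀, hu₀, hue⟩ : u ∈ A.map g.toLinearMap := hu.2
        have e : g' u₀ = u₀ := g.injective (by rw [hgg', show g u₀ = u from hue]; exact hnA u hu.1)
        have h0 : u₀ ∈ A ⊓ img g' := ⟨hu₀, u₀, hu₀, e⟩
        rw [h, Submodule.mem_bot] at h0
        rw [← hue, h0, map_zero]
      · obtain ⟨p₀, hp₀, rfl⟩ := hp
        obtain ⟨q₀, hq₀, rfl⟩ := hq
        refine ⟨p₀, hp₀, q₀, hq₀, ?_⟩
        rw [← hO.iso g hgX, hgg', hnx, map_add, show B (g p₀) (g q₀) = 0 from hCts _ ⟨p₀, hp₀, rfl⟩ _ ⟨q₀, hq₀, rfl⟩, zero_add]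
        exact hpq
    let Q : Submodule F V := C ⊓ C.comap (n.toLinearMap - LinearMap.id)
    have hQ : ∀ z, z ∈ Q ↔ z ∈ C ∧ (k * b v z) • v ∈ C := fun z => by
      simp [Q, hnx]
    have hUQ : U ≤ Q := fun z hz => (hQ z).2 ⟨hz.2, by rw [hβU z hz, mul_zero, zero_smul]; exact zero_mem _⟩
    have hQC : Q ≤ (A ⊓ img g').map g.toLinearMap := fun z hz => by
      obtain ⟨hzC, hzN⟩ := (hQ z).1 hz
      obtain ⟨z₀, hz₀, hze⟩ := C.sub_mem hzC hzN
      obtain ⟨z₁, hz₁, rfl⟩ := hzC
      refine ⟨z₁, ⟨hz₁, z₀, hz₀, g.injective ?_⟩, rfl⟩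
      show g (g' z₀) = g z₁
      rw [hgg', show g z₀ = _ from hze, map_sub, hnA _ (mem_ln.2 ⟨_, rfl⟩), hnx]
      exact add_sub_cancel_right _ _
    have h1 := Submodule.finrank_mono hQC
    rw [LinearEquiv.finrank_map_eq] at h1
    have e := Submodule.eq_of_le_of_finrank_le hUQ (h1.trans (hmax g' hP))
    exact e ▸ (hQ y).2 ⟨hy, hNy⟩
  -- some element is non-degenerate
  obtain ⟨k₁, hk₁, hk₁C⟩ : ∃ k, τ k = -k ∧ ∃ p ∈ C, ∃ q ∈ C, B p ((k * b v q) • v) ≠ 0 := by
    by_contra! h
    obtain ⟨y, hy, z, hz, hne⟩ := hgB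
    obtain ⟨c, rfl⟩ := mem_ln.1 hy
    set z' := g z
    have hz' : z' ∈ C := ⟨z, hz, rfl⟩
    refine hne ?_
    have h0 : b v z' = 0 := by
      have := hO.skew_sep (e := b v z' * τ (b v z')) fun k hk => by
        rw [← mul_assoc, ← hBv]; exact h k hk z' hz' z' hz'
      rcases mul_eq_zero.1 this with h0 | h0
      · exact h0
      · exact (map_eq_zero τ).1 h0
    rw [hO.spec_left, h0, mul_zero, map_zero]
  have hR : ∀ y ∈ C, b v y = 0 → y ∈ U := fun y hy h0 =>
    hdich k₁ hk₁ hk₁C y hy (by rw [h0, mul_zero, zero_smul]; exact zero_mem _)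
  -- dimensions
  have hkerC : C ⊓ LinearMap.ker βF = U :=
    le_antisymm (fun y hy => hR y hy.1 hy.2) fun y hy => Submodule.mem_inf.2 ⟨hy.2, LinearMap.mem_ker.2 (hβU y hy)⟩
  have horthA : ∀ y, y ∈ UnTensor.orth B A ↔ b v y = 0 := fun y => by
    rw [UnTensor.mem_orth]
    refine ⟨fun h => hO.sep fun c => ?_, fun h a ha => ?_⟩
    · have := h _ (mem_ln.2 ⟨τ c, rfl⟩)
      rwa [hO.spec_left, hO.kherm.invol] at this
    · obtain ⟨c, rfl⟩ := mem_ln.1 ha
      rw [hO.spec_left, h, mul_zero, map_zero]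
  have hAC : A ⊓ UnTensor.orth B C = U := by
    symm
    refine Submodule.eq_of_le_of_finrank_le (fun y hy => ⟨hy.1, fun l hl => hCts l hl y hy.2⟩) ?_
    have hle : A ⊓ UnTensor.orth B C ≤ UnTensor.orth B (UnTensor.orth B A ⊔ C) := fun y hy l hl => by
      obtain ⟨p, hp, q, hq, rfl⟩ := Submodule.mem_sup.1 hl
      rw [map_add, LinearMap.add_apply, hy.2 q hq, (Herm.eq_zero_comm hO.herm).1 (hp y hy.1), add_zero]
    have e1 := Submodule.finrank_mono hle
    have e2 := UnTensor.finrank_orth_add hO.herm (UnTensor.orth B A ⊔ C)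
    have e3 := UnTensor.finrank_orth_add hO.herm A
    have e4 := Submodule.finrank_sup_add_finrank_inf_eq (UnTensor.orth B A) C
    rw [show UnTensor.orth B A ⊓ C = U by
      rw [inf_comm, ← hkerC]; ext y; simp [horthA, βF]] at e4
    omega
  set W : Submodule F K := C.map βF with hW
  set w := finrank F W with hwd
  have hwr : w + finrank F U = finrank F K := by
    have h1 := (βF.domRestrict C).finrank_range_add_finrank_ker
    rw [LinearMap.range_domRestrict, LinearMap.ker_domRestrict, ← hW, hCC] at h1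
    have h2 : finrank F (Submodule.comap C.subtype (LinearMap.ker βF)) = finrank F U := by
      rw [← (Submodule.equivMapOfInjective C.subtype C.injective_subtype _).symm.finrank_eq, Submodule.map_comap_subtype, hkerC]
    omega
  have hUr : 0 < finrank F U := Submodule.one_le_finrank_iff.2 hgU
  let t : Fin w → K := fun i => (Module.finBasis F W i : K)
  have htli : LinearIndependent F t := (Module.finBasis F W).linearIndependent.map' W.subtype W.ker_subtype
  have htspan : ∀ x ∈ W, ∃ c : Fin w → F, x = ∑ i, c i • t i := fun x hx =>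
    ⟨fun i => (Module.finBasis F W).repr ⟨x, hx⟩ i, by
      have := congrArg Subtype.val ((Module.finBasis F W).sum_repr ⟨x, hx⟩)
      simp only [Submodule.coe_sum, Submodule.coe_smul] at this
      exact this.symm⟩
  have hty : ∀ i, ∃ y ∈ C, b v y = t i := fun i => by
    obtain ⟨y, hy, e⟩ := Submodule.mem_map.1 (Module.finBasis F W i).2
    exact ⟨y, hy, e⟩
  choose y hyC hyt using hty
  -- the pencil has rank at most w
  let Ψ : K →ₗ[F] Matrix (Fin w) (Fin w) F :=
    { toFun := fun k => Matrix.of fun i j => Algebra.trace F K (k * (τ (t i) * t j))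
      map_add' := fun a b => by ext i j; simp [add_mul]
      map_smul' := fun a b => by ext i j; simp }
  set skew : Set K := {k | τ k = -k}
  have hΨspan : LinearMap.range Ψ = Submodule.span F (Ψ '' skew) := by
    refine le_antisymm ?_ (Submodule.span_le.2 fun _ ⟨k, _, e⟩ => ⟨k, e⟩)
    rintro _ ⟨c, rfl⟩
    obtain ⟨k₁, k₂, s, h₁, h₂, rfl⟩ := hO.skew_span c
    rw [map_add, map_smul]
    exact add_mem (Submodule.subset_span ⟨k₁, h₁, rfl⟩) (Submodule.smul_mem _ _ (Submodule.subset_span ⟨k₂, h₂, rfl⟩))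
  obtain ⟨ε, hε0, hε⟩ := Herm.exists_skew hO.herm.toIsInvol
  have hrank : finrank F (LinearMap.range Ψ) ≤ w := by
    by_contra! hlt
    obtain ⟨T, hTsub, hTspan, hTli⟩ := exists_linearIndependent F (Ψ '' skew)
    rw [hΨspan, ← hTspan] at hlt
    haveI : Finite (Matrix (Fin w) (Fin w) F) := Module.finite_of_finite F
    haveI : Fintype T := Fintype.ofFinite T
    have hcard : finrank F (Submodule.span F T) = Fintype.card T := by
      have := finrank_span_eq_card hTli
      rwa [Subtype.range_coe_subtype, Set.ofPred_mem_eq] at this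
    rw [hcard] at hlt
    let eT := (Fintype.equivFin T).symm
    have hkl : ∀ l, ∃ k ∈ skew, Ψ k = (eT l : Matrix (Fin w) (Fin w) F) := fun l => hTsub (eT l).2
    choose kk hkk hΨk using hkl
    have hw0 : 0 < w := by
      by_contra h0
      obtain ⟨p, hp, q, hq, hpq⟩ := hk₁C
      refine hpq ?_
      have : W = ⊥ := Submodule.finrank_eq_zero.1 (by omega)
      have hq0 : b v q = 0 := (Submodule.eq_bot_iff _).1 this _ ⟨q, hq, rfl⟩
      rw [hq0, mul_zero, zero_smul, map_zero]
    obtain ⟨x, hx0, hxσ, hdet⟩ := exists_det_zero (σ := σ) hw0 hlt (fun l => ε • Ψ (kk l)) fun l i j => by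
      simp only [Matrix.smul_apply, smul_eq_mul, map_mul, hε, Ψ, LinearMap.coe_mk, AddHom.coe_mk, Matrix.of_apply]
      rw [← hO.trace_tau, map_mul τ, show τ (kk l) = -kk l from hkk l, map_mul τ, hO.kherm.invol, neg_mul (kk l), map_neg]
      rw [mul_comm (t i) (τ (t j))]
      ring
    set k' := ∑ l, x l • kk l with hk'
    have hk'skew : τ k' = -k' := by
      rw [hk', map_sum, ← Finset.sum_neg_distrib]
      refine Finset.sum_congr rfl fun l _ => ?_
      rw [Algebra.smul_def, map_mul, hO.ext, hxσ, show τ (kk l) = -kk l from hkk l, mul_neg]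
    have hsum : ∑ l, x l • (ε • Ψ (kk l)) = ε • Ψ k' := by
      simp only [hk', map_sum, map_smul, Finset.smul_sum, smul_comm ε]
    have hne : Ψ k' ≠ 0 := fun h0 => hx0 (funext fun l => by
      refine Fintype.linearIndependent_iff.1 (hTli.comp eT eT.injective) x ?_ l
      rw [← h0, hk', map_sum]
      exact Finset.sum_congr rfl fun l _ => by rw [map_smul, hΨk]; rfl)
    rw [hsum, Matrix.det_smul, mul_eq_zero] at hdet
    have hdet' := hdet.resolve_left (pow_ne_zero _ hε0)
    obtain ⟨cc, hcc, hcc0⟩ := Matrix.exists_mulVec_eq_zero_iff.2 hdet'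
    have hent : ∀ i q, B (y i) ((k' * b v q) • v) = Algebra.trace F K (k' * (τ (t i) * b v q)) := fun i q => by
      rw [hBv, hyt]; congr 1; ring
    obtain ⟨i₀, j₀, hij⟩ : ∃ i j, Ψ k' i j ≠ 0 := by
      by_contra! h; exact hne (Matrix.ext h)
    have hCk' : ∃ p ∈ C, ∃ q ∈ C, B p ((k' * b v q) • v) ≠ 0 :=
      ⟨y i₀, hyC i₀, y j₀, hyC j₀, by rw [hent, hyt]; exact hij⟩
    set y' := ∑ j, cc j • y j with hy'
    have hy'C : y' ∈ C := sum_mem fun j _ => C.smul_mem _ (hyC j)
    have hy't : b v y' = ∑ j, cc j • t j := by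
      show βF y' = _
      rw [hy', map_sum]
      exact Finset.sum_congr rfl fun j _ => by rw [map_smul]; exact congrArg _ (hyt j)
    have hrow : ∀ i, Algebra.trace F K (k' * (τ (t i) * b v y')) = 0 := fun i => by
      have := congrFun hcc0 i
      simp only [Matrix.mulVec, dotProduct, Pi.zero_apply] at this
      rw [hy't, Finset.mul_sum, Finset.mul_sum, map_sum, ← this]
      refine Finset.sum_congr rfl fun j _ => ?_
      rw [mul_smul_comm, mul_smul_comm, map_smul, smul_eq_mul, mul_comm]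
      rfl
    have hperp : (k' * b v y') • v ∈ UnTensor.orth B C := fun p hp => by
      obtain ⟨d, hd⟩ := htspan (b v p) ⟨p, hp, rfl⟩
      rw [hBv, hd, map_sum τ, Finset.mul_sum, map_sum]
      refine Finset.sum_eq_zero fun i _ => ?_
      rw [Algebra.smul_def, map_mul τ, hO.ext, ← mul_assoc, mul_comm (k' * b v y'), mul_assoc, ← Algebra.smul_def, map_smul,
        show k' * b v y' * τ (t i) = k' * (τ (t i) * b v y') by ring, hrow, smul_zero]
    have hmem : (k' * b v y') • v ∈ U := hAC ▸ (⟨mem_ln.2 ⟨_, rfl⟩, hperp⟩ : _ ∈ A ⊓ UnTensor.orth B C)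
    have := hdich k' hk'skew hCk' y' hy'C hmem.2
    have h0 := hβU y' this
    rw [hy't] at h0
    exact hcc (funext (Fintype.linearIndependent_iff.1 htli cc h0))
  -- products span a small space
  set S : Submodule F K := Submodule.span F (Set.range fun p : Fin w × Fin w => τ (t p.1) * t p.2) with hSdef
  have hSdim : finrank F S ≤ w := by
    have hker : LinearMap.ker Ψ ≤ LinearMap.BilinForm.orthogonal (Algebra.traceForm F K) S := fun k hk s hs => by
      induction hs using Submodule.span_induction with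
      | mem s hs =>
        obtain ⟨⟨i, j⟩, rfl⟩ := hs
        rw [Algebra.traceForm_apply, mul_comm]
        exact Matrix.ext_iff.2 (LinearMap.mem_ker.1 hk) i j
      | zero => simp
      | add s s' _ _ h h' => rw [map_add, LinearMap.add_apply, h, h', add_zero]
      | smul a s _ h => rw [map_smul, LinearMap.smul_apply, h, smul_zero]
    have h1 := Submodule.finrank_mono hker
    rw [LinearMap.BilinForm.finrank_orthogonal (traceForm_nondegenerate F K)] at h1
    have h2 := Ψ.finrank_range_add_finrank_ker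
    have h3 := Submodule.finrank_le S
    omega
  have hw1 : w = 1 := by
    rcases Nat.lt_or_ge w 2 with h | h
    · have : 0 < w := by
        rw [hwd]
        refine Submodule.one_le_finrank_iff.2 fun hbot => ?_
        obtain ⟨p, hp, q, hq, hpq⟩ := hk₁C
        have hq0 : b v q = 0 := (Submodule.eq_bot_iff _).1 hbot _ ⟨q, hq, rfl⟩
        exact hpq (by rw [hq0, mul_zero, zero_smul, map_zero])
      omega
    exfalso
    let i0 : Fin w := ⟨0, by omega⟩
    let i1 : Fin w := ⟨1, by omega⟩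
    have h0 : τ (t i0) ≠ 0 := (map_ne_zero τ).2 (htli.ne_zero i0)
    set L0 := W.map (LinearMap.mulLeft F (τ (t i0)))
    have hinW : ∀ j, t j ∈ W := fun j => (Module.finBasis F W j).2
    have hS : ∀ i, W.map (LinearMap.mulLeft F (τ (t i))) ≤ S := fun i => by
      rintro _ ⟨x, hx, rfl⟩
      obtain ⟨d, rfl⟩ := htspan x hx
      rw [LinearMap.mulLeft_apply, Finset.mul_sum]
      refine sum_mem fun j _ => ?_
      rw [mul_smul_comm]
      exact Submodule.smul_mem _ _ (Submodule.subset_span ⟨(i, j), rfl⟩)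
    have hL0 : W.map (LinearMap.mulLeft F (τ (t i0))) = S := Submodule.eq_of_le_of_finrank_le (hS i0) (by
      rw [← (Submodule.equivMapOfInjective _ (mul_right_injective₀ h0) W).finrank_eq]; exact hSdim)
    set c := τ (t i1) / τ (t i0) with hcd
    have hcW : ∀ x ∈ W, x * c ∈ W := fun x hx => by
      obtain ⟨x', hx', e⟩ := (hL0.ge (hS i1 ⟨x, hx, rfl⟩) : _ ∈ W.map (LinearMap.mulLeft F (τ (t i0))))
      rw [LinearMap.mulLeft_apply, LinearMap.mulLeft_apply] at e
      rwa [show x * c = x' from by rw [hcd, mul_div_assoc', div_eq_iff h0]; linear_combination (-1 : K) * e]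
    let Mu : Subalgebra F K :=
      { carrier := {c | ∀ u ∈ W, u * c ∈ W}
        mul_mem' := fun {a b} ha hb u hu => by rw [← mul_assoc]; exact hb _ (ha u hu)
        one_mem' := fun u hu => by rwa [mul_one]
        add_mem' := fun {a b} ha hb u hu => by rw [mul_add]; exact add_mem (ha u hu) (hb u hu)
        zero_mem' := fun u _ => by rw [mul_zero]; exact zero_mem _
        algebraMap_mem' := fun s u hu => by rw [mul_comm, ← Algebra.smul_def]; exact W.smul_mem s hu }
    haveI := Subalgebra.isSimpleOrder_of_finrank_prime F K hO.prime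
    rcases eq_bot_or_eq_top Mu with hM | hM
    · obtain ⟨l, hl⟩ := Algebra.mem_bot.1 (hM ▸ hcW : c ∈ (⊥ : Subalgebra F K))
      have e : t i1 = σ l • t i0 := by
        rw [Algebra.smul_def, ← hO.ext, hl, hcd, map_div₀, hO.kherm.invol, hO.kherm.invol,
          div_mul_cancel₀ _ (htli.ne_zero i0)]
      have := Fintype.linearIndependent_iff.1 htli (fun j => if j = i1 then 1 else if j = i0 then -σ l else 0) (by
        rw [Fintype.sum_eq_add i1 i0 (by simp [i0, i1]) (fun j hj => by simp [hj.1, hj.2])]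
        simp [i0, i1, e]) i1
      simp at this
    · have : W = ⊤ := eq_top_iff.2 fun z _ => by
        have hz : (t i0)⁻¹ * z ∈ Mu := hM ▸ Algebra.mem_top
        have := hz (t i0) (hinW i0)
        rwa [← mul_assoc, mul_inv_cancel₀ (htli.ne_zero i0), one_mul] at this
      rw [hwd, this, finrank_top] at hwr
      omega
  -- a skew element orthogonal to the product
  let i0 : Fin w := ⟨0, by omega⟩
  set e0 := t i0 * τ (t i0) with he0
  obtain ⟨k, hk0, hk, hke⟩ : ∃ k : K, k ≠ 0 ∧ τ k = -k ∧ Algebra.trace F K (k * e0) = 0 := by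
    by_contra! hnone
    obtain ⟨s, hs0, hs⟩ := Herm.exists_skew hO.kherm.toIsInvol
    let f : Herm.fixField τ → Herm.fixField σ := fun a => ⟨ε * Algebra.trace F K (s * (a : K) * e0), by
      rw [Herm.mem_fixField, map_mul, hε, ← hO.trace_tau, map_mul τ, map_mul τ, hs, show τ (a : K) = a from a.2, he0, map_mul τ,
        hO.kherm.invol, mul_comm (τ (t i0)), neg_mul, neg_mul, neg_mul, map_neg, mul_neg, neg_neg]⟩
    have hinj : Function.Injective f := fun a a' h => by
      by_contra hne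
      refine hnone (s * ((a : K) - a')) (mul_ne_zero hs0 (sub_ne_zero.2 fun e => hne (Subtype.ext e))) ?_ ?_
      · rw [map_mul, map_sub, hs, show τ (a : K) = a from a.2, show τ (a' : K) = a' from a'.2, neg_mul]
      · have := mul_left_cancel₀ hε0 (congrArg Subtype.val h)
        rw [mul_sub, sub_mul, map_sub, this, sub_self]
    have h1 := Nat.pow_le_pow_left (Nat.card_le_card_of_injective f hinj) 2
    rw [← Herm.card_eq_fix_sq hO.kherm.toIsInvol, ← Herm.card_eq_fix_sq hO.herm.toIsInvol,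
      Module.natCard_eq_pow_finrank (K := F) (V := K)] at h1
    have h2 : Nat.card F < Nat.card F ^ finrank F K := by
      refine lt_self_pow₀ ?_ (by have := hO.three; omega)
      exact Finite.one_lt_card
    omega
  refine ⟨g, hgX, v, hv, hv0, k, hk, hgU, ?_, fun q hq => ?_, ⟨y i0, hyC i0, ?_⟩, hR⟩
  · show finrank F U + 1 = finrank F K
    omega
  · show (k * b v q) • v ∈ U
    rw [← hAC]
    refine ⟨mem_ln.2 ⟨_, rfl⟩, fun p hp => ?_⟩
    have hone : ∀ x ∈ W, ∃ a : F, x = a • t i0 := fun x hx => by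
      obtain ⟨d, hd⟩ := htspan x hx
      exact ⟨d i0, by rw [hd, Finset.sum_eq_single i0 (fun j _ hj => absurd (Fin.ext (by have := j.2; simp [i0]; omega)) hj)
        (by simp)]⟩
    obtain ⟨a, ha⟩ := hone _ ⟨p, hp, rfl⟩
    obtain ⟨a', ha'⟩ := hone _ ⟨q, hq, rfl⟩
    rw [hBv, show b v p = a • t i0 from ha, show b v q = a' • t i0 from ha', Algebra.smul_def a, map_mul τ, hO.ext,
      ← Algebra.smul_def, mul_smul_comm, mul_smul_comm, smul_mul_assoc, map_smul, map_smul,
      show k * t i0 * τ (t i0) = k * e0 by rw [he0]; ring, hke, smul_zero, smul_zero]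
  · rw [hyt]; exact mul_ne_zero hk0 (htli.ne_zero i0)

end Cfsg.Agent.ClassicalMax.ExtField.Unit
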