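import Cfsg.Agent.ClassicalMax.ExtField.UnitField

/-!
Twisted second degree equations over the base field, and sets of pairs stable under pairs of multipliers.
-/

set_option autoImplicit false
set_option linter.unusedSectionVars false
set_option linter.style.haveILetI false

namespace Cfsg.Agent.ClassicalMax.ExtField.Unit

open Module Cfsg.Agent.Classical

variable {F K : Type*} [Field F] [Fintype F] [Field K] [Finite K] [Algebra F K] {τ : K →+* K}

/-- the solutions of a twisted equation of degree two form a space of dimension at most two -/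
theorem kernel_le_two [FiniteDimensional F K] (ψ : Gal(K/F)) (hψ : ∀ y, ψ y = y → ∃ t, algebraMap F K t = y) {a b c : K}
    (ha : a ≠ 0) (hc : c ≠ 0) (W : Submodule F K) (hW : ∀ t ∈ W, a * t + b * ψ t + c * ψ (ψ t) = 0) :
    finrank F W ≤ 2 := by
  rcases eq_or_ne W ⊥ with rfl | hne
  · rw [finrank_bot]; omega
  obtain ⟨w, hw, hw0⟩ := Submodule.exists_mem_ne_zero_of_ne_bot hne
  let f : K →ₗ[F] K := (ψ.toLinearMap - LinearMap.id).comp (LinearMap.mulLeft F w⁻¹)
  have hf : ∀ t, f t = ψ (w⁻¹ * t) - w⁻¹ * t := fun t => rfl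
  have himg : ∀ t ∈ W, -(a * w) * f t + c * ψ (ψ w) * ψ (f t) = 0 := fun t ht => by
    set s := w⁻¹ * t with hs
    have et : t = w * s := by rw [hs, mul_inv_cancel_left₀ hw0]
    have h1 := hW t ht
    rw [hf, ← hs, map_sub]
    clear_value s
    subst et
    rw [map_mul, map_mul] at h1
    linear_combination h1 - ψ s * hW w hw
  have hker : LinearMap.ker (f.domRestrict W) ≤ Submodule.span F {(⟨w, hw⟩ : W)} := by
    rintro ⟨t, ht⟩ h0
    rw [LinearMap.mem_ker, LinearMap.domRestrict_apply, hf, sub_eq_zero] at h0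
    obtain ⟨x, hx⟩ := hψ _ h0
    refine Submodule.mem_span_singleton.2 ⟨x, Subtype.ext ?_⟩
    show x • w = t
    rw [Algebra.smul_def, hx, mul_comm, mul_inv_cancel_left₀ hw0]
  have h1 := (f.domRestrict W).finrank_range_add_finrank_ker
  have h2 := (Submodule.finrank_mono hker).trans (finrank_span_le_card _)
  rw [Set.toFinset_singleton, Finset.card_singleton] at h2
  have h3 : finrank F (LinearMap.range (f.domRestrict W)) ≤ 1 := by
    by_cases hz : LinearMap.range (f.domRestrict W) = ⊥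
    · rw [hz, finrank_bot]; omega
    obtain ⟨u, ⟨⟨t₀, ht₀⟩, hu⟩, hu0⟩ := Submodule.exists_mem_ne_zero_of_ne_bot hz
    have hle : LinearMap.range (f.domRestrict W) ≤ F ∙ u := by
      rintro _ ⟨⟨t, ht⟩, rfl⟩
      have e1 := himg t₀ ht₀
      have e2 := himg t ht
      rw [show f t₀ = u from hu] at e1
      have hψu : ψ u ≠ 0 := (map_ne_zero ψ).2 hu0
      have hC : c * ψ (ψ w) ≠ 0 := mul_ne_zero hc ((map_ne_zero ψ).2 ((map_ne_zero ψ).2 hw0))
      have hfix : ψ (f t / u) = f t / u := by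
        rw [map_div₀, div_eq_div_iff hψu hu0]
        refine mul_left_cancel₀ hC ?_
        linear_combination u * e2 - f t * e1
      obtain ⟨x, hx⟩ := hψ _ hfix
      refine Submodule.mem_span_singleton.2 ⟨x, ?_⟩
      show x • u = f t
      rw [Algebra.smul_def, hx, div_mul_cancel₀ _ hu0]
    have := (Submodule.finrank_mono hle).trans (finrank_span_le_card _)
    rwa [Set.toFinset_singleton, Finset.card_singleton] at this
  omega

variable (hτ : Herm.IsInvol τ) (φ : K →+* K) (hτφ : ∀ a, τ (φ a) = φ (τ a))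
include hτ hτφ

/-- an additive group stable under the multipliers is everything -/
theorem mult_full (hφ2 : ∃ a, τ a = a ∧ φ (φ a) ≠ a) {Q : Set K} (hadd : ∀ x y, x ∈ Q → y ∈ Q → x + y ∈ Q)
    (hneg : ∀ x ∈ Q, -x ∈ Q) (hzero : (0 : K) ∈ Q) (hne : ∃ x ∈ Q, x ≠ 0)
    (h0 : ∀ a, τ a = a → ∀ x ∈ Q, a * φ a * x ∈ Q) (h1 : ∃ p, τ p ≠ p ∧ ∀ x ∈ Q, p * x ∈ Q) : ∀ x, x ∈ Q := by
  let S : Subring K :=
    { carrier := {p | ∀ x ∈ Q, p * x ∈ Q}
      mul_mem' := fun {p p'} hp hp' x hx => by rw [mul_assoc]; exact hp _ (hp' x hx)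
      one_mem' := fun x hx => by rwa [one_mul]
      add_mem' := fun {p p'} hp hp' x hx => by rw [add_mul]; exact hadd _ _ (hp x hx) (hp' x hx)
      zero_mem' := fun x _ => by rw [zero_mul]; exact hzero
      neg_mem' := fun {p} hp x hx => by rw [neg_mul]; exact hneg _ (hp x hx) }
  obtain ⟨p, hp, hpQ⟩ := h1
  have hS := subring_top hτ φ hτφ hφ2 S h0 ⟨p, hpQ, hp⟩
  obtain ⟨x₀, hx₀, hx0⟩ := hne
  intro x
  have := hS (x / x₀) x₀ hx₀
  rwa [div_mul_cancel₀ _ hx0] at this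

/-- an additive group of pairs with full support stable under the pairs of multipliers is everything -/
theorem pair_full (hφ1 : ∃ a, τ a = a ∧ φ a ≠ a) (hφ2 : ∃ a, τ a = a ∧ φ (φ a) ≠ a)
    (hφ3 : ∃ a, τ a = a ∧ φ (φ (φ a)) ≠ a) (hφ4 : ∃ a, τ a = a ∧ φ (φ (φ (φ a))) ≠ a) (P : AddSubgroup (K × K))
    (h0 : ∀ a, τ a = a → ∀ z ∈ P, (a * φ a * z.1, a * φ (φ a) * z.2) ∈ P)
    {p q : K} (hp : τ p ≠ p) (hq : τ q ≠ q) (hpq : ∀ z ∈ P, (p * z.1, q * z.2) ∈ P)
    {x₀ y₀ : K} (hP : (x₀, y₀) ∈ P) (hx₀ : x₀ ≠ 0) (hy₀ : y₀ ≠ 0) : ∀ x y, (x, y) ∈ P := by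
  let R : Subring (K × K) :=
    { carrier := {s | ∀ z ∈ P, s * z ∈ P}
      mul_mem' := fun {s t} hs ht z hz => by rw [mul_assoc]; exact hs _ (ht z hz)
      one_mem' := fun z hz => by rwa [one_mul]
      add_mem' := fun {s t} hs ht z hz => by rw [add_mul]; exact P.add_mem (hs z hz) (ht z hz)
      zero_mem' := fun z _ => by rw [zero_mul]; exact P.zero_mem
      neg_mem' := fun {s} hs z hz => by rw [neg_mul]; exact P.neg_mem (hs z hz) }
  have hR0 : ∀ a, τ a = a → ((a * φ a, a * φ (φ a)) : K × K) ∈ R := fun a ha z hz => h0 a ha z hz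
  have hR1 : ((p, q) : K × K) ∈ R := hpq
  have hone : (∀ x, (x, 0) ∈ P) ∨ ∀ y, (0, y) ∈ P := by
    by_cases hex : (∃ x, x ≠ 0 ∧ (x, 0) ∈ P) ∨ ∃ y, y ≠ 0 ∧ (0, y) ∈ P
    · rcases hex with ⟨x, hx, hxP⟩ | ⟨y, hy, hyP⟩
      · refine Or.inl fun x' => mult_full hτ φ hτφ hφ2 (Q := {x | (x, 0) ∈ P}) (fun a b ha hb => ?_) (fun a ha => ?_)
          P.zero_mem ⟨x, hxP, hx⟩ (fun a ha z hz => ?_) ⟨p, hp, fun z hz => ?_⟩ x'
        · simpa using P.add_mem ha hb
        · simpa using P.neg_mem ha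
        · simpa using h0 a ha _ hz
        · simpa using hpq _ hz
      · refine Or.inr fun y' => mult_full hτ (φ.comp φ) (fun a => by simp [hτφ]) ?_ (Q := {y | (0, y) ∈ P})
          (fun a b ha hb => ?_) (fun a ha => ?_) P.zero_mem ⟨y, hyP, hy⟩ (fun a ha z hz => ?_) ⟨q, hq, fun z hz => ?_⟩ y'
        · obtain ⟨a, ha, hne⟩ := hφ4
          exact ⟨a, ha, hne⟩
        · simpa using P.add_mem ha hb
        · simpa using P.neg_mem ha
        · simpa using h0 a ha _ hz
        · simpa using hpq _ hz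
    · push Not at hex
      obtain ⟨hx', hy'⟩ := hex
      have huniq : ∀ s t t', (s, t) ∈ R → (s, t') ∈ R → t = t' := fun s t t' h h' => by
        have h2 := P.sub_mem (h _ hP) (h' _ hP)
        simp only [Prod.mk_mul_mk, Prod.mk_sub_mk, sub_self, ← sub_mul] at h2
        by_contra hne
        exact hy' _ (mul_ne_zero (sub_ne_zero.2 hne) hy₀) h2
      have hall := subring_top hτ φ hτφ hφ2 (R.map (RingHom.fst K K))
        (fun a ha => ⟨_, hR0 a ha, rfl⟩) ⟨p, ⟨_, hR1, rfl⟩, hp⟩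
      have hex' : ∀ s, ∃ t, (s, t) ∈ R := fun s => by
        obtain ⟨⟨s', t⟩, h, rfl⟩ := hall s
        exact ⟨t, h⟩
      choose θ hθ using hex'
      let Θ : K →+* K :=
        { toFun := θ
          map_one' := huniq 1 _ _ (hθ 1) R.one_mem
          map_mul' := fun s t => huniq (s * t) _ _ (hθ _) (by simpa using R.mul_mem (hθ s) (hθ t))
          map_zero' := huniq 0 _ _ (hθ 0) R.zero_mem
          map_add' := fun s t => huniq (s + t) _ _ (hθ _) (by simpa using R.add_mem (hθ s) (hθ t)) }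
      obtain ⟨a, ha, hne⟩ := no_graph φ hτφ hφ1 hφ3 Θ
      exact absurd (huniq _ _ _ (hθ _) (hR0 a ha)) hne
  intro x y
  rcases hone with h | h
  · have hy1 : (0, y₀) ∈ P := by simpa using P.sub_mem hP (h x₀)
    have hY := mult_full hτ (φ.comp φ) (fun a => by simp [hτφ]) ?_ (Q := {y | (0, y) ∈ P}) (fun a b ha hb => ?_) (fun a ha => ?_)
      P.zero_mem ⟨y₀, hy1, hy₀⟩ (fun a ha z hz => ?_) ⟨q, hq, fun z hz => ?_⟩ y
    · simpa using P.add_mem (h x) hY
    · obtain ⟨a, ha, hne⟩ := hφ4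
      exact ⟨a, ha, hne⟩
    · simpa using P.add_mem ha hb
    · simpa using P.neg_mem ha
    · simpa using h0 a ha _ hz
    · simpa using hpq _ hz
  · have hx1 : (x₀, 0) ∈ P := by simpa using P.sub_mem hP (h y₀)
    have hX := mult_full hτ φ hτφ hφ2 (Q := {x | (x, 0) ∈ P}) (fun a b ha hb => ?_) (fun a ha => ?_)
      P.zero_mem ⟨x₀, hx1, hx₀⟩ (fun a ha z hz => ?_) ⟨p, hp, fun z hz => ?_⟩ x
    · simpa using P.add_mem hX (h y)
    · simpa using P.add_mem ha hb
    · simpa using P.neg_mem ha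
    · simpa using h0 a ha _ hz
    · simpa using hpq _ hz

end Cfsg.Agent.ClassicalMax.ExtField.Unit
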