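import Cfsg.Agent.ClassicalMax.ExtField.UnitRank
import Cfsg.Agent.ClassicalMax.ExtField.UnitPairs
import Cfsg.Agent.UnitDec.Basic

/-!
An overgroup of an extension field unitary group outside its normaliser contains every transvection of the form
over the base field.
-/

set_option autoImplicit false
set_option linter.unusedSectionVars false
set_option linter.style.haveILetI false

namespace Cfsg.Agent.ClassicalMax.ExtField.Unit

open Module Cfsg.Agent.Classical Cfsg.Agent.ClassicalMax

variable {F K V : Type*} [Field F] [Fintype F] [Field K] [Finite K] [Algebra F K] [AddCommGroup V] [Module F V]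
  [Module K V] [IsScalarTower F K V] [FiniteDimensional F V] {σ : F →+* F} {τ : K →+* K}
  {B : V →ₛₗ[σ] V →ₗ[F] F} {b : V →ₛₗ[τ] V →ₗ[K] K} {X : Subgroup (V ≃ₗ[F] V)}

/-- the additive group of root operators at a vector -/
def InRoot (X : Subgroup (V ≃ₗ[F] V)) (b : V →ₛₗ[τ] V →ₗ[K] K) (v : V) (T : K →ₗ[F] K) : Prop :=
  InX X (1 + op (b v) T v)

omit [Fintype F] [Finite K] [FiniteDimensional F V] in
theorem InRoot.add {v : V} (hv : b v v = 0) {T T' : K →ₗ[F] K} (h : InRoot X b v T) (h' : InRoot X b v T') :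
    InRoot X b v (T + T') := by
  have := InX.mul h h'
  rwa [root_mul hv] at this

omit [Fintype F] [Finite K] [FiniteDimensional F V] in
theorem InRoot.zero (v : V) : InRoot X b v 0 := by
  show InX X _
  rw [show op (b v) (0 : K →ₗ[F] K) v = 0 from LinearMap.ext fun x => by simp, add_zero]
  exact InX.one X

omit [Fintype F] [Finite K] [FiniteDimensional F V] in
theorem InRoot.neg {v : V} (hv : b v v = 0) {T : K →ₗ[F] K} (h : InRoot X b v T) : InRoot X b v (-T) := by
  refine InX.inv h ?_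
  rw [root_mul hv, add_neg_cancel, show op (b v) (0 : K →ₗ[F] K) v = 0 from LinearMap.ext fun x => by simp, add_zero]

omit [Fintype F] [Finite K] [FiniteDimensional F V] in
theorem InRoot.sub {v : V} (hv : b v v = 0) {T T' : K →ₗ[F] K} (h : InRoot X b v T) (h' : InRoot X b v T') :
    InRoot X b v (T - T') := sub_eq_add_neg T T' ▸ h.add hv (h'.neg hv)

/-- the paired components -/
noncomputable def pairOp (τ : K →+* K) (i j : ℕ) (κ : K) : K →ₗ[F] K :=
  LinearMap.mulLeft F κ ∘ₗ (fr F K ^ i).toLinearMap - LinearMap.mulLeft F ((fr F K ^ j) (τ κ)) ∘ₗ (fr F K ^ j).toLinearMap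

theorem pairOp_apply (i j : ℕ) (κ t : K) :
    pairOp (F := F) τ i j κ t = κ * (fr F K ^ i) t - (fr F K ^ j) (τ κ) * (fr F K ^ j) t := rfl

theorem pairOp_add (i j : ℕ) (κ κ' : K) : pairOp (F := F) τ i j (κ + κ') = pairOp τ i j κ + pairOp τ i j κ' :=
  LinearMap.ext fun t => by simp [pairOp_apply]; ring

/-- the coefficients of a combination of distinct powers of the Frobenius -/
theorem coef_zero [FiniteDimensional F K] (c : Fin (finrank F K) → K)
    (h : ∀ u, ∑ i : Fin (finrank F K), c i * (fr F K ^ (i : ℕ)) u = 0) : ∀ i, c i = 0 := by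
  have hinj : Function.Injective fun i : Fin (finrank F K) => ((fr F K ^ (i : ℕ) : Gal(K/F)) : K →ₐ[F] K) := by
    intro i j e
    have e' : fr F K ^ (i : ℕ) = fr F K ^ (j : ℕ) := AlgEquiv.ext fun x => DFunLike.congr_fun e x
    refine Fin.ext (pow_injOn_Iio_orderOf ?_ ?_ e') <;>
      · rw [fr, FiniteField.orderOf_frobeniusAlgEquivOfAlgebraic]; first | exact i.2 | exact j.2
  have hli := (linearIndependent_toLinearMap F K K).comp _ hinj
  exact Fintype.linearIndependent_iff.1 hli c (LinearMap.ext fun u => by simpa using h u)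

/-- every endomorphism over the base field is such a combination -/
theorem coef_exists [FiniteDimensional F K] (T : K →ₗ[F] K) :
    ∃ c : Fin (finrank F K) → K, ∀ u, T u = ∑ i : Fin (finrank F K), c i * (fr F K ^ (i : ℕ)) u := by
  have hinj : Function.Injective fun i : Fin (finrank F K) => ((fr F K ^ (i : ℕ) : Gal(K/F)) : K →ₐ[F] K) := by
    intro i j e
    have e' : fr F K ^ (i : ℕ) = fr F K ^ (j : ℕ) := AlgEquiv.ext fun x => DFunLike.congr_fun e x
    refine Fin.ext (pow_injOn_Iio_orderOf ?_ ?_ e') <;>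
      · rw [fr, FiniteField.orderOf_frobeniusAlgEquivOfAlgebraic]; first | exact i.2 | exact j.2
  have hli := (linearIndependent_toLinearMap F K K).comp _ hinj
  have hne : Nonempty (Fin (finrank F K)) := ⟨⟨0, Module.finrank_pos⟩⟩
  have hspan := hli.span_eq_top_of_card_eq_finrank (by rw [Fintype.card_fin, Module.finrank_linearMap_self])
  obtain ⟨c, hc⟩ := (Submodule.mem_span_range_iff_exists_fun K).1 (hspan ▸ Submodule.mem_top : T ∈ _)
  exact ⟨c, fun u => by rw [← hc]; simp⟩

/-- the trace is invariant under powers of the Frobenius -/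
theorem trace_fr (i : ℕ) (x : K) : Algebra.trace F K ((fr F K ^ i) x) = Algebra.trace F K x :=
  Algebra.trace_eq_of_algEquiv _ x

omit [FiniteDimensional F V] in
theorem norm_quot [FiniteDimensional F K] (hext : ∀ t, τ (algebraMap F K t) = algebraMap F K (σ t)) {a : K} (ha0 : a ≠ 0)
    (ha : Algebra.norm F a = 1) : Algebra.norm F (a / τ a) = 1 := by
  have hNτ : Algebra.norm F (τ a) = 1 := by
    refine (algebraMap F K).injective ?_
    have h1 : algebraMap F K (Algebra.norm F (τ a)) = τ (algebraMap F K (Algebra.norm F a)) := by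
      rw [FiniteField.algebraMap_norm_eq_prod_pow, FiniteField.algebraMap_norm_eq_prod_pow, map_prod]
      exact Finset.prod_congr rfl fun i _ => (map_pow τ a _).symm
    rw [h1, ha, map_one, map_one]
  refine mul_right_cancel₀ (Algebra.norm_ne_zero_iff.2 ((map_ne_zero τ).2 ha0) : Algebra.norm F (τ a) ≠ 0) ?_
  rw [← map_mul, div_mul_cancel₀ _ ((map_ne_zero τ).2 ha0), one_mul, ha, hNτ]

variable (hO : UnOver B b X)
include hO

/-- an isotropic partner -/
theorem UnOver.partner {v : V} (hv : b v v = 0) (hv0 : v ≠ 0) : ∃ f, b f f = 0 ∧ b v f = 1 := by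
  haveI := hO.finV
  obtain ⟨x, hx⟩ : ∃ x, b v x ≠ 0 := by by_contra! h; exact hv0 (hO.kherm.nondeg v h)
  set y := (b v x)⁻¹ • x
  have hy : b v y = 1 := by rw [map_smul, smul_eq_mul, inv_mul_cancel₀ hx]
  obtain ⟨c, hc⟩ := Herm.exists_trace hO.kherm.toIsInvol (a := -b y y) (by rw [map_neg, Herm.fix_self hO.kherm])
  have hy' : b y v = 1 := by rw [← hO.kherm.symm v y, hy, map_one]
  refine ⟨y + c • v, ?_, by rw [map_add, hy, map_smul, hv, smul_zero, add_zero]⟩
  simp only [map_add, map_smulₛₗ, LinearMap.add_apply, LinearMap.smul_apply, smul_eq_mul, RingHom.id_apply, hv, hy, hy', mul_zero,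
    mul_one, add_zero]
  linear_combination hc

/-- isometries linear over the extension scale the root group -/
theorem UnOver.torus {v : V} (hv : b v v = 0) (hv0 : v ≠ 0) {a : K} (ha0 : a ≠ 0)
    (ha : τ a = a ∨ Algebra.norm F (a / τ a) = 1 ∨ 3 ≤ finrank K V) {T : K →ₗ[F] K} (hT : InRoot X b v T) :
    InRoot X b v (LinearMap.mulLeft F a ∘ₗ T ∘ₗ LinearMap.mulLeft F (τ a)) := by
  haveI := hO.finK
  haveI := hO.finV
  have hB := hO.kherm
  obtain ⟨f, hf, hvf⟩ := hO.partner hv hv0
  have hfv : b f v = 1 := by rw [← hB.symm v f, hvf, map_one]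
  have hτa : τ a ≠ 0 := (map_ne_zero τ).2 ha0
  let L : V →ₗ[K] V := LinearMap.transvection ((a - 1) • b f) v ∘ₗ LinearMap.transvection (((τ a)⁻¹ - 1) • b v) f
  have hL : ∀ x, L x = x + ((a - 1) * b f x) • v + (((τ a)⁻¹ - 1) * b v x) • f := fun x => by
    simp only [L, LinearMap.comp_apply, LinearMap.transvection.apply, LinearMap.smul_apply, map_add, map_smul, hf,
      smul_eq_mul, mul_zero, add_zero, zero_smul, add_assoc, add_comm]
  have hdet : LinearMap.det L = a / τ a := by
    simp only [L, LinearMap.det_comp, LinearMap.transvection.det, LinearMap.smul_apply, hfv, hvf, smul_eq_mul, mul_one]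
    rw [div_eq_mul_inv]; ring
  have hunit : IsUnit (LinearMap.det L) := by rw [hdet]; exact isUnit_iff_ne_zero.2 (div_ne_zero ha0 hτa)
  let D := LinearMap.equivOfIsUnitDet hunit
  have hD : ∀ x, D x = x + ((a - 1) * b f x) • v + (((τ a)⁻¹ - 1) * b v x) • f := fun x => by
    rw [LinearMap.equivOfIsUnitDet_apply]; exact hL x
  have hDi : ∀ x y, b (D x) (D y) = b x y := fun x y => by
    rw [hD, hD]
    simp only [map_add, map_smulₛₗ, LinearMap.add_apply, LinearMap.smul_apply, smul_eq_mul, map_mul, RingHom.id_apply, hB.symm,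
      hv, hf, hvf, hfv, map_sub, map_one, map_inv₀, hB.invol]
    field_simp
    ring
  have hDv : D v = a • v := by
    rw [hD, hv, hfv, mul_zero, zero_smul, add_zero, mul_one, ← add_sub_cancel 1 a, add_smul, one_smul, add_sub_cancel]
  have hDd : LinearMap.det D.toLinearMap = a / τ a := by rw [LinearMap.coe_equivOfIsUnitDet]; exact hdet
  obtain ⟨E, hEi, hEv, hEn⟩ : ∃ E : V ≃ₗ[K] V, (∀ x y, b (E x) (E y) = b x y) ∧ E v = v ∧
      Algebra.norm F (LinearMap.det E.toLinearMap * (a / τ a)) = 1 := by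
    rcases ha with ha | ha | ha
    · exact ⟨1, fun _ _ => rfl, rfl, by
        rw [ha, div_self ha0, mul_one, show LinearMap.det (1 : V ≃ₗ[K] V).toLinearMap = 1 from LinearMap.det_id, map_one]⟩
    · refine ⟨1, fun _ _ => rfl, rfl, ?_⟩
      rw [show LinearMap.det (1 : V ≃ₗ[K] V).toLinearMap = 1 from LinearMap.det_id, one_mul]
      exact ha
    · obtain ⟨u, hu, hu0⟩ : ∃ u ∈ LinearMap.ker (b v) ⊓ LinearMap.ker (b f), u ≠ 0 :=
        Submodule.exists_mem_ne_zero_of_ne_bot fun h => by
          have e1 := Unitary.finrank_ker_inf (LinearMap.ker (b v)) (b f)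
          have e2 := LinearMap.finrank_range_add_finrank_ker (b v)
          have e3 := Submodule.finrank_le (LinearMap.range (b v))
          rw [finrank_self] at e3
          rw [h, finrank_bot] at e1
          omega
      have huv : b u v = 0 := (Herm.eq_zero_comm hB).1 hu.1
      have huf : b u f = 0 := (Herm.eq_zero_comm hB).1 hu.2
      obtain ⟨u', hu'⟩ : ∃ u', b u u' ≠ 0 := by
        by_contra! h
        exact hu0 (hB.nondeg u h)
      obtain ⟨e, he, hee⟩ := Herm.exists_anisotropic hB (LinearMap.ker (b v) ⊓ LinearMap.ker (b f))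
        ⟨u, hu, u' - (b f u') • v - (b v u') • f, by
          refine ⟨?_, ?_⟩ <;> rw [SetLike.mem_coe, LinearMap.mem_ker]
          · simp [hv, hvf]
          · simp [hf, hfv], by simpa [huv, huf] using hu'⟩
      obtain ⟨E, hEi, hEd, hE⟩ := Unitary.exists_preflection hB hee (δ := τ a / a) (by
        rw [map_div₀, hB.invol, div_mul_div_comm, mul_comm (τ a), div_self (mul_ne_zero ha0 hτa)])
      refine ⟨E, hEi, ?_, ?_⟩
      · rw [hE, show b e v = 0 from (Herm.eq_zero_comm hB).1 he.1, zero_div, mul_zero, zero_smul, add_zero]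
      · rw [hEd, div_mul_div_comm, mul_comm (τ a), div_self (mul_ne_zero ha0 hτa), map_one]
  obtain ⟨d, hd, hde⟩ := hO.le (E * D) (fun x y => by rw [LinearEquiv.mul_apply, LinearEquiv.mul_apply, hEi, hDi]) (by
    rw [show (E * D).toLinearMap = E.toLinearMap ∘ₗ D.toLinearMap from rfl, LinearMap.det_comp, hDd]; exact hEn)
  have hdx : ∀ x, d x = E (D x) := fun x => LinearMap.congr_fun hde x
  obtain ⟨n, hn, en⟩ := hT
  refine ⟨d * n * d⁻¹, mul_mem (mul_mem hd hn) (inv_mem hd), LinearMap.ext fun x => ?_⟩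
  have e1 : b v (d⁻¹ x) = τ a * b v x := by
    have h1 : b (d v) (d (d⁻¹ x)) = b v (d⁻¹ x) := by rw [hdx, hdx, hEi, hDi]
    rw [apply_inv, hdx, hDv, map_smul, hEv, map_smulₛₗ, LinearMap.smul_apply, smul_eq_mul] at h1
    exact h1.symm
  show d (n (d⁻¹ x)) = x + (a * T (τ a * b v x)) • v
  rw [show n (d⁻¹ x) = d⁻¹ x + T (b v (d⁻¹ x)) • v from LinearMap.congr_fun en _, map_add, apply_inv, e1, hdx, map_smul,
    map_smul, hDv, map_smul, hEv, smul_smul, mul_comm a]

/-- scaling of the paired components -/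
theorem UnOver.torus_pair (i j : ℕ) (hij : fr F K ^ (j + i) = 1) (a κ : K) :
    LinearMap.mulLeft F a ∘ₗ pairOp (F := F) τ i j κ ∘ₗ LinearMap.mulLeft F (τ a) =
      pairOp τ i j (a * (fr F K ^ i) (τ a) * κ) := by
  refine LinearMap.ext fun t => ?_
  have e : ∀ y, (fr F K ^ j) ((fr F K ^ i) y) = y := fun y => by
    rw [← AlgEquiv.mul_apply, ← pow_add, hij, AlgEquiv.one_apply]
  simp only [LinearMap.comp_apply, LinearMap.mulLeft_apply, pairOp_apply, map_mul, tau_fr_pow, hO.kherm.invol, e]
  ring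

/-- the form relation on a member of the root group -/
theorem UnOver.root_rel {v : V} (hv : b v v = 0) (hv0 : v ≠ 0) {T : K →ₗ[F] K} (hT : InRoot X b v T) (s t : K) :
    Algebra.trace F K (s * T t) + Algebra.trace F K (τ (T (τ s)) * t) = 0 := by
  obtain ⟨f, -, hvf⟩ := hO.partner hv hv0
  obtain ⟨n, hn, en⟩ := hT
  have hnx : ∀ x, n x = x + T (b v x) • v := fun x => LinearMap.congr_fun en x
  have h := hO.iso n hn (τ s • f) (t • f)
  have hfs : ∀ s : K, b v (s • f) = s := fun s => by rw [map_smul, hvf, smul_eq_mul, mul_one]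
  rw [hnx, hnx, hfs, hfs] at h
  simp only [map_add, LinearMap.add_apply, hO.isotropic hv, add_zero] at h
  have e1 : B (τ s • f) (T t • v) = Algebra.trace F K (s * T t) := by
    rw [hO.spec_left, map_smul, ← hO.kherm.symm v f, hvf, map_one, smul_eq_mul, mul_one, hO.kherm.invol]
  have e2 : B (T (τ s) • v) (t • f) = Algebra.trace F K (τ (T (τ s)) * t) := by
    rw [hO.spec_left, map_smul, hvf, smul_eq_mul, mul_one]
  rw [e1, e2] at h
  linear_combination h

/-- all paired components occur -/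
theorem UnOver.root_full (hr : finrank F K = 3 ∨ finrank F K = 5) {v : V} (hv : b v v = 0) (hv0 : v ≠ 0) {T : K →ₗ[F] K}
    (hT0 : T ≠ 0) (hrk : finrank F (LinearMap.range T) ≤ 2) (hT : InRoot X b v T) (c : K) {k : F} (hk : σ k = -k) :
    InRoot X b v ((Algebra.traceForm F K (τ c)).smulRight (k • c)) := by
  haveI := hO.finK
  haveI := hO.finV
  have hB := hO.kherm
  have hφn := fr_pow_finrank (F := F) (K := K)
  have hcomp : ∀ (i j : ℕ) y, (fr F K ^ i) ((fr F K ^ j) y) = (fr F K ^ (i + j)) y := fun i j y => by rw [pow_add, AlgEquiv.mul_apply]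
  have hmove : ∀ i, ¬ finrank F K ∣ i → ∃ a, τ a = a ∧ (fr F K ^ i) a ≠ a :=
    fr_moves hO.herm.toIsInvol hB.toIsInvol hO.ext
  set r := (fr F K : K →+* K) with hrd
  have hr1 : ∀ a, r a = (fr F K ^ 1) a := fun a => by rw [pow_one]; rfl
  have hτr : ∀ a, τ (r a) = r (τ a) := fun a => by rw [hr1, hr1]; exact tau_fr_pow τ 1 a
  have hk' : τ (k • (c * τ c)) = -(k • (c * τ c)) := by
    rw [Algebra.smul_def, map_mul, hO.ext, hk, map_neg, map_mul, hB.invol, mul_comm (τ c), neg_mul]
  have htr : ∀ x, algebraMap F K (Algebra.trace F K x) = ∑ i ∈ Finset.range (finrank F K), (fr F K ^ i) x := fun x => by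
    rw [FiniteField.algebraMap_trace_eq_sum_pow]
    exact Finset.sum_congr rfl fun i _ => by rw [fr_pow_apply, Nat.card_eq_fintype_card]
  have hneg : ∀ j, (fr F K ^ j) (algebraMap F K k) = algebraMap F K k := fun j => (fr F K ^ j).commutes k
  have hminus : ∀ i j, fr F K ^ (j + i) = 1 → ∀ t, pairOp (F := F) τ i j (algebraMap F K k * c * (fr F K ^ i) (τ c)) t =
      algebraMap F K k * c * (fr F K ^ i) (τ c * t) + algebraMap F K k * c * (fr F K ^ j) (τ c * t) := fun i j hij t => by
    have e : ∀ y, (fr F K ^ j) ((fr F K ^ i) y) = y := fun y => by rw [hcomp, hij, AlgEquiv.one_apply]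
    simp only [pairOp_apply, map_mul, tau_fr_pow, hO.ext, hk, map_neg, hneg, hB.invol, e]
    ring
  rcases hr with hr | hr
  · -- degree three
    obtain ⟨κ, hκ⟩ := coef_exists (F := F) T
    obtain ⟨κ₀, κ₁, κ₂, hTx⟩ : ∃ κ₀ κ₁ κ₂ : K, ∀ u, T u = κ₀ * u + κ₁ * (fr F K ^ 1) u + κ₂ * (fr F K ^ 2) u := by
      refine ⟨κ ⟨0, by omega⟩, κ ⟨1, by omega⟩, κ ⟨2, by omega⟩, fun u => ?_⟩
      rw [hκ, ← (finCongr hr).symm.sum_comp, Fin.sum_univ_three]
      simp
      rfl
    rw [hr] at hφn
    have h3 : ∀ y, (fr F K ^ 3) y = y := fun y => by rw [hφn]; rfl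
    have hrel : ∀ u, (κ₀ + τ κ₀) * u + ((fr F K ^ 1) κ₂ + τ κ₁) * (fr F K ^ 1) u + ((fr F K ^ 2) κ₁ + τ κ₂) * (fr F K ^ 2) u = 0 := by
      intro u
      refine hO.sep fun t => ?_
      have h := hO.root_rel hv hv0 hT u t
      rw [hTx, hTx, mul_add, mul_add, map_add, map_add, ← trace_fr 2 (u * (κ₁ * (fr F K ^ 1) t)),
        ← trace_fr 1 (u * (κ₂ * (fr F K ^ 2) t))] at h
      simp only [map_add, map_mul, hcomp, show (2 : ℕ) + 1 = 3 from rfl, show (1 : ℕ) + 2 = 3 from rfl, h3, tau_fr_pow,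
        hB.invol, add_mul] at h
      rw [← h, ← map_add, ← map_add, ← map_add, ← map_add, ← map_add]
      congr 1
      ring
    have hz : κ₀ + τ κ₀ = 0 ∧ (fr F K ^ 1) κ₂ + τ κ₁ = 0 := by
      have := coef_zero (F := F) (K := K) (fun i => ![κ₀ + τ κ₀, (fr F K ^ 1) κ₂ + τ κ₁, (fr F K ^ 2) κ₁ + τ κ₂] (finCongr hr i))
        fun u => by rw [← (finCongr hr).symm.sum_comp, Fin.sum_univ_three]; simpa using hrel u
      exact ⟨by simpa using this ((finCongr hr).symm 0), by simpa using this ((finCongr hr).symm 1)⟩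
    have hκ₂ : κ₂ = -(fr F K ^ 2) (τ κ₁) := by
      rw [← map_neg, ← eq_neg_of_add_eq_zero_left hz.2, hcomp, h3]
    have hTe : T - LinearMap.mulLeft F κ₀ = pairOp τ 1 2 κ₁ := LinearMap.ext fun u => by
      rw [LinearMap.sub_apply, LinearMap.mulLeft_apply, hTx, pairOp_apply, hκ₂]; ring
    have hκ₁ : κ₁ ≠ 0 := fun h0 => by
      have hT' : T = LinearMap.mulLeft F κ₀ := LinearMap.ext fun u => by simp [hTx, hκ₂, h0]
      have hκ0 : κ₀ ≠ 0 := fun e => hT0 (by rw [hT', e]; exact LinearMap.ext fun u => by simp)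
      rw [hT', LinearMap.finrank_range_of_inj (mul_right_injective₀ hκ0 : Function.Injective (LinearMap.mulLeft F κ₀))] at hrk
      omega
    have hbase : InRoot X b v (pairOp τ 1 2 κ₁) :=
      hTe ▸ hT.sub hv (hO.tvK_mem hv (eq_neg_of_add_eq_zero_right hz.1))
    have hall : ∀ κ, InRoot X b v (pairOp τ 1 2 κ) := fun κ => by
      refine mult_full hB.toIsInvol r hτr (Q := {κ | InRoot X b v (pairOp τ 1 2 κ)}) ?_ (fun x y hx hy => ?_) (fun x hx => ?_) ?_
        ⟨κ₁, hbase, hκ₁⟩ (fun a ha x hx => ?_) ?_ κ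
      · obtain ⟨a, ha, hne⟩ := hmove 2 (by rw [hr]; omega)
        exact ⟨a, ha, by rwa [hr1, hr1, hcomp]⟩
      · show InRoot X b v _
        rw [pairOp_add]; exact InRoot.add hv hx hy
      · show InRoot X b v _
        rw [show pairOp (F := F) τ 1 2 (-x) = -pairOp τ 1 2 x from LinearMap.ext fun t => by simp [pairOp_apply]; ring]
        exact InRoot.neg hv hx
      · show InRoot X b v _
        rw [show pairOp (F := F) τ 1 2 0 = 0 from LinearMap.ext fun t => by simp [pairOp_apply]]
        exact InRoot.zero v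
      · rcases eq_or_ne a 0 with rfl | ha0
        · show InRoot X b v _
          rw [show (0 : K) * r 0 * x = 0 by ring, show pairOp (F := F) τ 1 2 0 = 0 from LinearMap.ext fun t => by simp [pairOp_apply]]
          exact InRoot.zero v
        have := hO.torus hv hv0 ha0 (Or.inl ha) hx
        rw [hO.torus_pair 1 2 hφn, ha, ← hr1] at this
        exact this
      · rcases hO.wide with hm | ⟨c', hc', hN', hF'⟩
        · obtain ⟨a, ha0, ha⟩ := exists_mult_any hO.herm.toIsInvol hB.toIsInvol hO.ext (by omega)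
          refine ⟨_, ha, fun x hx => ?_⟩
          have := hO.torus hv hv0 ha0 (Or.inr (Or.inr hm)) hx
          rw [hO.torus_pair 1 2 hφn, pow_one] at this
          exact this
        · obtain ⟨a, ha0, hac⟩ := Herm.exists_conj_quot hB.toIsInvol hc'
          refine ⟨a * fr F K (τ a), fun e => ?_, fun x hx => ?_⟩
          · haveI := Subalgebra.isSimpleOrder_of_finrank_prime F K hO.prime
            let S : Subalgebra F K := AlgHom.equalizer ((fr F K : Gal(K/F)) : K →ₐ[F] K) (AlgHom.id F K)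
            have hS : c' ∈ S := by
              show fr F K c' = c'
              have h1 : τ (fr F K (τ a)) = fr F K a := by
                have := tau_fr_pow (F := F) τ 1 (τ a)
                rw [pow_one, hB.invol] at this
                exact this
              rw [map_mul, h1] at e
              have hta : τ a ≠ 0 := (map_ne_zero τ).2 ha0
              rw [← hac, map_div₀, div_eq_div_iff ((map_ne_zero _).2 hta) hta]
              linear_combination e
            rcases eq_bot_or_eq_top S with h | h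
            · obtain ⟨t, ht⟩ := Algebra.mem_bot.1 (h ▸ hS : c' ∈ (⊥ : Subalgebra F K))
              exact hF' t ht.symm
            · obtain ⟨b', -, hne⟩ := hmove 1 (by rw [hr]; omega)
              exact hne (by rw [pow_one]; exact (show b' ∈ S from h ▸ Algebra.mem_top))
          · have := hO.torus hv hv0 ha0 (Or.inr (Or.inl (by rw [hac]; exact hN'))) hx
            rw [hO.torus_pair 1 2 hφn, pow_one] at this
            exact this
    convert InRoot.add hv (hO.tvK_mem hv hk') (hall (algebraMap F K k * c * (fr F K ^ 1) (τ c))) using 1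
    refine LinearMap.ext fun t => ?_
    rw [LinearMap.add_apply, hminus 1 2 hφn, LinearMap.smulRight_apply, Algebra.traceForm_apply, Algebra.smul_def, htr, hr,
      Finset.sum_range_succ, Finset.sum_range_succ, Finset.sum_range_one, LinearMap.mulLeft_apply, Algebra.smul_def,
      Algebra.smul_def, pow_zero, AlgEquiv.one_apply]
    ring
  · -- degree five
    obtain ⟨κ, hκ⟩ := coef_exists (F := F) T
    obtain ⟨κ₀, κ₁, κ₂, κ₃, κ₄, hTx⟩ : ∃ κ₀ κ₁ κ₂ κ₃ κ₄ : K, ∀ u,
        T u = κ₀ * u + κ₁ * (fr F K ^ 1) u + κ₂ * (fr F K ^ 2) u + κ₃ * (fr F K ^ 3) u + κ₄ * (fr F K ^ 4) u := by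
      refine ⟨κ ⟨0, by omega⟩, κ ⟨1, by omega⟩, κ ⟨2, by omega⟩, κ ⟨3, by omega⟩, κ ⟨4, by omega⟩, fun u => ?_⟩
      rw [hκ, ← (finCongr hr).symm.sum_comp, Fin.sum_univ_five]
      simp
      rfl
    rw [hr] at hφn
    have h5 : ∀ y, (fr F K ^ 5) y = y := fun y => by rw [hφn]; rfl
    have hrel : ∀ u, (κ₀ + τ κ₀) * u + ((fr F K ^ 1) κ₄ + τ κ₁) * (fr F K ^ 1) u + ((fr F K ^ 2) κ₃ + τ κ₂) * (fr F K ^ 2) u +
        ((fr F K ^ 3) κ₂ + τ κ₃) * (fr F K ^ 3) u + ((fr F K ^ 4) κ₁ + τ κ₄) * (fr F K ^ 4) u = 0 := by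
      intro u
      refine hO.sep fun t => ?_
      have h := hO.root_rel hv hv0 hT u t
      rw [hTx, hTx, mul_add, mul_add, mul_add, mul_add, map_add, map_add, map_add, map_add,
        ← trace_fr 4 (u * (κ₁ * (fr F K ^ 1) t)), ← trace_fr 3 (u * (κ₂ * (fr F K ^ 2) t)), ← trace_fr 2 (u * (κ₃ * (fr F K ^ 3) t)),
        ← trace_fr 1 (u * (κ₄ * (fr F K ^ 4) t))] at h
      simp only [map_add, map_mul, hcomp, show (4 : ℕ) + 1 = 5 from rfl, show (3 : ℕ) + 2 = 5 from rfl,
        show (2 : ℕ) + 3 = 5 from rfl, show (1 : ℕ) + 4 = 5 from rfl, h5, tau_fr_pow, hB.invol, add_mul] at h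
      rw [← h, ← map_add, ← map_add, ← map_add, ← map_add, ← map_add, ← map_add, ← map_add, ← map_add, ← map_add]
      congr 1
      ring
    have hz : κ₀ + τ κ₀ = 0 ∧ (fr F K ^ 1) κ₄ + τ κ₁ = 0 ∧ (fr F K ^ 2) κ₃ + τ κ₂ = 0 := by
      have := coef_zero (F := F) (K := K) (fun i => ![κ₀ + τ κ₀, (fr F K ^ 1) κ₄ + τ κ₁, (fr F K ^ 2) κ₃ + τ κ₂,
        (fr F K ^ 3) κ₂ + τ κ₃, (fr F K ^ 4) κ₁ + τ κ₄] (finCongr hr i))
        fun u => by rw [← (finCongr hr).symm.sum_comp, Fin.sum_univ_five]; simpa using hrel u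
      exact ⟨by simpa using this ((finCongr hr).symm 0), by simpa using this ((finCongr hr).symm 1),
        by simpa using this ((finCongr hr).symm 2)⟩
    have hκ₄ : κ₄ = -(fr F K ^ 4) (τ κ₁) := by rw [← map_neg, ← eq_neg_of_add_eq_zero_left hz.2.1, hcomp, h5]
    have hκ₃ : κ₃ = -(fr F K ^ 3) (τ κ₂) := by rw [← map_neg, ← eq_neg_of_add_eq_zero_left hz.2.2, hcomp, h5]
    have hTe : T - LinearMap.mulLeft F κ₀ = pairOp τ 1 4 κ₁ + pairOp τ 2 3 κ₂ := LinearMap.ext fun u => by
      rw [LinearMap.sub_apply, LinearMap.mulLeft_apply, LinearMap.add_apply, hTx, pairOp_apply, pairOp_apply, hκ₃, hκ₄]; ring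
    -- both components occur
    have hfix : ∀ i, ¬ 5 ∣ i → ∀ y, (fr F K ^ i) y = y → ∃ t, algebraMap F K t = y := fun i hi y hy => by
      haveI := Subalgebra.isSimpleOrder_of_finrank_prime F K hO.prime
      let S : Subalgebra F K := AlgHom.equalizer ((fr F K ^ i : Gal(K/F)) : K →ₐ[F] K) (AlgHom.id F K)
      rcases eq_bot_or_eq_top S with h | h
      · exact Algebra.mem_bot.1 (h ▸ (show y ∈ S from hy) : y ∈ (⊥ : Subalgebra F K))
      · obtain ⟨a, -, hne⟩ := hmove i (by rwa [hr])
        exact absurd (show a ∈ S from h ▸ Algebra.mem_top) hne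
    have hker : 3 ≤ finrank F (LinearMap.ker T) := by
      have := T.finrank_range_add_finrank_ker
      omega
    have hκ₀ : κ₁ = 0 → κ₂ = 0 → False := fun e₁ e₂ => by
      have hT' : T = LinearMap.mulLeft F κ₀ := LinearMap.ext fun u => by simp [hTx, hκ₃, hκ₄, e₁, e₂]
      have hκ0 : κ₀ ≠ 0 := fun e => hT0 (by rw [hT', e]; exact LinearMap.ext fun u => by simp)
      rw [hT', LinearMap.finrank_range_of_inj (mul_right_injective₀ hκ0 : Function.Injective (LinearMap.mulLeft F κ₀))] at hrk
      omega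
    have hk1 : κ₁ ≠ 0 := fun e₁ => by
      have hk2 : κ₂ ≠ 0 := hκ₀ e₁
      have := kernel_le_two (fr F K ^ 2) (hfix 2 (by omega)) (a := -τ κ₂) (b := (fr F K ^ 2) κ₀) (c := (fr F K ^ 2) κ₂)
        (neg_ne_zero.2 ((map_ne_zero τ).2 hk2)) ((map_ne_zero _).2 hk2) (LinearMap.ker T) fun t ht => by
          have h := congrArg (⇑(fr F K ^ 2)) (LinearMap.mem_ker.1 ht)
          rw [hTx, hκ₃, hκ₄, e₁] at h
          simp only [map_add, map_neg, map_mul, map_zero, neg_mul, hcomp, show (2 : ℕ) + 3 = 5 from rfl, h5, zero_mul,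
            neg_zero, add_zero] at h
          rw [hcomp]
          linear_combination h
      omega
    have hk2 : κ₂ ≠ 0 := fun e₂ => by
      have := kernel_le_two (fr F K ^ 1) (hfix 1 (by omega)) (a := -τ κ₁) (b := (fr F K ^ 1) κ₀) (c := (fr F K ^ 1) κ₁)
        (neg_ne_zero.2 ((map_ne_zero τ).2 hk1)) ((map_ne_zero _).2 hk1) (LinearMap.ker T) fun t ht => by
          have h := congrArg (⇑(fr F K ^ 1)) (LinearMap.mem_ker.1 ht)
          rw [hTx, hκ₃, hκ₄, e₂] at h
          simp only [map_add, map_neg, map_mul, map_zero, neg_mul, hcomp, show (1 : ℕ) + 4 = 5 from rfl, h5, zero_mul,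
            neg_zero, add_zero] at h
          rw [hcomp]
          linear_combination h
      omega
    let P : AddSubgroup (K × K) :=
      { carrier := {z | InRoot X b v (pairOp τ 1 4 z.1 + pairOp τ 2 3 z.2)}
        add_mem' := fun {z z'} hz hz' => by
          show InRoot X b v _
          rw [Prod.fst_add, Prod.snd_add, pairOp_add, pairOp_add, add_add_add_comm]
          exact InRoot.add hv hz hz'
        zero_mem' := by
          show InRoot X b v _
          rw [show pairOp (F := F) τ 1 4 (0 : K × K).1 + pairOp τ 2 3 (0 : K × K).2 = 0 from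
            LinearMap.ext fun t => by simp [pairOp_apply]]
          exact InRoot.zero v
        neg_mem' := fun {z} hz => by
          show InRoot X b v _
          rw [show pairOp (F := F) τ 1 4 (-z).1 + pairOp τ 2 3 (-z).2 = -(pairOp τ 1 4 z.1 + pairOp τ 2 3 z.2) from
            LinearMap.ext fun t => by simp [pairOp_apply]; ring]
          exact InRoot.neg hv hz }
    have hP : (κ₁, κ₂) ∈ P := show InRoot X b v _ from hTe ▸ hT.sub hv (hO.tvK_mem hv (eq_neg_of_add_eq_zero_right hz.1))
    have htor : ∀ a, a ≠ 0 → (τ a = a ∨ Algebra.norm F a = 1) → ∀ z ∈ P,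
        (a * (fr F K ^ 1) (τ a) * z.1, a * (fr F K ^ 2) (τ a) * z.2) ∈ P := fun a ha0 ha z hz => by
      have := hO.torus hv hv0 ha0 (ha.imp_right fun h => Or.inl (norm_quot hO.ext ha0 h)) hz
      rw [LinearMap.add_comp, LinearMap.comp_add, hO.torus_pair 1 4 hφn, hO.torus_pair 2 3 hφn] at this
      exact this
    obtain ⟨z, hz0, hχ⟩ := exists_mult_norm_one hO.herm.toIsInvol hB.toIsInvol hO.ext (by omega)
    set p := fr F K z / z with hpd
    have hp0 : p ≠ 0 := div_ne_zero ((map_ne_zero (fr F K)).2 hz0) hz0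
    have hNp : Algebra.norm F p = 1 := by
      refine mul_right_cancel₀ (Algebra.norm_ne_zero_iff.2 hz0 : Algebra.norm F z ≠ 0) ?_
      rw [one_mul, ← map_mul, div_mul_cancel₀ _ hz0, fr_apply, map_pow, FiniteField.pow_card]
    have hrr : ∀ a, r (r a) = (fr F K ^ 2) a := fun a => by rw [hr1, hr1, hcomp]
    have hall := pair_full hB.toIsInvol r hτr
      (by obtain ⟨a, ha, hne⟩ := hmove 1 (by rw [hr]; omega); exact ⟨a, ha, by rwa [hr1]⟩)
      (by obtain ⟨a, ha, hne⟩ := hmove 2 (by rw [hr]; omega); exact ⟨a, ha, by rwa [hrr]⟩)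
      (by obtain ⟨a, ha, hne⟩ := hmove 3 (by rw [hr]; omega); exact ⟨a, ha, by rwa [hrr, hr1, hcomp]⟩)
      (by obtain ⟨a, ha, hne⟩ := hmove 4 (by rw [hr]; omega); exact ⟨a, ha, by rwa [hrr, hrr, hcomp]⟩) P
      (fun a ha z hz => by
        rcases eq_or_ne a 0 with rfl | ha0
        · simpa [Prod.mk_zero_zero] using (P.zero_mem : (0 : K × K) ∈ P)
        · have := htor a ha0 (Or.inl ha) z hz
          rw [ha] at this
          rwa [hrr, hr1])
      (p := p * (fr F K ^ 1) (τ p)) (q := p * (fr F K ^ 2) (τ p)) (by rw [pow_one]; exact hχ) (fun hq => hχ (by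
        have h0 : τ p ≠ 0 := (map_ne_zero τ).2 hp0
        have hd : (fr F K ^ 2) (p / τ p) = p / τ p := by
          rw [map_mul, tau_fr_pow, hB.invol] at hq
          rw [map_div₀, div_eq_div_iff ((map_ne_zero _).2 h0) h0]
          linear_combination hq
        obtain ⟨t, ht⟩ := hfix 2 (by omega) _ hd
        have hd1 : fr F K (p / τ p) = p / τ p := by rw [← ht]; exact (fr F K).commutes t
        rw [map_div₀, div_eq_div_iff ((map_ne_zero (fr F K)).2 h0) h0] at hd1
        rw [map_mul, show τ (fr F K (τ p)) = fr F K p from (hτr (τ p)).trans (by rw [hB.invol]; rfl)]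
        linear_combination hd1))
      (fun z hz => htor p hp0 (Or.inr hNp) z hz) hP hk1 hk2
    have hmem : InRoot X b v _ := hall (algebraMap F K k * c * (fr F K ^ 1) (τ c)) (algebraMap F K k * c * (fr F K ^ 2) (τ c))
    convert InRoot.add hv (hO.tvK_mem hv hk') hmem using 1
    refine LinearMap.ext fun t => ?_
    rw [LinearMap.add_apply, LinearMap.add_apply, hminus 1 4 hφn, hminus 2 3 hφn, LinearMap.smulRight_apply,
      Algebra.traceForm_apply, Algebra.smul_def, htr, hr, Finset.sum_range_succ, Finset.sum_range_succ, Finset.sum_range_succ,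
      Finset.sum_range_succ, Finset.sum_range_one, LinearMap.mulLeft_apply, Algebra.smul_def, Algebra.smul_def, pow_zero,
      AlgEquiv.one_apply]
    ring

/-- every isotropic vector over the base field is a centre -/
theorem UnOver.all_centres (hr : finrank F K = 3 ∨ finrank F K = 5)
    (hsl : ∃ g ∈ X, ∃ (k : K) (x : V), g (k • x) ∉ K ∙ g x) : ∀ u, B u u = 0 → u ∈ Unitary.centres B X := by
  haveI := hO.finK
  haveI := hO.finV
  have hB := hO.kherm
  obtain ⟨v, hv, hv0, T, hT0, hrk, hT⟩ := hO.exists_rank_two hsl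
  have hline : ∀ c : K, c • v ∈ Unitary.centres B X := by
    intro c
    refine ⟨hO.isotropic hv c c, fun hcv k hk => ?_⟩
    obtain ⟨g, hg, e⟩ : InRoot X b v _ :=
      hO.root_full hr hv hv0 hT0 hrk hT c (k := k) (eq_neg_of_add_eq_zero_right hk)
    have : g = Herm.tvU hcv k := LinearEquiv.ext fun x => by
      rw [Herm.tvU_apply, show g x = x + (Algebra.trace F K (τ c * b v x) • (k • c)) • v from LinearMap.congr_fun e x,
        hO.spec_left, smul_smul, smul_assoc, mul_comm k]
    exact this ▸ hg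
  -- transitivity on isotropic lines
  have step : ∀ w, b w w = 0 → (∀ c : K, c • w ∈ Unitary.centres B X) → ∀ u, b u u = 0 → b w u ≠ 0 →
      ∀ c : K, c • u ∈ Unitary.centres B X := by
    intro w hw hwc u hu hwu c
    obtain ⟨s, hs0, hs⟩ := Herm.exists_skew hB.toIsInvol
    set x := s / b w u with hx
    have hx0 : x ≠ 0 := div_ne_zero hs0 hwu
    have hxw : x * b w u = s := div_mul_cancel₀ _ hwu
    set p := w + x • u
    have hsx : τ x * b u w = -s := by
      rw [← hB.symm w u, ← map_mul, hxw, hs]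
    have hp : b p p = 0 := by
      simp only [p, map_add, map_smulₛₗ, LinearMap.add_apply, LinearMap.smul_apply, smul_eq_mul, RingHom.id_apply, hw, hu,
        mul_zero, add_zero, zero_add]
      rw [hxw, hsx]; ring
    obtain ⟨g, hg, e⟩ := hO.tvK_mem hp (k := s⁻¹) (by rw [map_inv₀, hs, inv_neg])
    have hgx : ∀ y, g y = y + (s⁻¹ * b p y) • p := fun y => LinearMap.congr_fun e y
    have hpw : b p w = -s := by
      simp only [p, map_add, map_smulₛₗ, LinearMap.add_apply, LinearMap.smul_apply, smul_eq_mul, hw, zero_add]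
      exact hsx
    have hgw : ∀ a : K, g (a • w) = (-(a * x)) • u := fun a => by
      rw [hgx, map_smul, hpw, smul_eq_mul, show s⁻¹ * (a * -s) = -a by field_simp, show p = w + x • u from rfl]
      simp only [smul_add, smul_smul, neg_mul, neg_smul]
      abel
    have hgi := hO.iso g hg
    have := Unitary.map_mem_centres hO.herm (hwc (-(c / x))) hg hgi
    rwa [hgw, neg_mul, neg_neg, div_mul_cancel₀ _ hx0] at this
  have hiso : ∀ u, b u u = 0 → ∀ c : K, c • u ∈ Unitary.centres B X := by
    intro u hu c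
    rcases eq_or_ne u 0 with rfl | hu0
    · rw [smul_zero, ← zero_smul K v]; exact hline 0
    by_cases h : b v u = 0
    · obtain ⟨f, hf, hvf⟩ := hO.partner hv hv0
      obtain ⟨f', hf', huf⟩ := hO.partner hu hu0
      have huv : b u v = 0 := (Herm.eq_zero_comm hB).1 h
      obtain ⟨w, hw, hvw, hwu⟩ : ∃ w, b w w = 0 ∧ b v w ≠ 0 ∧ b w u ≠ 0 := by
        by_cases h1 : b u f = 0
        · by_cases h2 : b v f' = 0
          · have hfv : b f v = 1 := by rw [← hB.symm, hvf, map_one]
            refine ⟨f + f' - b f f' • v, ?_, ?_, ?_⟩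
            · simp only [map_add, map_sub, map_smulₛₗ, LinearMap.add_apply, LinearMap.sub_apply, LinearMap.smul_apply,
                smul_eq_mul, RingHom.id_apply, hv, hf, hf', hvf, hfv, h2, (Herm.eq_zero_comm hB).1 h2, hB.symm]
              ring
            · simp [hvf, h2, hv]
            · rw [Ne, (Herm.eq_zero_comm hB)]
              simp [h1, huf, huv]
          · exact ⟨f', hf', h2, fun e => by
              have := (Herm.eq_zero_comm hB).1 e
              rw [huf] at this; exact one_ne_zero this⟩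
        · exact ⟨f, hf, by rw [hvf]; exact one_ne_zero, fun e => h1 ((Herm.eq_zero_comm hB).1 e)⟩
      exact step w hw (step v hv hline w hw hvw) u hu hwu c
    · exact step v hv hline u hu h c
  intro u hu
  by_cases hu' : b u u = 0
  · simpa using hiso u hu' 1
  obtain ⟨z₀, hz₀⟩ := Herm.exists_trace hB.toIsInvol (Herm.fix_self hB u)
  obtain ⟨z, hz, hzt⟩ : ∃ z, z + τ z = b u u ∧ Algebra.trace F K z ≠ 0 := by
    by_cases h0 : Algebra.trace F K z₀ = 0
    · obtain ⟨s, hs, hst⟩ : ∃ s, τ s = -s ∧ Algebra.trace F K (s * 1) ≠ 0 := by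
        by_contra! h
        exact one_ne_zero (hO.skew_sep h)
      exact ⟨z₀ + s, by rw [map_add, hs]; linear_combination hz₀, by rw [map_add, h0, zero_add, ← mul_one s]; exact hst⟩
    · exact ⟨z₀, hz₀, h0⟩
  obtain ⟨a, ha, -, ha', haz⟩ := hO.split hu' hz
  have hA : (1 : K) • a ∈ Unitary.centres B X := hiso a ha 1
  have hA' : (1 : K) • (u - a) ∈ Unitary.centres B X := hiso _ ha' 1
  rw [one_smul] at hA hA'
  have := UnitDec.span_centres hO.herm hA hA' (by rw [hO.spec1, haz]; exact hzt) 1 1 (by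
    rw [one_smul, one_smul, add_sub_cancel]; exact hu)
  rwa [one_smul, one_smul, add_sub_cancel] at this

end Cfsg.Agent.ClassicalMax.ExtField.Unit
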