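import Cfsg.Agent.ClassicalMax.ExtField.UnitMain
import Cfsg.Agent.ClassicalMax.ExtField.Bridge
import Cfsg.Agent.ClassicalMax.ExtField.Sympl
import Cfsg.Agent.ClassicalMax.UnTensor.Bridge

/-!
Maximality of the normaliser of an adjoint-closed field of matrices of degree three or five in the special
unitary group.
-/

set_option autoImplicit false
set_option linter.unusedSectionVars false
set_option linter.style.haveILetI false

namespace Cfsg.Agent.ClassicalMax.ExtField.Unit

open Module Cfsg.Agent.Classical Cfsg.Agent.Classical.Herm Cfsg.Agent.ClassicalMax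

variable {F : Type*} [Field F] [Fintype F]

theorem isMaximal_unit_aux {n q : ℕ} (hF : Fintype.card F = q ^ 2) {L : Type*} [Field L] [Algebra F L]
    (j : L →ₐ[F] Matrix (Fin n) (Fin n) F) (hr : finrank F L = 3 ∨ finrank F L = 5)
    (hn : 2 * finrank F L ≤ n) (hwide : finrank F L = 5 ∨ 3 * finrank F L ≤ n ∨ 9 ≤ Fintype.card F)
    (K : Subalgebra F (Matrix (Fin n) (Fin n) F)) (hjK : ∀ x, x ∈ K ↔ ∃ k, j k = x)
    (hadj : Cfsg.Geo.IsAdjointClosedFor (Cfsg.hermForm n F q) K) :
    Cfsg.Geo.IsMaximalIn (Cfsg.GU n F q ⊓ Cfsg.Geo.specialLinear (Fin n) F)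
      (Cfsg.Geo.subalgebraNormalizer K ⊓ (Cfsg.GU n F q ⊓ Cfsg.Geo.specialLinear (Fin n) F)) := by
  classical
  have hrp : (finrank F L).Prime := by rcases hr with h | h <;> rw [h] <;> norm_num
  haveI : FiniteDimensional F L := Module.finite_of_finrank_pos hrp.pos
  haveI : Finite L := Module.finite_of_finite F
  obtain ⟨σ, hσq, hσ, -, -⟩ := exists_powHom hF
  have hB := hermB_isHerm (n := n) hσ
  haveI : Nonempty (Fin n) := ⟨⟨0, by omega⟩⟩
  letI : Module L (Fin n → F) := Module.compHom (Fin n → F)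
    (((Matrix.toLinAlgEquiv' : Matrix (Fin n) (Fin n) F ≃ₐ[F] Module.End F (Fin n → F)).toAlgHom.comp j).toRingHom)
  have hsmul : ∀ (k : L) (x : Fin n → F), k • x = (j k).mulVec x := fun k x => rfl
  haveI : IsScalarTower F L (Fin n → F) := IsScalarTower.of_algebraMap_smul fun t x => by
    rw [hsmul, AlgHom.commutes, Matrix.algebraMap_eq_diagonal]
    funext i
    simp [Matrix.mulVec_diagonal]
  haveI : FiniteDimensional L (Fin n → F) := Module.Finite.right F L (Fin n → F)
  have hmul : finrank F L * finrank L (Fin n → F) = n := by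
    rw [Module.finrank_mul_finrank, Module.finrank_fin_fun]
  have hm2 : 2 ≤ finrank L (Fin n → F) := by
    by_contra hc
    push Not at hc
    interval_cases h : finrank L (Fin n → F) <;> rcases hr with h' | h' <;> rw [h'] at hmul hn <;> omega
  have hdim : ∀ x : Fin n → F, ∃ z, z ∉ L ∙ x := fun x => by
    by_contra hc
    push Not at hc
    have h2 := (finrank_span_le_card (R := L) ({x} : Set (Fin n → F)))
    rw [show L ∙ x = ⊤ from eq_top_iff.2 fun z _ => hc z, finrank_top, Set.toFinset_singleton, Finset.card_singleton] at h2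
    omega
  haveI : Nontrivial (Fin n → F) := Function.nontrivial
  -- the involution
  set B := hermB n σ with hBd
  have hfac : ∀ {x y : L}, (∀ u : Fin n → F, x • u = y • u) → x = y := fun {x y} h => by
    obtain ⟨u, hu⟩ := exists_ne (0 : Fin n → F)
    exact smul_left_injective L hu (h u)
  have hex : ∀ k : L, ∃ k' : L, ∀ x z, B (k' • x) z = B x (k • z) := fun k => by
    obtain ⟨M, hM, hMe⟩ := hadj (j k) ((hjK _).2 ⟨k, rfl⟩)
    obtain ⟨k', rfl⟩ := (hjK M).1 hM
    refine ⟨k', fun x z => ?_⟩
    have := hMe z x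
    rw [hermForm_eq hσq, hermForm_eq hσq] at this
    exact this.symm
  choose t ht using hex
  have huniq : ∀ {k : L} (k' : L), (∀ x z, B (k' • x) z = B x (k • z)) → t k = k' := fun {k} k' h => hfac fun x =>
    sub_eq_zero.1 (hB.nondeg _ fun z => by rw [map_sub, LinearMap.sub_apply, ht, h, sub_self])
  let τ : L →+* L :=
    { toFun := t
      map_one' := huniq 1 fun x z => by simp
      map_mul' := fun k k' => huniq _ fun x z => by rw [mul_comm (t k), mul_smul, mul_smul, ht, ht]
      map_zero' := huniq 0 fun x z => by simp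
      map_add' := fun k k' => huniq _ fun x z => by
        rw [add_smul, map_add, LinearMap.add_apply, ht, ht, ← map_add, add_smul] }
  have hτ : ∀ (k : L) x z, B (τ k • x) z = B x (k • z) := ht
  have hτ2 : ∀ k, τ (τ k) = k := fun k => huniq _ fun x z => by rw [← hB.symm z (k • x), ← hτ, hB.symm]
  have hext : ∀ s, τ (algebraMap F L s) = algebraMap F L (σ s) := fun s => huniq _ fun x z => by
    rw [algebraMap_smul, algebraMap_smul, map_smulₛₗ, LinearMap.smul_apply, map_smul, hB.invol]
  have hτinv : IsInvol τ := ⟨fun h => by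
    obtain ⟨s, hs⟩ := exists_moved hσ
    refine hs ((algebraMap F L).injective ?_)
    rw [← hext, h, RingHom.id_apply], hτ2⟩
  have hswap : ∀ (k : L) x z, B (k • x) z = B x (τ k • z) := fun k x z => by rw [← hτ, hτ2]
  -- the form over the field
  have htr0 : Algebra.trace F L ≠ 0 := Algebra.trace_ne_zero F L
  have hrep : ∀ x z, ∃ κ : L, ∀ c, Algebra.trace F L (c * κ) = B x (c • z) := fun x z => by
    obtain ⟨κ, hκ⟩ := mul_rep htr0 ((B x).comp ((LinearMap.toSpanSingleton L (Fin n → F) z).restrictScalars F))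
    exact ⟨κ, fun c => hκ c⟩
  choose β hβ using hrep
  have hβu : ∀ {x z} (κ : L), (∀ c, Algebra.trace F L (c * κ) = B x (c • z)) → β x z = κ := fun {x z} κ h =>
    mul_sep htr0 fun c => (hβ x z c).trans (h c).symm
  let b : (Fin n → F) →ₛₗ[τ] (Fin n → F) →ₗ[L] L := LinearMap.mk₂'ₛₗ τ (RingHom.id L) β
    (fun x x' z => hβu _ fun c => by rw [mul_add, map_add, hβ, hβ, map_add, LinearMap.add_apply])
    (fun a x z => hβu _ fun c => by rw [smul_eq_mul, hswap, smul_smul, ← hβ, mul_comm (τ a) c, mul_assoc])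
    (fun x z z' => hβu _ fun c => by rw [mul_add, map_add, hβ, hβ, smul_add, map_add])
    (fun a x z => hβu _ fun c => by rw [RingHom.id_apply, smul_eq_mul, smul_smul, ← mul_assoc, ← hβ])
  have hspec : ∀ (c : L) x z, Algebra.trace F L (c * b x z) = B x (c • z) := fun c x z => hβ x z c
  have hspec1 : ∀ x z, B x z = Algebra.trace F L (b x z) := fun x z => by
    rw [← one_mul (b x z), hspec, one_smul]
  have htrτ : ∀ k, Algebra.trace F L (τ k) = σ (Algebra.trace F L k) := fun k => by
    refine (algebraMap F L).injective ?_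
    rw [← hext, FiniteField.algebraMap_trace_eq_sum_pow, FiniteField.algebraMap_trace_eq_sum_pow, map_sum]
    exact Finset.sum_congr rfl fun i _ => (map_pow τ k _).symm
  have hkh : IsHerm b := by
    refine { toIsInvol := hτinv, symm := fun x z => ?_, nondeg := fun x hx => hB.nondeg x fun z => ?_ }
    · refine (hβu (x := z) (z := x) _ fun c => ?_).symm
      have h1 : τ (τ c * b x z) = c * τ (b x z) := by rw [map_mul, hτ2]
      rw [← h1, htrτ, hspec, hB.symm, hτ]
    · rw [hspec1, hx, map_zero]
  refine UnTensor.isMaximalIn_suGL_det hσ hσq (by omega) _ ?_ fun M hM hMs ⟨g, hg, hgK⟩ => ?_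
  · -- a transvection outside
    obtain ⟨v, -, hv, hv0⟩ := Unitary.exists_singular hB [] (by rw [Module.finrank_fin_fun]; simp; omega)
    obtain ⟨c, hc0, hc⟩ := exists_skew hσ
    refine ⟨v, hv, c, by rw [hc, add_neg_cancel], fun hmem => ?_⟩
    set G := (glEquiv (Fin n) F).symm (tvU hv c)
    have hG : ∀ x, glEquiv (Fin n) F G x = x + (c * B v x) • v := fun x => by
      rw [MulEquiv.apply_symm_apply, tvU_apply]
    let φ : (Fin n → F) →ₗ[F] F := c • B v
    have key : ∀ k : L, ∀ x, (c * B v (k • x)) • v = (c * B v x) • (k • v) := fun k => by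
      obtain ⟨k', hk'⟩ := (hjK _).1 ((hmem (j k)).1 ((hjK _).2 ⟨k, rfl⟩))
      have hsemi : ∀ x, glEquiv (Fin n) F G (k • x) = k' • glEquiv (Fin n) F G x := fun x => by
        rw [hsmul k', hk', glEquiv_apply, glEquiv_apply, hsmul, Matrix.mulVec_mulVec, Matrix.mulVec_mulVec, mul_assoc,
          ← Units.val_mul, inv_mul_cancel, Units.val_one, mul_one]
      let ψ : (Fin n → F) →ₗ[F] F := (B v).comp ((LinearMap.lsmul L (Fin n → F) k).restrictScalars F)
      obtain ⟨x₀, hx₀, hx0⟩ : ∃ x ∈ LinearMap.ker (B v) ⊓ LinearMap.ker ψ, x ≠ 0 :=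
        Submodule.exists_mem_ne_zero_of_ne_bot fun h => by
          have e1 := Unitary.finrank_ker_inf (LinearMap.ker (B v)) ψ
          have e2 := LinearMap.finrank_range_add_finrank_ker (B v)
          have e3 := Submodule.finrank_le (LinearMap.range (B v))
          rw [finrank_self] at e3
          rw [h, finrank_bot] at e1
          rw [Module.finrank_fin_fun] at e2
          omega
      have hkk : k = k' := by
        have h1 := hsemi x₀
        rw [hG, hG, show B v x₀ = 0 from hx₀.1, show B v (k • x₀) = 0 from hx₀.2, mul_zero, zero_smul, add_zero, add_zero] at h1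
        exact smul_left_injective L hx0 h1
      intro x
      have h1 := hsemi x
      rw [hG, hG, ← hkk, smul_add, add_right_inj, smul_comm] at h1
      exact h1
    obtain ⟨x₁, hx₁⟩ : ∃ x, B v x ≠ 0 := by by_contra! h; exact hv0 (hB.nondeg v h)
    have hall : ∀ k : L, k ∈ (⊥ : Subalgebra F L) := fun k => Algebra.mem_bot.2 ⟨c * B v (k • x₁) / (c * B v x₁), by
      refine smul_left_injective L hv0 ?_
      show algebraMap F L _ • v = k • v
      rw [algebraMap_smul, div_eq_inv_mul, mul_smul, key, inv_smul_smul₀ (mul_ne_zero hc0 hx₁)]⟩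
    have h1 : (⊥ : Subalgebra F L) = ⊤ := eq_top_iff.2 fun k _ => hall k
    have h2 := congrArg (fun S : Subalgebra F L => finrank F S) h1
    simp only [Subalgebra.finrank_bot, subalgebra_top_finrank_eq_submodule_top_finrank, finrank_top] at h2
    have := hrp.two_le
    omega
  · have hO : UnOver B b M := ⟨hrp, by rcases hr with h | h <;> omega, hm2, by
      rcases hwide with h | h | h
      · right; exact hasRefl_five hσ hτinv hext (by omega)
      swap
      · right
        rcases hr with h' | h'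
        · exact hasRefl_three hτinv h' h
        · exact hasRefl_five hσ hτinv hext (by omega)
      · left; rw [← hmul] at h; exact Nat.le_of_mul_le_mul_left (by rwa [mul_comm] at h) hrp.pos,
      hB, hkh, hext, hspec, fun g hg => (hMs g hg).1, fun D hD hdet => ⟨D.restrictScalars F, hM _ (fun x z => by
        rw [hspec1, hspec1]; exact congrArg _ (hD x z)) (by
          show LinearMap.det (D.toLinearMap.restrictScalars F) = 1
          rw [LinearMap.det_restrictScalars, hdet])
        (mem_normalizer_of_linear j K hsmul hjK _ fun k x => by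
          rw [MulEquiv.apply_symm_apply]
          exact D.map_smul k x), rfl⟩⟩
    obtain ⟨k, x, hkx⟩ := exists_nonline j K hsmul hjK hdim _ hgK
    rw [MulEquiv.apply_symm_apply] at hkx
    exact fun v hv => hO.all_centres hr ⟨g, hg, k, x, hkx⟩ v hv

theorem isMaximal_extUnit {n q r : ℕ} (hF : Fintype.card F = q ^ 2) (hr : r = 3 ∨ r = 5) (hn : 2 * r ≤ n)
    (hwide : r = 5 ∨ 3 * r ≤ n ∨ 9 ≤ Fintype.card F) (K : Subalgebra F (Matrix (Fin n) (Fin n) F)) (hK : Cfsg.Geo.IsFieldSubalgebra r K)
    (hadj : Cfsg.Geo.IsAdjointClosedFor (Cfsg.hermForm n F q) K) :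
    Cfsg.Geo.IsMaximalIn (Cfsg.GU n F q ⊓ Cfsg.Geo.specialLinear (Fin n) F)
      (Cfsg.Geo.subalgebraNormalizer K ⊓ (Cfsg.GU n F q ⊓ Cfsg.Geo.specialLinear (Fin n) F)) := by
  haveI : Nonempty (Fin n) := ⟨⟨0, by omega⟩⟩
  have hKfield : IsField K :=
    { exists_pair_ne := ⟨0, 1, fun h => zero_ne_one (α := Matrix (Fin n) (Fin n) F) (congrArg Subtype.val h)⟩
      mul_comm := fun x y => Subtype.ext (hK.comm _ x.2 _ y.2)
      mul_inv_cancel := fun {a} ha => by
        obtain ⟨y, hy, h⟩ := hK.inv _ a.2 (fun e => ha (Subtype.ext e))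
        exact ⟨⟨y, hy⟩, Subtype.ext h⟩ }
  letI : Field K := hKfield.toField
  exact isMaximal_unit_aux hF K.val (by rw [hK.finrank_eq]; exact hr) (by rw [hK.finrank_eq]; exact hn)
    (by rw [hK.finrank_eq]; exact hwide) K (fun x => ⟨fun h => ⟨⟨x, h⟩, rfl⟩, fun ⟨k, e⟩ => e ▸ k.2⟩) hadj

end Cfsg.Agent.ClassicalMax.ExtField.Unit
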