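import Cfsg.Agent.ClassicalMax.ExtField.UnitCore

/-!
An element of rank at most two in the root group of an isotropic line.
-/

set_option autoImplicit false
set_option linter.unusedSectionVars false
set_option linter.style.haveILetI false

namespace Cfsg.Agent.ClassicalMax.ExtField.Unit

open Module Cfsg.Agent.Classical Cfsg.Agent.ClassicalMax

variable {F K V : Type*} [Field F] [Fintype F] [Field K] [Finite K] [Algebra F K] [AddCommGroup V] [Module F V]
  [Module K V] [IsScalarTower F K V] [FiniteDimensional F V] {σ : F →+* F} {τ : K →+* K}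
  {B : V →ₛₗ[σ] V →ₗ[F] F} {b : V →ₛₗ[τ] V →ₗ[K] K} {X : Subgroup (V ≃ₗ[F] V)}

omit [Fintype F] [Finite K] [FiniteDimensional F V] in
theorem root_mul {v : V} (hv : b v v = 0) (h h' : K →ₗ[F] K) :
    (1 + op (b v) h v) * (1 + op (b v) h' v) = 1 + op (b v) (h + h') v := by
  rw [mul_add, mul_one, add_mul, one_mul, op_mul_op hv, add_zero, op_add, add_assoc]

variable (hO : UnOver B b X)
include hO

theorem UnOver.exists_rank_two (hsl : ∃ g ∈ X, ∃ (k : K) (x : V), g (k • x) ∉ K ∙ g x) :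
    ∃ v, b v v = 0 ∧ v ≠ 0 ∧ ∃ T : K →ₗ[F] K, T ≠ 0 ∧ finrank F (LinearMap.range T) ≤ 2 ∧ InX X (1 + op (b v) T v) := by
  classical
  haveI := hO.finK
  haveI := hO.finV
  obtain ⟨g, hg, v, hv, hv0, k, hk, hU0, hUdim, hN, ⟨y₁, hy₁, hy₁k⟩, -⟩ := hO.exists_core hsl
  refine ⟨v, hv, hv0, ?_⟩
  set A := ln F K v
  set C := A.map g.toLinearMap
  set U : Submodule F V := A ⊓ C
  obtain ⟨n, hn, en⟩ := hO.tvK_mem hv hk
  have hnx : ∀ x, n x = x + (k * b v x) • v := fun x => LinearMap.congr_fun en x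
  set m := g⁻¹ * n * g with hmd
  have hm : m ∈ X := mul_mem (mul_mem (inv_mem hg) hn) hg
  have hgm : ∀ z, g (m z) = n (g z) := fun z => by simp only [hmd, LinearEquiv.mul_apply, apply_inv]
  have hmA : ∀ a ∈ A, m a ∈ A := fun a ha => by
    have hga : g a ∈ C := ⟨a, ha, rfl⟩
    obtain ⟨a', ha', e⟩ : n (g a) ∈ C := by rw [hnx]; exact C.add_mem hga (hN _ hga).2
    rwa [show m a = a' from g.injective (by rw [hgm]; exact e.symm)]
  obtain ⟨ψ, hψ, -⟩ := exists_dual_one' (⊥ : Submodule K V) (by rwa [Submodule.mem_bot] : v ∉ (⊥ : Submodule K V))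
  let sv : K →ₗ[F] V := (LinearMap.toSpanSingleton K V v).restrictScalars F
  let L : K →ₗ[F] K := (ψ.restrictScalars F).comp (m.toLinearMap.comp sv)
  have hL : ∀ t : K, m (t • v) = L t • v := fun t => by
    obtain ⟨c, hc⟩ := mem_ln.1 (hmA _ (mem_ln.2 ⟨t, rfl⟩))
    rw [show L t = ψ (m (t • v)) from rfl, ← hc, map_smul, hψ, smul_eq_mul, mul_one]
  obtain ⟨f, hf⟩ : ∃ f, b v f = 1 := by
    obtain ⟨x, hx⟩ : ∃ x, b v x ≠ 0 := by by_contra! h; exact hv0 (hO.kherm.nondeg v h)
    exact ⟨(b v x)⁻¹ • x, by rw [map_smul, smul_eq_mul, inv_mul_cancel₀ hx]⟩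
  let M : K →ₗ[F] K := ((b v).restrictScalars F).comp
    (m⁻¹.toLinearMap.comp ((LinearMap.toSpanSingleton K V f).restrictScalars F))
  have hadj : ∀ t x, Algebra.trace F K (τ (L t) * b v x) = Algebra.trace F K (τ t * b v (m⁻¹ x)) := fun t x => by
    rw [← hO.spec_left, ← hL, ← hO.spec_left]
    conv_lhs => rw [← apply_inv m x]
    exact hO.iso m hm _ _
  have hfs : ∀ s : K, b v (s • f) = s := fun s => by rw [map_smul, hf, smul_eq_mul, mul_one]
  have hM : ∀ x, b v (m⁻¹ x) = M (b v x) := fun x => by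
    refine sub_eq_zero.1 (hO.sep fun c => ?_)
    rw [← hO.kherm.invol c, mul_sub, map_sub, ← hadj, show M (b v x) = b v (m⁻¹ (b v x • f)) from rfl, ← hadj, hfs, sub_self]
  have hconj : ∀ j, τ j = -j → InX X (1 + op (b v) (L ∘ₗ LinearMap.mulLeft F j ∘ₗ M - LinearMap.mulLeft F j) v) := by
    intro j hj
    obtain ⟨d, hd, ed⟩ := hO.tvK_mem hv hj
    have h1 : InX X (1 + op (b v) (L ∘ₗ LinearMap.mulLeft F j ∘ₗ M) v) := by
      refine ⟨m * d * m⁻¹, mul_mem (mul_mem hm hd) (inv_mem hm), LinearMap.ext fun x => ?_⟩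
      show m (d (m⁻¹ x)) = x + L (j * M (b v x)) • v
      rw [show d (m⁻¹ x) = m⁻¹ x + (j * b v (m⁻¹ x)) • v from LinearMap.congr_fun ed _, map_add, apply_inv, hL, hM]
    have h2 := hO.tvK_mem hv (k := -j) (by rw [map_neg, hj])
    have h3 := h1.mul h2
    rw [root_mul hv] at h3
    convert h3 using 4
    exact LinearMap.ext fun t => by simp [sub_eq_add_neg]
  -- ranks
  let UK : Submodule F K := U.comap (g.toLinearMap.comp sv)
  have hUK : finrank F UK = finrank F U := by
    have hinj : Function.Injective (g.toLinearMap.comp sv) := fun a c e => smul_left_injective K hv0 (g.injective e)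
    rw [(Submodule.equivMapOfInjective _ hinj UK).finrank_eq, Submodule.map_comap_eq_self]
    intro x hx
    obtain ⟨a, ha, rfl⟩ : x ∈ C := hx.2
    obtain ⟨t, rfl⟩ := mem_ln.1 ha
    exact ⟨t, rfl⟩
  have hfix : ∀ t ∈ UK, L t = t := fun t ht => by
    have h0 : b v (g (t • v)) = 0 := by
      obtain ⟨c, hc⟩ := mem_ln.1 (Submodule.mem_inf.1 ht).1
      rw [show g (t • v) = c • v from hc.symm, map_smul, hv, smul_zero]
    refine smul_left_injective K hv0 ?_
    show L t • v = t • v
    rw [← hL]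
    exact g.injective (by rw [hgm, hnx, h0, mul_zero, zero_smul, add_zero])
  have hrL : finrank F (LinearMap.range (L - LinearMap.id)) ≤ 1 := by
    have h1 := (L - LinearMap.id).finrank_range_add_finrank_ker
    have h2 := Submodule.finrank_mono (show UK ≤ LinearMap.ker (L - LinearMap.id) from fun t ht => by simp [hfix t ht])
    omega
  have hrM : finrank F (LinearMap.range (M - LinearMap.id)) ≤ 1 := by
    obtain ⟨⟨e, he⟩, hspan⟩ := finrank_le_one_iff.1 hrL
    let f₁ : K →ₗ[F] F := Algebra.traceForm F K (τ e)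
    have hker : LinearMap.ker f₁ ≤ LinearMap.ker (M - LinearMap.id) := fun s hs => by
      rw [LinearMap.mem_ker, LinearMap.sub_apply, LinearMap.id_apply]
      refine hO.sep fun c => ?_
      obtain ⟨a, ha⟩ := hspan ⟨_, LinearMap.mem_range_self _ (τ c)⟩
      have ha' : a • e = L (τ c) - τ c := congrArg Subtype.val ha
      rw [← hO.kherm.invol c, mul_sub, map_sub, show M s = b v (m⁻¹ (s • f)) from rfl, ← hadj, hfs, ← map_sub,
        ← sub_mul, ← map_sub, ← ha', Algebra.smul_def, map_mul τ, hO.ext, mul_assoc, ← Algebra.smul_def, map_smul]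
      rw [show Algebra.trace F K (τ e * s) = 0 from hs, smul_zero]
    have h1 := (M - LinearMap.id).finrank_range_add_finrank_ker
    have h2 := Submodule.finrank_mono hker
    have h3 := f₁.finrank_range_add_finrank_ker
    have h4 := Submodule.finrank_le (LinearMap.range f₁)
    rw [finrank_self] at h4
    omega
  by_cases hex : ∃ j, τ j = -j ∧ L ∘ₗ LinearMap.mulLeft F j ∘ₗ M - LinearMap.mulLeft F j ≠ 0
  · obtain ⟨j, hj, hne⟩ := hex
    refine ⟨_, hne, ?_, hconj j hj⟩
    have hle : LinearMap.range (L ∘ₗ LinearMap.mulLeft F j ∘ₗ M - LinearMap.mulLeft F j) ≤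
        LinearMap.range (L - LinearMap.id) ⊔ (LinearMap.range (M - LinearMap.id)).map (LinearMap.mulLeft F j) := by
      rintro _ ⟨t, rfl⟩
      refine Submodule.mem_sup.2 ⟨_, LinearMap.mem_range_self _ (j * M t), _,
        Submodule.mem_map_of_mem (LinearMap.mem_range_self _ t), ?_⟩
      simp [mul_sub]
    have h1 := Submodule.finrank_mono hle
    have h2 := Submodule.finrank_add_le_finrank_add_finrank (LinearMap.range (L - LinearMap.id))
      ((LinearMap.range (M - LinearMap.id)).map (LinearMap.mulLeft F j))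
    have h3 := Submodule.finrank_map_le (LinearMap.mulLeft F j) (LinearMap.range (M - LinearMap.id))
    omega
  · push Not at hex
    exfalso
    have hall : ∀ c t : K, L (c * M t) = c * t := fun c t => by
      obtain ⟨j₁, j₂, a, h₁, h₂, rfl⟩ := hO.skew_span c
      have e₁ := LinearMap.congr_fun (sub_eq_zero.1 (hex j₁ h₁)) t
      have e₂ := LinearMap.congr_fun (sub_eq_zero.1 (hex j₂ h₂)) t
      simp only [LinearMap.comp_apply, LinearMap.mulLeft_apply] at e₁ e₂
      rw [add_mul, smul_mul_assoc, map_add, map_smul, e₁, e₂, add_mul, smul_mul_assoc]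
    set t₁ := b v (m f)
    have ht₁ : M t₁ = 1 := by rw [← hM, inv_apply, hf]
    have hlin : ∀ c, L c = c * t₁ := fun c => by rw [← hall, ht₁, mul_one]
    obtain ⟨t₀, ht₀, ht₀0⟩ : ∃ t₀ ∈ UK, t₀ ≠ 0 := Submodule.exists_mem_ne_zero_of_ne_bot fun h => by
      rw [h, finrank_bot] at hUK
      exact hU0 (Submodule.finrank_eq_zero.1 hUK.symm)
    have h1 : t₁ = 1 := mul_left_cancel₀ ht₀0 (by rw [← hlin, hfix _ ht₀, mul_one])
    obtain ⟨a, ha, rfl⟩ := hy₁
    obtain ⟨t, rfl⟩ := mem_ln.1 ha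
    refine hy₁k ?_
    have h2 : n (g (t • v)) = g (t • v) := by rw [← hgm, hL, hlin, h1, mul_one]
    rw [hnx, add_eq_left, smul_eq_zero] at h2
    exact h2.resolve_right hv0

end Cfsg.Agent.ClassicalMax.ExtField.Unit
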